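import Groth.Agent.AlgSp.K613.Diag
import Groth.Agent.AlgSp.K596.QC2
import Groth.Agent.AlgSp.K609.Points
import Groth.Prelude.Def_AlgSp4

/-!
# Quasi-compact and quasi-separated spaces over a space
-/

set_option autoImplicit false
universe u

open CategoryTheory CategoryTheory.Limits AlgebraicGeometry Opposite

namespace K636.QcqsOver

open AlgSp

variable {S : Scheme.{u}}

theorem repWith_diag_of_diagonal {Pr : MorphismProperty Scheme.{u}} [Pr.IsStableUnderBaseChange]
    [Pr.IsStableUnderComposition] {X Y : Sp S} {f : X ⟶ Y} (hf : RepWith Pr (pullback.diagonal f))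
    (hY : RepWith Pr (Limits.diag Y)) : RepWith Pr (Limits.diag X) := by
  rw [K613.Diag.repWith_diagonal_iff] at hf
  rw [K613.Chart.repWith_diag_iff] at hY ⊢
  intro T a b
  obtain ⟨E, e, he, hP⟩ := hY T (a ≫ f) (b ≫ f)
  obtain ⟨E', e', he', hP'⟩ := hf E ((yon S).map e ≫ a) ((yon S).map e ≫ b) (by simpa using he.w)
  refine ⟨E', e' ≫ e, ⟨?_, fun R r hr => ?_⟩, Pr.comp_mem _ _ hP' hP⟩
  · simpa using he'.w
  · obtain ⟨r₁, hr₁, hr₁'⟩ := he.lift R r (by rw [← Category.assoc, ← Category.assoc, hr])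
    obtain ⟨r₂, hr₂, hr₂'⟩ := he'.lift R r₁ (by
      rw [← Category.assoc, ← Functor.map_comp, hr₁, ← Category.assoc, ← Functor.map_comp, hr₁, hr])
    refine ⟨r₂, ?_, fun z hz => ?_⟩
    · dsimp only
      rw [← Category.assoc, hr₂, hr₁]
    · dsimp only at hz
      rw [← Category.assoc] at hz
      exact hr₂' z (hr₁' _ hz)

theorem isQuasiSeparatedSp_of_mor {X Y : Sp S} {f : X ⟶ Y} (hf : IsQuasiSeparatedMor f)
    (hY : IsQuasiSeparatedSp Y) : IsQuasiSeparatedSp X := repWith_diag_of_diagonal hf hY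

theorem isQuasiCompactSp_of_mor {X Y : Sp S} {f : X ⟶ Y} (hf : IsQuasiCompactMor f) (hY' : IsAlgSpace Y)
    (hY : IsQuasiCompactSp Y) : IsQuasiCompactSp X :=
  hf hY' hY (𝟙 Y) (𝟙 X) f (IsPullback.of_horiz_isIso ⟨by simp⟩)

/-- A closed immersion followed by a finite morphism is finite. -/
theorem isFiniteMor_closed_comp {X Y Z : Sp S} {i : X ⟶ Y} {π : Y ⟶ Z} (hi : RepWith @IsClosedImmersion i)
    (hπ : IsFiniteMor π) : IsFiniteMor (i ≫ π) := by
  intro T hT g
  obtain ⟨W, w, a, sq, hW, hw⟩ := hπ hT g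
  obtain ⟨V, v, b, sq'⟩ := hi.1 a
  have hv : IsClosedImmersion v.left := hi.2 a b v sq'
  refine ⟨V, v ≫ w, b, ?_, isAffine_of_isAffineHom v.left, ?_⟩
  · rw [Functor.map_comp]
    exact (sq'.flip.paste_horiz sq.flip).flip
  · change IsFinite (v.left ≫ w.left)
    infer_instance

end K636.QcqsOver
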