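import Groth.Agent.AlgSp.K621.Decent
import Groth.Agent.AlgSp.K596.QC2
import Groth.Agent.AlgSp.K597.LocP
import Groth.Agent.AlgSp.K597.EtLoc

/-!
# A quasi-separated algebraic space locally of finite type over an affine scheme with finitely many points
is locally quasi-finite
-/

set_option autoImplicit false
universe u

open CategoryTheory CategoryTheory.Limits AlgebraicGeometry Opposite

namespace K636.FinLqf

open AlgSp K621.Base K621.Decent

variable {S : Scheme.{u}}

/-- A quasi-separated space over an affine scheme has only quasi-compact points. -/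
theorem qcPoint {Z : Sp S} (hZ : IsAlgSpace Z) {T : Over S} [IsAffine T.left] (f : Z ⟶ (yon S).obj T)
    (hf : IsQuasiSeparatedMor f) (x : Points Z) : QCPoint Z x := by
  induction x using Points.ind with
  | h p =>
  refine ⟨p, rfl, ?_⟩
  refine K596.QC.repWith_of_isQuasiCompactMor (hZ.representable_from_yon _) ?_
  refine K596.QC2.isQuasiCompactMor_of_comp (IsAlgSpace.yon_obj _) hZ (g := f) ?_ hf
  obtain ⟨h, hh⟩ := (yon S).map_surjective (p.toHom ≫ f)
  rw [← hh]
  refine K596.QC.isQuasiCompactMor_of_repWith ((repWith_yon_map_iff _ _).2 ?_)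
  have : IsAffine p.pt.left := inferInstanceAs (IsAffine (Spec (.of p.K)))
  change QuasiCompact h.left
  infer_instance

theorem locP_lqf_of_finite {Z : Sp S} (hZ : IsAlgSpace Z) {T : Over S} [IsAffine T.left]
    (f : Z ⟶ (yon S).obj T) (hf : IsQuasiSeparatedMor f) (hl : LocP @LocallyOfFiniteType f) [Finite (Points Z)] :
    LocP (@LocallyQuasiFinite ⊓ @LocallyOfFiniteType) f := by
  refine K597.locP_of_local K597.etLoc_lqf f fun U' a' ha' x => ?_
  obtain ⟨W, hxW, -, hW⟩ := exists_affine_openChart x ⊤ trivial
  let a := (yon S).map (openChartι U' W) ≫ a'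
  have ha : RepWith @Etale a := repWith_openChart ha' W
  obtain ⟨h, hh⟩ := (yon S).map_surjective (a ≫ f)
  have hb : RepWith @Etale (𝟙 ((yon S).obj T)) := repWith_id _ T
  refine ⟨openChart U' W, T, openChart U' W, a, 𝟙 _, h, 𝟙 _, openChartι U' W, hb, by simp [hh], ?_, by simp [a],
    ?_, ?_, ?_⟩
  · have h1 : LocallyOfFiniteType h.left := hl a (𝟙 _) h ha hb (by simp [hh])
    refine ⟨?_, h1⟩
    have : Finite ↥(openChart U' W).left := by
      have : (Set.univ : Set ↥(openChart U' W).left) = ⋃ x : Points Z, Points.ofPt a ⁻¹' {x} := by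
        ext; simp
      rw [← Set.finite_univ_iff, this]
      exact Set.finite_iUnion fun x => finite_fibre_of_compact (qcPoint hZ f hf x) ha
    exact LocallyQuasiFinite.of_finite_preimage_singleton _ fun x => Set.toFinite _
  · change Etale (𝟙 _)
    infer_instance
  · change Etale W.ι
    infer_instance
  · exact ⟨⟨x, hxW⟩, rfl⟩

end K636.FinLqf
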