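import Groth.Agent.AlgSp.K609.Points
import Groth.Prelude.Def_AlgSp4

/-!
# Small formal lemmas: universal notions, open immersions on points, diagonals
-/

set_option autoImplicit false
universe u

open CategoryTheory CategoryTheory.Limits AlgebraicGeometry Opposite

namespace K636.Basic

open AlgSp

variable {S : Scheme.{u}}

/-- The universal notions are stable under base change along morphisms of sheaves. -/
theorem univSp_of_isPullback {Q : MorphismProperty (Sp S)} {F G F' G' : Sp S} {f : F ⟶ G} {g : G' ⟶ G}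
    {fst : F' ⟶ F} {f' : F' ⟶ G'} (sq : IsPullback fst f' f g) (hf : UnivSp Q f) : UnivSp Q f' := by
  intro Z Z' hZ h fst' snd' sq'
  exact hf hZ (h ≫ g) (fst' ≫ fst) snd' (sq'.paste_horiz sq)

theorem of_univSp {Q : MorphismProperty (Sp S)} {X Y : Space S} {f : X ⟶ Y} (hf : UnivSp Q f.hom) : Q f.hom :=
  hf Y.property (𝟙 _) (𝟙 _) f.hom (IsPullback.of_horiz_isIso ⟨by simp⟩)

theorem isClosedMor_comp {F G H : Sp S} {f : F ⟶ G} {g : G ⟶ H} (hf : IsClosedMor f) (hg : IsClosedMor g) :
    IsClosedMor (f ≫ g) := by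
  have : Points.map (f ≫ g) = Points.map g ∘ Points.map f := funext fun x => Points.map_comp _ _ _
  change IsClosedMap _
  rw [this]
  exact IsClosedMap.comp hg hf

theorem isOpenMor_comp {F G H : Sp S} {f : F ⟶ G} {g : G ⟶ H} (hf : IsOpenMor f) (hg : IsOpenMor g) :
    IsOpenMor (f ≫ g) := by
  have : Points.map (f ≫ g) = Points.map g ∘ Points.map f := funext fun x => Points.map_comp _ _ _
  change IsOpenMap _
  rw [this]
  exact IsOpenMap.comp hg hf

theorem map_bijective_of_isIso {F G : Sp S} (e : F ⟶ G) [IsIso e] : Function.Bijective (Points.map e) := by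
  constructor
  · intro x y hxy
    have := congrArg (Points.map (inv e)) hxy
    rwa [← Points.map_comp, ← Points.map_comp, IsIso.hom_inv_id, Points.map_id, Points.map_id] at this
  · intro y
    exact ⟨Points.map (inv e) y, by rw [← Points.map_comp, IsIso.inv_hom_id, Points.map_id]⟩

/-- A representable open immersion is an open map on points. -/
theorem isOpenMap_of_openImmersion {F G : Sp S} {j : F ⟶ G} (hj : RepWith @IsOpenImmersion j) :
    IsOpenMap (Points.map j) :=
  K609.Points.isOpenMap_map (K609.Points.repWith_mono (fun _ h => by have := h; infer_instance) hj)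

/-- The diagonal for an arbitrary self fibre product with algebraic corner. -/
theorem exists_diag {X Y XX : Space S} {f : X ⟶ Y} {pr0 pr1 : XX ⟶ X} (h : IsPullback pr0.hom pr1.hom f.hom f.hom) :
    ∃ d : X ⟶ XX, d ≫ pr0 = 𝟙 X ∧ d ≫ pr1 = 𝟙 X := by
  refine ⟨ObjectProperty.homMk (h.lift (𝟙 _) (𝟙 _) rfl), ?_, ?_⟩
  · ext1; exact h.lift_fst _ _ _
  · ext1; exact h.lift_snd _ _ _

/-- `d` is `pullback.diagonal` up to the comparison isomorphism. -/
theorem diag_eq {X Y XX : Space S} {f : X ⟶ Y} {pr0 pr1 : XX ⟶ X} (h : IsPullback pr0.hom pr1.hom f.hom f.hom)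
    {d : X ⟶ XX} (h0 : d ≫ pr0 = 𝟙 X) (h1 : d ≫ pr1 = 𝟙 X) : d.hom ≫ h.isoPullback.hom = pullback.diagonal f.hom := by
  apply pullback.hom_ext
  · rw [Category.assoc, h.isoPullback_hom_fst, pullback.diagonal_fst]
    exact congrArg (fun φ => φ.hom) h0
  · rw [Category.assoc, h.isoPullback_hom_snd, pullback.diagonal_snd]
    exact congrArg (fun φ => φ.hom) h1

theorem repWith_diag_iff (P : MorphismProperty Scheme.{u}) {X Y XX : Space S} {f : X ⟶ Y} {pr0 pr1 : XX ⟶ X}
    (h : IsPullback pr0.hom pr1.hom f.hom f.hom) {d : X ⟶ XX} (h0 : d ≫ pr0 = 𝟙 X) (h1 : d ≫ pr1 = 𝟙 X) :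
    RepWith P (pullback.diagonal f.hom) ↔ RepWith P d.hom := by
  rw [← diag_eq h h0 h1]
  exact MorphismProperty.cancel_right_of_respectsIso (RepWith P) _ _

theorem surjective_diag_iff {X Y XX : Space S} {f : X ⟶ Y} {pr0 pr1 : XX ⟶ X}
    (h : IsPullback pr0.hom pr1.hom f.hom f.hom) {d : X ⟶ XX} (h0 : d ≫ pr0 = 𝟙 X) (h1 : d ≫ pr1 = 𝟙 X) :
    IsSurjectiveMor (pullback.diagonal f.hom) ↔ Function.Surjective (Points.map d.hom) := by
  rw [← diag_eq h h0 h1]
  change Function.Surjective _ ↔ _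
  have : Points.map (d.hom ≫ h.isoPullback.hom) = Points.map h.isoPullback.hom ∘ Points.map d.hom :=
    funext fun x => Points.map_comp _ _ _
  rw [this]
  have hb := map_bijective_of_isIso h.isoPullback.hom
  refine ⟨fun hs y => ?_, fun hs => hb.2.comp hs⟩
  obtain ⟨x, hx⟩ := hs (Points.map h.isoPullback.hom y)
  exact ⟨x, hb.1 hx⟩

end K636.Basic
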