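import Groth.Agent.AlgSp.K597.LocP
import Groth.Agent.AlgSp.K597.EtLoc
import Groth.Agent.AlgSp.K621.Base
import Groth.Agent.AlgSp.K610.OpenImm
import Groth.Agent.S10195

/-!
# `LocP P f` versus "`P` near every point"
-/

set_option autoImplicit false
universe u

open CategoryTheory CategoryTheory.Limits AlgebraicGeometry Opposite

namespace K636.Near

open AlgSp

variable {S : Scheme.{u}} {P : MorphismProperty Scheme.{u}}

/-- `P` near the point `x`, in the some-chart form. -/
abbrev NearAt (P : MorphismProperty Scheme.{u}) {F G : Sp S} (f : F ⟶ G) (x : Points F) : Prop :=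
  HasAtMor (fun U _ h u => ∃ W : U.Opens, u ∈ W ∧ P (W.ι ≫ h)) f x

/-- A chart diagram through a point, with arbitrary target atlas. -/
theorem exists_diagram {F G : Sp S} (hF : IsAlgSpace F) (hG : K597.HasAtlas G) (f : F ⟶ G) (x : Points F) :
    ∃ (U V : Over S) (a : (yon S).obj U ⟶ F) (b : (yon S).obj V ⟶ G) (h : U ⟶ V) (u : ↥U.left),
      RepWith @Etale a ∧ RepWith @Etale b ∧ a ≫ f = (yon S).map h ≫ b ∧ Points.ofPt a u = x := by
  obtain ⟨U, a, u, ha, hu⟩ := K621.Base.exists_chart hF x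
  obtain ⟨T, b, hb, hbs⟩ := hG
  obtain ⟨R, r, c, sqR, hc⟩ := K597.exists_sq2 hb (a ≫ f)
  have hcs : Surjective c.left := K597.repWith_prop hbs sqR
  obtain ⟨z, hz⟩ := hcs.surj u
  refine ⟨R, T, (yon S).map c ≫ a, b, r, z,
    K621.Base.repWith_etale_comp (K621.Base.repWith_etale_map hc) ha, hb, ?_, ?_⟩
  · rw [Category.assoc]; exact sqR.w.symm
  · rw [K621.Base.ofPt_comp, hz, hu]

theorem locP_iff (hP : K597.EtLoc P) {F G : Sp S} (hF : IsAlgSpace F) (hG : K597.HasAtlas G) (f : F ⟶ G) :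
    LocP P f ↔ ∀ x : Points F, NearAt P f x := by
  constructor
  · intro h x
    obtain ⟨U, V, a, b, k, u, ha, hb, hk, hu⟩ := exists_diagram hF hG f x
    exact ⟨U, V, a, b, k, u, ha, hb, hk, hu, ⊤, trivial, hP.precomp _ _ inferInstance (h a b k ha hb hk)⟩
  · intro h
    refine K597.locP_of_local hP f fun U' a' ha' x => ?_
    obtain ⟨U, V, a, b, k, u, ha, hb, hk, hu, W, huW, hW⟩ := h (Points.ofPt a' x)
    have ha₁ : RepWith @Etale ((yon S).map (K621.Base.openChartι U W) ≫ a) := K621.Base.repWith_openChart ha W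
    obtain ⟨R, p, q, sq, hq⟩ := K597.exists_sq2 ha₁ a'
    have hp : Etale p.left := K597.repWith_prop' ha' sq
    obtain ⟨r, -, hr⟩ := K621.Base.exists_point_of_isPullback sq (show ↥(K621.Base.openChart U W).left from ⟨u, huW⟩) x
      (by rw [K621.Base.ofPt_openChart]; exact hu)
    refine ⟨K621.Base.openChart U W, V, R, (yon S).map (K621.Base.openChartι U W) ≫ a, b,
      K621.Base.openChartι U W ≫ k, p, q, hb, ?_, hW, sq.w, hp, hq, r, hr⟩
    rw [Category.assoc, hk, Functor.map_comp, Category.assoc]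

/-- `P` near `x` iff some open subspace through `x` has `P` over the target. -/
theorem nearAt_iff (hP : K597.EtLoc P) {X Y : Space S} (f : X ⟶ Y) (x : Points X.obj) :
    NearAt P f.hom x ↔ ∃ (X' : AlgSp.Space S) (j : X' ⟶ X), AlgSp.RepWith @IsOpenImmersion j.hom ∧
      x ∈ Set.range (AlgSp.Points.map j.hom) ∧ AlgSp.LocP P (j ≫ f).hom := by
  constructor
  · rintro ⟨U, V, a, b, k, u, ha, hb, hk, hu, W, huW, hW⟩
    have ha₁ : RepWith @Etale ((yon S).map (K621.Base.openChartι U W) ≫ a) := K621.Base.repWith_openChart ha W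
    obtain ⟨X', j, hj, hr⟩ := Groth.Agent.S10195.result X _ (K621.Base.isOpenMap_ofPt ha₁).isOpen_range
    obtain ⟨a₂, ha₂, ha₂', ha₂s⟩ := K610.OpenImm.exists_corestrict X.property hj hr @Etale ha₁
    refine ⟨X', j, hj, ?_, ?_⟩
    · rw [hr]
      exact ⟨(show ↥(K621.Base.openChart U W).left from ⟨u, huW⟩), by rw [K621.Base.ofPt_openChart]; exact hu⟩
    · refine K597.locP_of_chart hP _ a₂ b (K621.Base.openChartι U W ≫ k) ha₂' ha₂s hb ?_ hW
      change a₂ ≫ j.hom ≫ f.hom = _
      rw [← Category.assoc, ha₂, Category.assoc, hk, Functor.map_comp, Category.assoc]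
  · rintro ⟨X', j, hj, ⟨x', rfl⟩, h⟩
    obtain ⟨U, V, a, b, k, u, ha, hb, hk, hu, W, huW, hW⟩ := (locP_iff hP X'.property Y.property.hasAtlas _).1 h x'
    refine ⟨U, V, a ≫ j.hom, b, k, u, (RepWith @Etale).comp_mem _ _ ha (K610.OpenImm.repWith_etale_of_open hj), hb, ?_, ?_,
      W, huW, hW⟩
    · rw [Category.assoc]; exact hk
    · rw [← Points.map_ofPt, hu]

end K636.Near
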