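import Groth.Agent.AlgSp.K636.Where
import Groth.Agent.AlgSp.K636.Basic
import Groth.Agent.S10313
import Groth.Agent.AlgSp.K636.Near

/-!
# The quasi-finite locus
-/

set_option autoImplicit false
universe u

open CategoryTheory CategoryTheory.Limits AlgebraicGeometry Opposite

namespace K636.QfLocus

open AlgSp K636.Where

variable {S : Scheme.{u}}

/-- The quasi-finite locus of `f` in `|X|`. -/
def qfSet {X Y : Space S} (f : X ⟶ Y) : Set (Points X.obj) :=
  {x : AlgSp.Points X.obj | AlgSp.HasAtMor (fun U _ h u => ∃ W : U.Opens, u ∈ W ∧ LocallyQuasiFinite (W.ι ≫ h) ∧ LocallyOfFiniteType (W.ι ≫ h)) f.hom x}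

theorem locP_iff {X Y : Space S} (f : X ⟶ Y) :
    LocP (@LocallyQuasiFinite ⊓ @LocallyOfFiniteType) f.hom ↔ qfSet f = Set.univ := by
  rw [K636.Near.locP_iff K597.etLoc_lqf X.property Y.property.hasAtlas f.hom, Set.eq_univ_iff_forall]
  rfl

/-- The quasi-finite locus is open and commutes with base change. -/
theorem qfSet_spec {X Y : Space S} (f : X ⟶ Y) (hf : LocP @LocallyOfFiniteType f.hom) :
    IsOpen (qfSet f) ∧ ∀ (Y' X' : Space S) (g : Y' ⟶ Y) (b : X' ⟶ X) (f' : X' ⟶ Y'),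
      IsPullback b.hom f'.hom f.hom g.hom → qfSet f' = Points.map b.hom ⁻¹' qfSet f := by
  obtain ⟨X₁, j, hj, -, -, h⟩ := Groth.Agent.S10313.result f hf
  have h1 : qfSet f = Set.range (Points.map j.hom) := by
    ext x
    have := h Y X (𝟙 Y) (𝟙 X) f (IsPullback.of_horiz_isIso ⟨by simp⟩) x
    rw [show (𝟙 X : X ⟶ X).hom = 𝟙 _ from rfl, Points.map_id] at this
    exact this.symm
  refine ⟨by rw [h1]; exact (K636.Basic.isOpenMap_of_openImmersion hj).isOpen_range, fun Y' X' g b f' sq => ?_⟩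
  ext x'
  rw [h1]
  exact (h Y' X' g b f' sq x').symm

end K636.QfLocus
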