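import Groth.Agent.AlgSp.K636.ApproxMain
import Groth.Agent.AlgSp.K634.FiniteMor
import Groth.Agent.AlgSp.K618.ClosedPt

/-!
# Integral morphisms are limits of finite morphisms of finite presentation
-/

set_option autoImplicit false
universe u
open CategoryTheory CategoryTheory.Limits AlgebraicGeometry Opposite
open AlgSp K598.RepKit K636.EdExt K636.Im

namespace K636.ApproxMain

open K636.ApproxCat

variable {S : Scheme.{u}}

/-- A finite family of `Q`-spaces under `X` is dominated by one. -/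
theorem exists_common' (Q : MorphismProperty Scheme.{u}) [Q.IsMultiplicative] [Q.IsStableUnderBaseChange]
    {W X : Sp S} {x : X ⟶ W} {ι : Type*} (s : Finset ι) (P : ι → ∀ (E : Sp S) (_ : E ⟶ W) (_ : X ⟶ E), Prop)
    (h : ∀ i ∈ s, ∃ (E : Sp S) (e : E ⟶ W) (g : X ⟶ E), RepWith Q e ∧ g ≫ e = x ∧ P i E e g) :
    ∃ (E : Sp S) (e : E ⟶ W) (g : X ⟶ E), RepWith Q e ∧ g ≫ e = x ∧ ∀ i ∈ s, ∃ (E' : Sp S) (e' : E' ⟶ W) (g' : X ⟶ E')
      (φ : E ⟶ E'), RepWith Q e' ∧ g' ≫ e' = x ∧ φ ≫ e' = e ∧ g ≫ φ = g' ∧ P i E' e' g' := by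
  classical
  induction s using Finset.induction_on with
  | empty => exact ⟨W, 𝟙 W, x, repWith_of_isIso _, Category.comp_id _, fun i hi => by simp at hi⟩
  | insert i s hi ih =>
    obtain ⟨E, e, g, he, hg, H⟩ := ih fun k hk => h k (Finset.mem_insert_of_mem hk)
    obtain ⟨E₁, e₁, g₁, he₁, hg₁, H₁⟩ := h i (Finset.mem_insert_self i s)
    have sq : IsPullback (pullback.fst e e₁) (pullback.snd e e₁) e e₁ := IsPullback.of_hasPullback _ _
    refine ⟨pullback e e₁, pullback.fst e e₁ ≫ e, pullback.lift g g₁ (by rw [hg, hg₁]), ?_, ?_, ?_⟩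
    · exact (repWith_isMultiplicative (S := S) Q).comp_mem _ _ (repWith_of_isPullback sq.flip he₁) he
    · rw [pullback.lift_fst_assoc, hg]
    · intro k hk
      rcases Finset.mem_insert.1 hk with rfl | hk
      · exact ⟨E₁, e₁, g₁, pullback.snd e e₁, he₁, hg₁, pullback.condition.symm, pullback.lift_snd _ _ _, H₁⟩
      · obtain ⟨E', e', g', φ, he', hg', h1, h2, h3⟩ := H k hk
        exact ⟨E', e', g', pullback.fst e e₁ ≫ φ, he', hg', by rw [Category.assoc, h1],
          by rw [pullback.lift_fst_assoc, h2], h3⟩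

instance cf_isMultiplicative : (CF.{u}).IsMultiplicative where
  id_mem X := ⟨(inferInstance : IsClosedImmersion (𝟙 X)), (inferInstance : LocallyOfFinitePresentation (𝟙 X))⟩
  comp_mem f g hf hg := ⟨MorphismProperty.comp_mem @IsClosedImmersion f g hf.1 hg.1,
    MorphismProperty.comp_mem @LocallyOfFinitePresentation f g hf.2 hg.2⟩

/-- Killing finitely many functions on an affine etale chart. -/
theorem exists_kill_finset [QuasiSeparatedSpace ↥S] {E X : Sp S} (hE : IsAlgSpace E) (hEc : IsQuasiCompactSp E)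
    (hEs : IsQuasiSeparatedSp E) {g : X ⟶ E} (hg : IsQuasiCompactMor g) {T : Over S} (hT : IsAffine T.left)
    {a : (yon S).obj T ⟶ E} (ha : RepWith @Etale a) {XT : Over S} {ξ : (yon S).obj XT ⟶ X} {h : XT ⟶ T}
    (sq : IsPullback ξ ((yon S).map h) g a) (F : Finset Γ(T.left, ⊤)) (hc : ∀ c ∈ F, h.left.appTop.hom c = 0) :
    ∃ (Z : Sp S) (z : Z ⟶ E) (g' : X ⟶ Z), RepWith CF z ∧ g' ≫ z = g ∧
      ∀ (R : Over S) (q : R ⟶ T) (ζ : (yon S).obj R ⟶ Z), ζ ≫ z = (yon S).map q ≫ a →
        ∀ c ∈ F, q.left.appTop.hom c = 0 := by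
  obtain ⟨Z, z, g', hz, hg', H⟩ := exists_common' CF (x := g) F (fun c Z z _ =>
    ∀ (R : Over S) (q : R ⟶ T) (ζ : (yon S).obj R ⟶ Z), ζ ≫ z = (yon S).map q ≫ a → q.left.appTop.hom c = 0)
    (fun c hcF => Kill.exists_kill hE hEc hEs hg hT ha sq c (hc c hcF))
  refine ⟨Z, z, g', hz, hg', fun R q ζ hζ c hcF => ?_⟩
  obtain ⟨Z', z', g'', φ, -, -, h1, -, h3⟩ := H c hcF
  exact h3 R q (ζ ≫ φ) (by rw [Category.assoc, h1, hζ])

/-- A quotient of a finitely generated algebra in which the generators become integral is finite. -/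
theorem finite_of_gen {A B C : Type u} [CommRing A] [CommRing B] [CommRing C] (f : A →+* B) (g : B →+* C)
    (hg : Function.Surjective g) (G : Finset B) (hG : letI := f.toAlgebra; Algebra.adjoin A (G : Set B) = ⊤)
    (hint : ∀ b ∈ G, (g.comp f).IsIntegralElem (g b)) : (g.comp f).Finite := by
  letI := f.toAlgebra
  letI := g.toAlgebra
  letI := (g.comp f).toAlgebra
  have : IsScalarTower A B C := IsScalarTower.of_algebraMap_eq' rfl
  have h1 : (g.comp f).IsIntegral := by
    have h2 : ∀ b : B, IsIntegral A (g b) := by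
      intro b
      have hb : b ∈ Algebra.adjoin A (G : Set B) := by rw [hG]; trivial
      have h3 : Algebra.adjoin A (G : Set B) ≤ (integralClosure A C).comap (IsScalarTower.toAlgHom A B C) :=
        Algebra.adjoin_le fun b hb => hint b hb
      exact h3 hb
    intro c
    obtain ⟨b, rfl⟩ := hg c
    exact h2 b
  refine h1.to_finite ?_
  have h4 : f.FiniteType := ⟨⟨G, hG⟩⟩
  exact (RingHom.FiniteType.of_surjective g hg).comp h4

/-- Finite and of finite presentation. -/
abbrev FF : MorphismProperty Scheme.{u} := @IsFinite ⊓ @LocallyOfFinitePresentation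

instance ff_isMultiplicative : (FF.{u}).IsMultiplicative where
  id_mem X := ⟨(inferInstance : IsFinite (𝟙 X)), (inferInstance : LocallyOfFinitePresentation (𝟙 X))⟩
  comp_mem f g hf hg := ⟨MorphismProperty.comp_mem @IsFinite f g hf.1 hg.1,
    MorphismProperty.comp_mem @LocallyOfFinitePresentation f g hf.2 hg.2⟩

instance : (FF.{u}).IsStableUnderBaseChange :=
  inferInstanceAs (MorphismProperty.IsStableUnderBaseChange (@IsFinite ⊓ @LocallyOfFinitePresentation))

/-- An affine space of finite presentation under an integral space is dominated by a finite one. -/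
theorem exists_finite [QuasiSeparatedSpace ↥S] (Y : Space S) (hYc : IsQuasiCompactSp Y.obj)
    (hYs : IsQuasiSeparatedSp Y.obj) {X : Sp S} (x : X ⟶ Y.obj) (hx : IsIntegralMor x) (E : Sp S) (e : E ⟶ Y.obj)
    (g : X ⟶ E) (he : RepWith AF e) (hg : g ≫ e = x) :
    ∃ (Z : Sp S) (z : Z ⟶ E) (g' : X ⟶ Z), RepWith CF z ∧ g' ≫ z = g ∧ RepWith FF (z ≫ e) := by
  classical
  have hxi : RepWith @IsIntegralHom x := K634.FiniteMor.isIntegralMor_iff.1 hx
  have hxM : IsAffineMor x := K604.LimFin.isAffineMor_of_isIntegralMor hx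
  have hX : IsAlgSpace X := K600.LimSpace.isAlgSpace_of_isAffineMor hxM Y.property
  have hXc : IsQuasiCompactSp X := K601.RelAff.isQuasiCompactSp_of_affine hxM hYc
  have heM : IsAffineMor e := isAffineMor_of_af he
  have hE : IsAlgSpace E := isAlgSpace_of_af Y.property he
  have hEc : IsQuasiCompactSp E := K601.RelAff.isQuasiCompactSp_of_affine heM hYc
  have hEs : IsQuasiSeparatedSp E := K601.RelAff.isQuasiSeparatedSp_of_affine heM hYs
  have hgq : IsQuasiCompactMor g := K596.QC2.isQuasiCompactMor_of_qc_of_qs hX hE g hXc hEs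
  obtain ⟨U, p, hUa, hp, hp'⟩ := K600.LimAff.exists_affine_chart hYc
  obtain ⟨XU, xU, ξ, sqX⟩ := hxi.1 p
  have hxU : IsIntegralHom xU.left := hxi.2 _ _ _ sqX
  have hXU : IsAffine XU.left := isAffine_of_isAffineHom xU.left
  obtain ⟨EU, ε, eU, h, sqE, h1, h2⟩ := exists_comp he.1 hg sqX.w
  have heU : AF eU.left := he.2 _ _ _ sqE
  have heUa : IsAffineHom eU.left := heU.1
  have heUp : LocallyOfFinitePresentation eU.left := heU.2
  have hEU : IsAffine EU.left := isAffine_of_isAffineHom eU.left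
  have hε : RepWith @Etale ε := repWith_of_isPullback sqE.flip hp
  have sqg : IsPullback ξ ((yon S).map h) g ε := by
    refine IsPullback.of_bot ?_ h1.symm sqE
    rw [hg, ← Functor.map_comp, h2]
    exact sqX
  -- generators
  have hft : eU.left.appTop.hom.FiniteType := by
    have h3 : LocallyOfFiniteType eU.left := inferInstance
    exact (HasRingHomProperty.iff_of_isAffine (P := @LocallyOfFiniteType)).1 h3
  obtain ⟨⟨G, hG⟩⟩ := hft
  have hint : ∀ b : Γ(EU.left, ⊤), xU.left.appTop.hom.IsIntegralElem (h.left.appTop.hom b) := fun b =>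
    IsIntegralHom.isIntegral_app xU.left ⊤ (isAffineOpen_top _) _
  choose P hPm hP using hint
  let F : Finset Γ(EU.left, ⊤) := G.image fun b => (P b).eval₂ eU.left.appTop.hom b
  have hxe : xU.left.appTop.hom = h.left.appTop.hom.comp eU.left.appTop.hom := by
    rw [← h2, Over.comp_left, Scheme.Hom.comp_appTop]
    rfl
  obtain ⟨Z, z, g', hz, hg', hkill⟩ := exists_kill_finset hE hEc hEs hgq hEU hε sqg F (by
    intro c hc
    obtain ⟨b, -, rfl⟩ := Finset.mem_image.1 hc
    rw [Polynomial.hom_eval₂, ← hxe]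
    exact hP b)
  refine ⟨Z, z, g', hz, hg', ?_⟩
  have hzA : RepWith AF z := repWith_mono (fun _ _ f hf => ⟨by
    have : IsClosedImmersion f := hf.1
    exact (inferInstance : IsAffineHom f), hf.2⟩) hz
  have hze : RepWith AF (z ≫ e) := (repWith_isMultiplicative (S := S) AF).comp_mem _ _ hzA he
  refine repWith_inf ?_ (repWith_mono (fun _ _ _ h => h.2) hze)
  -- the chart
  obtain ⟨ZU, w, ζ, sqZ⟩ := hz.1 ε
  have hw : IsClosedImmersion w.left := (hz.2 _ _ _ sqZ).1
  have sqZe : IsPullback ζ ((yon S).map (w ≫ eU)) (z ≫ e) p := by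
    rw [Functor.map_comp]
    exact sqZ.paste_vert sqE
  have hwf : IsFinite (w ≫ eU).left := by
    rw [Over.comp_left, HasAffineProperty.iff_of_isAffine (P := @IsFinite)]
    refine ⟨isAffine_of_isAffineHom w.left, ?_⟩
    have hws : Function.Surjective w.left.appTop.hom := (IsClosedImmersion.isAffine_surjective_of_isAffine w.left).2
    rw [Scheme.Hom.comp_appTop]
    refine finite_of_gen eU.left.appTop.hom w.left.appTop.hom hws G hG fun b hb => ⟨P b, hPm b, ?_⟩
    rw [← Polynomial.hom_eval₂]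
    exact hkill ZU w ζ sqZ.w _ (Finset.mem_image_of_mem _ hb)
  have hFp : K613.Cover.FSurj p := K613.Cover.FSurj.of_repWith (K598.Charts.repWith_flat_of_etale hp)
    (K598.Charts.repWith_lfp_of_etale hp) hp'
  have := K618.ClosedPt.descendsAlong_isFinite_fppf.{u}
  exact hFp.repWith (Pr := @IsFinite) sqZe hze.1 ((repWith_yon_map_iff _ _).2 hwf)

end K636.ApproxMain

namespace K636.ApproxMain

open K636.ApproxCat

variable {S : Scheme.{u}}

theorem ff_le_af : FF.{u} ≤ AF := fun A B f hf => ⟨by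
  have : IsFinite f := hf.1
  exact (inferInstance : IsAffineHom f), hf.2⟩

theorem cf_le_ff : CF.{u} ≤ FF := fun A B f hf => ⟨by
  have : IsClosedImmersion f := hf.1
  exact (inferInstance : IsFinite f), hf.2⟩

theorem main_integral [QuasiSeparatedSpace ↥S] {X Y : AlgSp.Space S} (f : X ⟶ Y) (hf : AlgSp.IsIntegralMor f.hom)
    (hYqc : AlgSp.IsQuasiCompactSp Y.obj) (hYqs : AlgSp.IsQuasiSeparatedSp Y.obj) :
    ∃ (I : Type u) (_ : Preorder I) (_ : IsDirected I (fun a b => a ≤ b)) (_ : Nonempty I) (D : Iᵒᵖ ⥤ AlgSp.Sp S)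
      (t : D ⟶ (Functor.const Iᵒᵖ).obj Y.obj) (c : Cone D) (_ : IsLimit c) (e : c.pt ≅ X.obj),
      (∀ i, AlgSp.IsAlgSpace (D.obj i)) ∧ (∀ (i j : Iᵒᵖ) (φ : i ⟶ j), AlgSp.IsAffineMor (D.map φ)) ∧
      (∀ i, AlgSp.IsFiniteMor (t.app i) ∧ AlgSp.IsFinitePresentationMor (t.app i)) ∧
      (∀ i, e.inv ≫ c.π.app i ≫ t.app i = f.hom) := by
  obtain ⟨I, h1, h2, h3, F, ⟨hlim⟩⟩ := exists_limit FF ff_le_af cf_le_ff Y hYqc hYqs f.hom
    (K604.LimFin.isAffineMor_of_isIntegralMor hf)
    (fun E e g he hg => by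
      obtain ⟨Z, z, g', -, hg', hz⟩ := exists_finite Y hYqc hYqs f.hom hf E e g he hg
      exact ⟨Z, z ≫ e, g', z, hz, rfl, hg'⟩)
  have hAF : ∀ i, RepWith AF (F.obj i).e := fun i => repWith_mono ff_le_af (F.obj i).he
  let t : F ⋙ forget FF f.hom ⟶ (Functor.const Iᵒᵖ).obj Y.obj :=
    { app := fun i => (F.obj i).e
      naturality := fun i j φ => (w₁ (F.map φ)).trans (Category.comp_id _).symm }
  refine ⟨I, h1, h2, h3, F ⋙ forget FF f.hom, t, cone f.hom F, hlim, Iso.refl _, fun i => ?_, fun i j φ => ?_,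
    fun i => ?_, fun i => ?_⟩
  · exact isAlgSpace_of_af Y.property (hAF i)
  · refine isAffineMor_of_comp (g := (F.obj j).e) ?_ (isAffineMor_of_af (hAF j))
    have h4 : (F ⋙ forget FF f.hom).map φ ≫ (F.obj j).e = (F.obj i).e := w₁ (F.map φ)
    rw [h4]
    exact isAffineMor_of_af (hAF i)
  · exact ⟨K634.FiniteMor.isFiniteMor_iff.2 (repWith_mono (fun _ _ _ h => h.1) (F.obj i).he),
      isFinitePresentationMor_of_af Y.property (hAF i)⟩
  · exact (Category.id_comp _).trans (F.obj i).hg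

end K636.ApproxMain
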