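import Groth.Agent.AlgSp.K642.EtCov
import Groth.Agent.AlgSp.K594.Cover
import Groth.Agent.AlgSp.K609.Points
import Groth.Agent.AlgSp.K636.Basic
import Groth.Agent.S10195

/-!
# Decompositions into two disjoint open subspaces; descent of isomorphisms along jointly surjective families
-/

set_option autoImplicit false
universe u

open CategoryTheory CategoryTheory.Limits AlgebraicGeometry Opposite

namespace K636.Decomp

open AlgSp K642.Glue

variable {S : Scheme.{u}}

/-- Isomorphisms descend along jointly locally surjective families. -/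
theorem isIso_of_jls {ι : Type*} {F F' : Sp S} {U : ι → Sp S} {p : ∀ i, U i ⟶ F} (hp : JLS (J := AlgSp.J S) U p)
    (m : F' ⟶ F) {V : ι → Sp S} (a : ∀ i, V i ⟶ F') (b : ∀ i, V i ⟶ U i)
    (sq : ∀ i, IsPullback (a i) (b i) m (p i)) [∀ i, IsIso (b i)] : IsIso m := by
  obtain ⟨s, hs⟩ := hp.exists_hom (fun i => inv (b i) ≫ a i) (by
    intro i j T x y hxy
    change (a i).hom.app _ ((inv (b i)).hom.app _ x) = (a j).hom.app _ ((inv (b j)).hom.app _ y)
    have e1 : ∀ i (x : (U i).obj.obj (op T)), (b i).hom.app _ ((inv (b i)).hom.app _ x) = x := fun i x => by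
      have := congrArg (fun k => k.hom.app (op T) x) (IsIso.inv_hom_id (b i))
      exact this
    have e2 : ∀ i (x : (U i).obj.obj (op T)), m.hom.app _ ((a i).hom.app _ ((inv (b i)).hom.app _ x)) =
        (p i).hom.app _ x := fun i x => by
      have := congrArg (fun k => k.hom.app (op T) ((inv (b i)).hom.app _ x)) (sq i).w
      change m.hom.app _ ((a i).hom.app _ _) = (p i).hom.app _ ((b i).hom.app _ _) at this
      rw [this, e1]
    obtain ⟨c, hc1, hc2⟩ := pb_exists (sq i) ((a j).hom.app _ ((inv (b j)).hom.app _ y)) x (by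
      rw [e2, hxy])
    have hinj : Function.Injective ((b i).hom.app (op T)) := by
      intro x y hxy
      have h := congrArg ((inv (b i)).hom.app (op T)) hxy
      have e3 : ∀ z, (inv (b i)).hom.app (op T) ((b i).hom.app (op T) z) = z := fun z =>
        congrArg (fun k => k.hom.app (op T) z) (IsIso.hom_inv_id (b i))
      rwa [e3, e3] at h
    have : c = (inv (b i)).hom.app _ x := hinj (by rw [hc2, e1])
    rw [← this, hc1])
  have h1 : s ≫ m = 𝟙 _ := hp.hom_ext fun i => by
    rw [← Category.assoc, hs, Category.assoc, (sq i).w, IsIso.inv_hom_id_assoc, Category.comp_id]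
  have h2 : m ≫ s = 𝟙 _ := (hp.baseChange m b a (fun i => (sq i).flip)).hom_ext fun i => by
    rw [← Category.assoc, (sq i).w, Category.assoc, hs, IsIso.hom_inv_id_assoc, Category.comp_id]
  exact ⟨s, h2, h1⟩

/-- Isomorphisms are representable with any property stable under base change satisfied by identities. -/
theorem repWith_of_isIso (P : MorphismProperty Scheme.{u}) [P.IsStableUnderBaseChange] [P.ContainsIdentities]
    {F G : Sp S} (f : F ⟶ G) [IsIso f] : RepWith P f := by
  refine ⟨Functor.relativelyRepresentable.of_isIso _ f, fun U V g fst snd sq => ?_⟩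
  have : IsIso ((yon S).map snd) := sq.isIso_snd_of_isIso
  have : IsIso snd := isIso_of_fully_faithful (yon S) snd
  have : IsIso snd.left := inferInstanceAs (IsIso ((Over.forget S).map snd))
  have : P.RespectsIso := MorphismProperty.IsStableUnderBaseChange.respectsIso
  exact (P.arrow_mk_iso_iff (Arrow.isoMk (asIso snd.left) (Iso.refl _) (by simp))).2 (P.id_mem _)

/-- The two member family of sheaves. -/
def pr (V W : Sp S) : Bool → Sp S
  | true => V
  | false => W

/-- The two member family of morphisms. -/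
def prMap {P V W : Sp S} (jV : V ⟶ P) (jW : W ⟶ P) : ∀ b, pr V W b ⟶ P
  | true => jV
  | false => jW

/-- `P` is the disjoint union of the open subspaces `V` and `W`. -/
structure IsDecomp {P V W : Sp S} (jV : V ⟶ P) (jW : W ⟶ P) : Prop where
  algV : IsAlgSpace V
  algW : IsAlgSpace W
  openV : RepWith @IsOpenImmersion jV
  openW : RepWith @IsOpenImmersion jW
  cover : ∀ x : Points P, x ∈ Set.range (Points.map jV) ∨ x ∈ Set.range (Points.map jW)
  disj : Disjoint (Set.range (Points.map jV)) (Set.range (Points.map jW))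

theorem isEtaleMor_of_repWith_open {F G : Sp S} {j : F ⟶ G} (hj : RepWith @IsOpenImmersion j) : IsEtaleMor j := by
  intro U φ hφ
  exact (RepWith @Etale).comp_mem _ _ hφ (K609.Points.repWith_mono (fun _ h => by have := h; infer_instance) hj)

theorem mono_of_repWith_open {F G : Sp S} {j : F ⟶ G} (hj : RepWith @IsOpenImmersion j) : Mono j := by
  refine ⟨fun {Z} x y hxy => ?_⟩
  refine K613.Basic.hom_ext fun T z => ?_
  obtain ⟨V, snd, fst, sq⟩ := hj.1 (z ≫ x ≫ j)
  have h1 : IsOpenImmersion snd.left := hj.2 _ _ _ sq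
  have h2 : Mono snd := Over.mono_of_mono_left snd
  have h3 : Mono ((yon S).map snd) := inferInstance
  have e1 : sq.lift (z ≫ x) (𝟙 _) (by simp) = sq.lift (z ≫ y) (𝟙 _) (by simp [hxy]) := by
    rw [← cancel_mono ((yon S).map snd), sq.lift_snd, sq.lift_snd]
  rw [← sq.lift_fst (z ≫ x) (𝟙 _) (by simp), e1, sq.lift_fst]

namespace IsDecomp

variable {P V W : Sp S} {jV : V ⟶ P} {jW : W ⟶ P}

theorem jls (h : IsDecomp jV jW) : JLS (J := AlgSp.J S) (pr V W) (prMap jV jW) := by
  refine K642.EtCov.jls_of_isEtaleMor _ (fun b => ?_) (fun b => ?_) fun x => ?_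
  · match b with
    | true => exact h.algV
    | false => exact h.algW
  · match b with
    | true => exact isEtaleMor_of_repWith_open h.openV
    | false => exact isEtaleMor_of_repWith_open h.openW
  · rcases h.cover x with hx | hx
    · exact ⟨true, hx⟩
    · exact ⟨false, hx⟩

theorem hom_ext (h : IsDecomp jV jW) {G : Sp S} {a b : P ⟶ G} (h₁ : jV ≫ a = jV ≫ b) (h₂ : jW ≫ a = jW ≫ b) :
    a = b :=
  h.jls.hom_ext fun i => match i with
    | true => h₁
    | false => h₂

/-- Two sections of `V` and `W` over `T` with the same image in `P` exist only if `T` is empty. -/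
theorem isEmpty (h : IsDecomp jV jW) {T : Over S} (x : V.obj.obj (op T)) (y : W.obj.obj (op T))
    (e : jV.hom.app _ x = jW.hom.app _ y) : IsEmpty T.left := by
  by_contra hne
  rw [not_isEmpty_iff] at hne
  obtain ⟨t⟩ := hne
  have h1 : Points.ofPt (K642.EtCov.ofSec x ≫ jV) t ∈ Set.range (Points.map jV) :=
    ⟨Points.ofPt (K642.EtCov.ofSec x) t, by rw [Points.map_ofPt]⟩
  have h2 : Points.ofPt (K642.EtCov.ofSec y ≫ jW) t ∈ Set.range (Points.map jW) :=
    ⟨Points.ofPt (K642.EtCov.ofSec y) t, by rw [Points.map_ofPt]⟩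
  have key : ∀ {F G : Sp S} (z : F.obj.obj (op T)) (j : F ⟶ G),
      K642.EtCov.ofSec z ≫ j = K642.EtCov.ofSec (j.hom.app _ z) := by
    intro F G z j
    rw [← K642.EtCov.ofSec_id (K642.EtCov.ofSec z ≫ j)]
    congr 1
    change j.hom.app _ ((K642.EtCov.ofSec z).hom.app _ ⟨𝟙 T⟩) = _
    rw [K642.EtCov.ofSec_app, op_id, Functor.map_id_apply]
  have h3 : K642.EtCov.ofSec y ≫ jW = K642.EtCov.ofSec x ≫ jV := by
    rw [key, key, e]
  rw [h3] at h2
  exact Set.disjoint_left.1 h.disj h1 h2

theorem exists_desc (h : IsDecomp jV jW) {G : Sp S} (a : V ⟶ G) (b : W ⟶ G) :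
    ∃ c : P ⟶ G, jV ≫ c = a ∧ jW ≫ c = b := by
  have hmV := mono_of_repWith_open h.openV
  have hmW := mono_of_repWith_open h.openW
  obtain ⟨c, hc⟩ := h.jls.exists_hom (fun i => match i with
    | true => a
    | false => b) (by
      intro i j T x y hxy
      match i, j with
      | true, true =>
        have hm : Function.Injective (jV.hom.app (op T)) := by
          have : Mono (((sheafToPresheaf (AlgSp.J S) (Type (u + 1))) ⋙ (evaluation _ _).obj (op T)).map jV) :=
            inferInstance
          exact (mono_iff_injective _).1 this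
        obtain rfl := hm hxy
        rfl
      | false, false =>
        have hm : Function.Injective (jW.hom.app (op T)) := by
          have : Mono (((sheafToPresheaf (AlgSp.J S) (Type (u + 1))) ⋙ (evaluation _ _).obj (op T)).map jW) :=
            inferInstance
          exact (mono_iff_injective _).1 this
        obtain rfl := hm hxy
        rfl
      | true, false =>
        have := h.isEmpty x y hxy
        have := K594.Cover.subsingleton_of_isEmpty G T
        exact Subsingleton.elim _ _
      | false, true =>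
        have := h.isEmpty y x hxy.symm
        have := K594.Cover.subsingleton_of_isEmpty G T
        exact Subsingleton.elim _ _)
  exact ⟨c, hc true, hc false⟩

/-- Base change of a decomposition. -/
theorem baseChange (h : IsDecomp jV jW) {P' V' W' : Sp S} (q : P' ⟶ P) {rV : V' ⟶ V} {jV' : V' ⟶ P'}
    (sqV : IsPullback rV jV' jV q) {rW : W' ⟶ W} {jW' : W' ⟶ P'} (sqW : IsPullback rW jW' jW q)
    (hV' : IsAlgSpace V') (hW' : IsAlgSpace W') : IsDecomp jV' jW' where
  algV := hV'
  algW := hW'
  openV := MorphismProperty.of_isPullback (P := RepWith _) sqV h.openV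
  openW := MorphismProperty.of_isPullback (P := RepWith _) sqW h.openW
  cover x := by
    rcases h.cover (Points.map q x) with ⟨v, hv⟩ | ⟨w, hw⟩
    · obtain ⟨z, -, hz⟩ := K609.Points.exists_of_isPullback sqV v x hv
      exact Or.inl ⟨z, hz⟩
    · obtain ⟨z, -, hz⟩ := K609.Points.exists_of_isPullback sqW w x hw
      exact Or.inr ⟨z, hz⟩
  disj := by
    rw [Set.disjoint_left]
    rintro _ ⟨v, rfl⟩ ⟨w, hw⟩
    have h1 : Points.map q (Points.map jV' v) ∈ Set.range (Points.map jV) :=
      ⟨Points.map rV v, by rw [← Points.map_comp, ← Points.map_comp, sqV.w]⟩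
    have h2 : Points.map q (Points.map jV' v) ∈ Set.range (Points.map jW) :=
      ⟨Points.map rW w, by rw [← hw, ← Points.map_comp, ← Points.map_comp, sqW.w]⟩
    exact Set.disjoint_left.1 h.disj h1 h2

/-- An open subspace mapping into `V` with a decomposition finer than `(V, W)` is `V`. -/
theorem range_eq {V' W' : Sp S} {jV' : V' ⟶ P} {jW' : W' ⟶ P} (h : IsDecomp jV jW) (h' : IsDecomp jV' jW')
    (hV : Set.range (Points.map jV) ⊆ Set.range (Points.map jV'))
    (hW : Set.range (Points.map jW) ⊆ Set.range (Points.map jW')) :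
    Set.range (Points.map jV') = Set.range (Points.map jV) := by
  refine Set.Subset.antisymm (fun x hx => ?_) hV
  rcases h.cover x with h1 | h1
  · exact h1
  · exact absurd (hW h1) (Set.disjoint_left.1 h'.disj hx)

theorem of_iso_left {V' : Sp S} (h : IsDecomp jV jW) (e : V' ⟶ V) [IsIso e] : IsDecomp (e ≫ jV) jW where
  algV := h.algV.of_iso (asIso e).symm
  algW := h.algW
  openV := ((RepWith @IsOpenImmersion).cancel_left_of_respectsIso e jV).2 h.openV
  openW := h.openW
  cover x := by
    rcases h.cover x with ⟨v, hv⟩ | h1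
    · obtain ⟨v', rfl⟩ := (K636.Basic.map_bijective_of_isIso e).2 v
      exact Or.inl ⟨v', by rw [Points.map_comp, hv]⟩
    · exact Or.inr h1
  disj := by
    refine h.disj.mono_left ?_
    rintro _ ⟨x, rfl⟩
    exact ⟨Points.map e x, by rw [Points.map_comp]⟩

end IsDecomp

/-- The coproduct of two schemes over `S`. -/
noncomputable def cop (A B : Over S) : Over S := Over.mk (coprod.desc A.hom B.hom)

noncomputable def copl (A B : Over S) : A ⟶ cop A B := Over.homMk coprod.inl (coprod.inl_desc _ _)

noncomputable def copr (A B : Over S) : B ⟶ cop A B := Over.homMk coprod.inr (coprod.inr_desc _ _)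

theorem isDecomp_cop (A B : Over S) : IsDecomp ((yon S).map (copl A B)) ((yon S).map (copr A B)) where
  algV := IsAlgSpace.yon_obj _
  algW := IsAlgSpace.yon_obj _
  openV := (repWith_yon_map_iff _ _).2 (inferInstanceAs (IsOpenImmersion (coprod.inl : A.left ⟶ A.left ⨿ B.left)))
  openW := (repWith_yon_map_iff _ _).2 (inferInstanceAs (IsOpenImmersion (coprod.inr : B.left ⟶ A.left ⨿ B.left)))
  cover x := by
    obtain ⟨z, rfl⟩ := K609.Points.ofScheme_surjective _ x
    have h := (isCompl_range_inl_inr A.left B.left).codisjoint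
    rw [codisjoint_iff] at h
    rcases (show z ∈ Set.range _ ∪ Set.range _ from h.ge trivial) with ⟨a, ha⟩ | ⟨b, hb⟩
    · refine Or.inl ⟨Points.ofScheme A a, ?_⟩
      rw [K609.Points.map_yon_map_ofScheme]
      exact congrArg _ ha
    · refine Or.inr ⟨Points.ofScheme B b, ?_⟩
      rw [K609.Points.map_yon_map_ofScheme]
      exact congrArg _ hb
  disj := by
    rw [Set.disjoint_left]
    rintro _ ⟨a, rfl⟩ ⟨b, hb⟩
    obtain ⟨a, rfl⟩ := K609.Points.ofScheme_surjective _ a
    obtain ⟨b, rfl⟩ := K609.Points.ofScheme_surjective _ b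
    rw [K609.Points.map_yon_map_ofScheme, K609.Points.map_yon_map_ofScheme] at hb
    exact Set.disjoint_left.1 (isCompl_range_inl_inr A.left B.left).disjoint ⟨a, rfl⟩
      ⟨b, K609.Points.ofScheme_injective _ hb⟩

/-- The complement of an open and closed subspace. -/
theorem exists_compl {P V : Space S} (jV : V ⟶ P) (h1 : RepWith @IsOpenImmersion jV.hom)
    (h2 : IsClosed (Set.range (Points.map jV.hom))) :
    ∃ (W : Space S) (jW : W ⟶ P), IsDecomp jV.hom jW.hom := by
  obtain ⟨W, jW, hW, hr⟩ := Groth.Agent.S10195.result P (Set.range (Points.map jV.hom))ᶜ h2.isOpen_compl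
  refine ⟨W, jW, V.property, W.property, h1, hW, fun x => ?_, ?_⟩
  · rw [hr]
    exact em _
  · rw [hr]
    exact disjoint_compl_right

end K636.Decomp
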