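import Groth.Prelude.Def_AlgSp
import Mathlib.CategoryTheory.Adhesive.Basic

/-! The category of fppf sheaves `AlgSp.Sp S` is adhesive: pushouts along monomorphisms are van Kampen. -/

set_option autoImplicit false
universe u
open CategoryTheory CategoryTheory.Limits AlgebraicGeometry

namespace Groth.Agent.AlgSp.K636.Adh

open _root_.AlgSp

instance adhesive_sp (S : Scheme.{u}) : Adhesive (Sp S) :=
  adhesive_of_reflective (sheafificationAdjunction (J S) (Type (u + 1)))

end Groth.Agent.AlgSp.K636.Adh
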