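import Groth.Agent.AlgSp.K615.Pt
import Mathlib.Algebra.Category.Ring.FilteredColimits
import Mathlib.AlgebraicGeometry.Morphisms.Affine

/-!
# Recognizing cofiltered limits of affine schemes
-/

set_option autoImplicit false
universe u

open CategoryTheory CategoryTheory.Limits AlgebraicGeometry Opposite

namespace K636.AffLim

variable {S : Scheme.{u}}

/-- morphisms to an affine scheme from ring maps -/
theorem exists_hom {T V : Scheme.{u}} [IsAffine V] (ψ : Γ(V, ⊤) ⟶ Γ(T, ⊤)) : ∃ f : T ⟶ V, f.appTop = ψ := by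
  refine ⟨T.toSpecΓ ≫ Spec.map ψ ≫ V.isoSpec.inv, ?_⟩
  have h1 : V.isoSpec.inv.appTop = (Scheme.ΓSpecIso Γ(V, ⊤)).inv := by
    have h2 : (V.isoSpec.inv ≫ V.isoSpec.hom).appTop = 𝟙 _ := by rw [Iso.inv_hom_id]; rfl
    rw [Scheme.Hom.comp_appTop, Scheme.isoSpec_hom, Scheme.toSpecΓ_appTop] at h2
    exact (Iso.hom_comp_eq_id _).1 h2
  rw [Scheme.Hom.comp_appTop, Scheme.Hom.comp_appTop, Scheme.toSpecΓ_appTop, h1]
  rw [Category.assoc, ← Scheme.ΓSpecIso_inv_naturality_assoc, Iso.inv_hom_id, Category.comp_id]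

variable {J : Type u} [SmallCategory J] [IsCofiltered J] (A : J ⥤ Over S)

/-- the system of global sections -/
noncomputable def ring : Jᵒᵖ ⥤ CommRingCat.{u} := A.op ⋙ (Over.forget S).op ⋙ Scheme.Γ

variable {A} {V : Over S} (h : ∀ j, V ⟶ A.obj j) (hh : ∀ ⦃j k⦄ (φ : j ⟶ k), h j ≫ A.map φ = h k)

/-- its cocone -/
noncomputable def cocone : Cocone (ring A) where
  pt := Γ(V.left, ⊤)
  ι :=
    { app := fun j => (h j.unop).left.appTop
      naturality := fun j k φ => by
        change (A.map φ.unop).left.appTop ≫ (h k.unop).left.appTop = (h j.unop).left.appTop ≫ 𝟙 _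
        rw [Category.comp_id, ← hh φ.unop, Over.comp_left, Scheme.Hom.comp_appTop] }

theorem isColimit (H1 : ∀ a : Γ(V.left, ⊤), ∃ j c, (h j).left.appTop.hom c = a)
    (H2 : ∀ j c, (h j).left.appTop.hom c = 0 → ∃ (k : J) (φ : k ⟶ j), (A.map φ).left.appTop.hom c = 0) :
    Nonempty (IsColimit (cocone h hh)) := by
  have h1 : IsColimit ((forget CommRingCat).mapCocone (cocone h hh)) := by
    refine Types.FilteredColimit.isColimitOf' (F := ring A ⋙ forget CommRingCat) _ ?_ ?_
    · intro a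
      obtain ⟨j, c, hc⟩ := H1 a
      exact ⟨op j, c, hc.symm⟩
    · intro i x y hxy
      have h3 : (h i.unop).left.appTop.hom (show Γ((A.obj i.unop).left, ⊤) from x) =
        (h i.unop).left.appTop.hom (show Γ((A.obj i.unop).left, ⊤) from y) := hxy
      obtain ⟨k, φ, hk⟩ := H2 i.unop ((show Γ((A.obj i.unop).left, ⊤) from x) - (show Γ((A.obj i.unop).left, ⊤) from y))
        (by rw [map_sub, h3, sub_self])
      refine ⟨op k, φ.op, ?_⟩
      rw [map_sub, sub_eq_zero] at hk
      exact hk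
  have : ReflectsColimit (ring A) (forget CommRingCat.{u}) :=
    reflectsColimit_of_reflectsIsomorphisms _ _
  exact ⟨isColimitOfReflects (forget CommRingCat) h1⟩

/-- The universal property. -/
theorem existsUnique (hA : ∀ j, IsAffine (A.obj j).left) (hV : IsAffine V.left)
    (hh : ∀ ⦃j k⦄ (φ : j ⟶ k), h j ≫ A.map φ = h k)
    (H1 : ∀ a : Γ(V.left, ⊤), ∃ j c, (h j).left.appTop.hom c = a)
    (H2 : ∀ j c, (h j).left.appTop.hom c = 0 → ∃ (k : J) (φ : k ⟶ j), (A.map φ).left.appTop.hom c = 0)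
    (T : Over S) (t : ∀ j, T ⟶ A.obj j) (ht : ∀ ⦃j k⦄ (φ : j ⟶ k), t j ≫ A.map φ = t k) :
    ∃! l : T ⟶ V, ∀ j, l ≫ h j = t j := by
  obtain ⟨hc⟩ := isColimit h hh H1 H2
  let s : Cocone (ring A) :=
    { pt := Γ(T.left, ⊤)
      ι :=
        { app := fun j => (t j.unop).left.appTop
          naturality := fun j k φ => by
            change (A.map φ.unop).left.appTop ≫ (t k.unop).left.appTop = (t j.unop).left.appTop ≫ 𝟙 _
            rw [Category.comp_id, ← ht φ.unop, Over.comp_left, Scheme.Hom.comp_appTop] } }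
  obtain ⟨l, hl⟩ := exists_hom (T := T.left) (hc.desc s)
  have hl' : ∀ j, l ≫ (h j).left = (t j).left := fun j => by
    have := hA j
    refine ext_of_isAffine ?_
    rw [Scheme.Hom.comp_appTop, hl]
    exact hc.fac s (op j)
  obtain ⟨j₀⟩ := IsCofiltered.nonempty (C := J)
  refine ⟨Over.homMk l ?_, fun j => ?_, fun m hm => ?_⟩
  · have h1 : V.hom = (h j₀).left ≫ (A.obj j₀).hom := (Over.w (h j₀)).symm
    change l ≫ V.hom = T.hom
    rw [h1, ← Category.assoc, hl', Over.w]
  · ext
    exact hl' j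
  · ext
    change m.left = l
    refine ext_of_isAffine ?_
    rw [hl]
    refine hc.hom_ext fun j => ?_
    rw [hc.fac s j]
    change (h j.unop).left.appTop ≫ m.left.appTop = (t j.unop).left.appTop
    rw [← hm, Over.comp_left, Scheme.Hom.comp_appTop]

end K636.AffLim
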