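import Mathlib.CategoryTheory.EssentiallySmall
import Mathlib.CategoryTheory.Filtered.Basic
import Mathlib.CategoryTheory.Filtered.Final
import Mathlib.Logic.Small.Set

/-!
# Small cofiltered subcategories closed under solving tasks
-/

set_option autoImplicit false
set_option linter.unusedSectionVars false
universe u v w

open CategoryTheory

namespace K636.SmallCof

variable {C : Type w} [Category.{v} C]

section
variable [LocallySmall.{u} C] [IsCofiltered C] {τ : C → Type u} (sol : ∀ X, τ X → C)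

/-- One closure step. -/
def step (s : Set C) : Set C :=
  s ∪ (Set.range (fun p : s × s => IsCofiltered.min p.1.1 p.2.1) ∪
    (Set.range (fun q : Σ (p : s × s), (p.1.1 ⟶ p.2.1) × (p.1.1 ⟶ p.2.1) => IsCofiltered.eq q.2.1 q.2.2) ∪
      Set.range (fun q : Σ (X : s), τ X.1 => sol q.1.1 q.2)))

instance small_step (s : Set C) [Small.{u} s] : Small.{u} (step sol s) := by
  unfold step
  infer_instance

/-- The closure. -/
def clos (s : Set C) : Set C := ⋃ n : ℕ, (step sol)^[n] s

instance small_iter (s : Set C) [Small.{u} s] (n : ℕ) : Small.{u} ((step sol)^[n] s : Set C) := by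
  induction n with
  | zero => exact ‹_›
  | succ n ih => rw [Function.iterate_succ_apply']; infer_instance

instance small_clos (s : Set C) [Small.{u} s] : Small.{u} (clos sol s) := by
  unfold clos
  infer_instance

theorem iter_mono (s : Set C) {m n : ℕ} (h : m ≤ n) : (step sol)^[m] s ⊆ (step sol)^[n] s := by
  induction n, h using Nat.le_induction with
  | base => exact subset_rfl
  | succ n _ ih =>
    rw [Function.iterate_succ_apply']
    exact ih.trans Set.subset_union_left

theorem step_subset {s : Set C} {n : ℕ} : step sol ((step sol)^[n] s) ⊆ clos sol s := by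
  rw [← Function.iterate_succ_apply' (step sol) n s]
  exact Set.subset_iUnion (fun n => (step sol)^[n] s) (n + 1)

theorem subset_clos (s : Set C) : s ⊆ clos sol s := Set.subset_iUnion (fun n => (step sol)^[n] s) 0

theorem min_mem {s : Set C} {X Y : C} (hX : X ∈ clos sol s) (hY : Y ∈ clos sol s) :
    IsCofiltered.min X Y ∈ clos sol s := by
  obtain ⟨m, hm⟩ := Set.mem_iUnion.1 hX
  obtain ⟨n, hn⟩ := Set.mem_iUnion.1 hY
  exact step_subset sol (n := max m n) (Or.inr (Or.inl ⟨(⟨X, iter_mono sol s (le_max_left _ _) hm⟩,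
    ⟨Y, iter_mono sol s (le_max_right _ _) hn⟩), rfl⟩))

theorem eq_mem {s : Set C} {X Y : C} (hX : X ∈ clos sol s) (hY : Y ∈ clos sol s) (f g : X ⟶ Y) :
    IsCofiltered.eq f g ∈ clos sol s := by
  obtain ⟨m, hm⟩ := Set.mem_iUnion.1 hX
  obtain ⟨n, hn⟩ := Set.mem_iUnion.1 hY
  exact step_subset sol (n := max m n) (Or.inr (Or.inr (Or.inl ⟨⟨(⟨X, iter_mono sol s (le_max_left _ _) hm⟩,
    ⟨Y, iter_mono sol s (le_max_right _ _) hn⟩), (f, g)⟩, rfl⟩)))

theorem sol_mem {s : Set C} {X : C} (hX : X ∈ clos sol s) (t : τ X) : sol X t ∈ clos sol s := by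
  obtain ⟨m, hm⟩ := Set.mem_iUnion.1 hX
  exact step_subset sol (n := m) (Or.inr (Or.inr (Or.inr ⟨⟨⟨X, hm⟩, t⟩, rfl⟩)))

theorem isCofiltered_clos (s : Set C) (hs : s.Nonempty) :
    IsCofiltered (ObjectProperty.FullSubcategory (fun X => X ∈ clos sol s)) where
  cone_objs X Y := ⟨⟨_, min_mem sol X.2 Y.2⟩, ObjectProperty.homMk (IsCofiltered.minToLeft _ _),
    ObjectProperty.homMk (IsCofiltered.minToRight _ _), trivial⟩
  cone_maps X Y f g := ⟨⟨_, eq_mem sol X.2 Y.2 f.hom g.hom⟩, ObjectProperty.homMk (IsCofiltered.eqHom _ _), by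
    ext
    exact IsCofiltered.eq_condition _ _⟩
  nonempty := ⟨⟨hs.some, subset_clos sol s hs.some_mem⟩⟩

end

/-- Small cofiltered subcategories closed under solving tasks. -/
theorem exists_small [LocallySmall.{u} C] [IsCofiltered C] {τ : C → Type u} (Sol : ∀ X, τ X → ∀ Y, (Y ⟶ X) → Prop)
    (hS : ∀ X t, ∃ Y f, Sol X t Y f) (hS' : ∀ X t Y f Z (g : Z ⟶ Y), Sol X t Y f → Sol X t Z (g ≫ f))
    {τ₀ : Type u} (Sol₀ : τ₀ → C → Prop) (hS₀ : ∀ t, ∃ Y, Sol₀ t Y)
    (hS₀' : ∀ t Y Z (_ : Z ⟶ Y), Sol₀ t Y → Sol₀ t Z) :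
    ∃ (J : Type u) (_ : SmallCategory J) (_ : IsCofiltered J) (F : J ⥤ C), (∀ t, ∃ j, Sol₀ t (F.obj j)) ∧
      ∀ (j : J) (t : τ (F.obj j)), ∃ (k : J) (f : k ⟶ j), Sol (F.obj j) t (F.obj k) (F.map f) := by
  choose sol f hf using hS
  choose sol₀ hsol₀ using hS₀
  obtain ⟨X₀⟩ := IsCofiltered.nonempty (C := C)
  let s : Set C := {X₀} ∪ Set.range sol₀
  have hs : Small.{u} s := by unfold s; infer_instance
  let P : ObjectProperty C := fun X => X ∈ clos sol s
  have h1 : EssentiallySmall.{u} P.FullSubcategory := essentiallySmall_fullSubcategory_mem C (clos sol s)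
  have h2 : IsCofiltered P.FullSubcategory := isCofiltered_clos sol s ⟨X₀, Or.inl rfl⟩
  let e := equivSmallModel.{u} P.FullSubcategory
  refine ⟨SmallModel.{u} P.FullSubcategory, inferInstance, IsCofiltered.of_equivalence e, e.inverse ⋙ P.ι, ?_, ?_⟩
  · intro t
    let Y : P.FullSubcategory := ⟨sol₀ t, subset_clos sol s (Or.inr ⟨t, rfl⟩)⟩
    exact ⟨e.functor.obj Y, hS₀' t _ _ (P.ι.map (e.unitIso.inv.app Y)) (hsol₀ t)⟩
  · intro j t
    let X : P.FullSubcategory := e.inverse.obj j
    let Y : P.FullSubcategory := ⟨sol X.obj t, sol_mem sol X.2 t⟩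
    let φ : Y ⟶ X := ObjectProperty.homMk (f X.obj t)
    let ψ : e.functor.obj Y ⟶ j := e.functor.map φ ≫ e.counitIso.hom.app j
    have h3 : e.inverse.map ψ = e.unitIso.inv.app Y ≫ φ := by
      have h5 := e.unit_inverse_comp j
      have h6 := e.inv_fun_map Y X φ
      change e.inverse.map (e.functor.map φ ≫ e.counit.app j) = e.unitInv.app Y ≫ φ
      rw [Functor.map_comp, h6, Category.assoc, Category.assoc, h5, Category.comp_id]
    refine ⟨e.functor.obj Y, ψ, ?_⟩
    have h4 := hS' _ t _ _ _ (P.ι.map (e.unitIso.inv.app Y)) (hf X.obj t)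
    rw [Functor.comp_map, h3, P.ι.map_comp]
    exact h4

end K636.SmallCof
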