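import Groth.Agent.AlgSp.K636.F1Step
import Groth.Agent.AlgSp.K636.SmallCof
import Groth.Agent.AlgSp.K636.AffLim
import Groth.Agent.AlgSp.K595.DiagBasic
import Groth.Agent.AlgSp.K613.Cover
import Groth.Agent.AlgSp.K610.Site
import Groth.Agent.AlgSp.K604.LimSepY
import Groth.Agent.S4599

/-!
# The category of affine spaces of finite presentation under a given affine space
-/

set_option autoImplicit false
universe u
open CategoryTheory CategoryTheory.Limits AlgebraicGeometry Opposite
open AlgSp K598.RepKit K636.EdExt K636.Im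

namespace K636.ApproxCat

variable {S : Scheme.{u}}

theorem isPullback_equalizer {C : Type*} [Category* C] [HasPullbacks C] [HasEqualizers C] {X Y T : C} (a b : X ⟶ Y)
    (t : Y ⟶ T) (w : a ≫ t = b ≫ t) :
    IsPullback (equalizer.ι a b ≫ a) (equalizer.ι a b) (pullback.diagonal t) (pullback.lift a b w) := by
  have w0 : (equalizer.ι a b ≫ a) ≫ pullback.diagonal t = equalizer.ι a b ≫ pullback.lift a b w := by
    apply pullback.hom_ext
    · simp only [Category.assoc, pullback.diagonal_fst, Category.comp_id]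
      exact (congrArg (equalizer.ι a b ≫ ·) (pullback.lift_fst a b w)).symm
    · simp only [Category.assoc, pullback.diagonal_snd, Category.comp_id]
      rw [equalizer.condition a b]
      exact (congrArg (equalizer.ι a b ≫ ·) (pullback.lift_snd a b w)).symm
  refine ⟨⟨w0⟩, ⟨PullbackCone.IsLimit.mk w0 (fun s => equalizer.lift s.snd ?_) ?_ ?_ ?_⟩⟩
  · have h1 := congrArg (· ≫ pullback.fst t t) s.condition
    have h2 := congrArg (· ≫ pullback.snd t t) s.condition
    simp only [Category.assoc, pullback.diagonal_fst, pullback.diagonal_snd, Category.comp_id, pullback.lift_fst,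
      pullback.lift_snd] at h1 h2
    rw [← h1, h2]
  · intro s
    have h1 := congrArg (· ≫ pullback.fst t t) s.condition
    simp only [Category.assoc, pullback.diagonal_fst, Category.comp_id, pullback.lift_fst] at h1
    rw [equalizer.lift_ι_assoc, ← h1]
  · intro s
    rw [equalizer.lift_ι]
  · intro s m _ hm
    apply equalizer.hom_ext
    rw [equalizer.lift_ι, hm]

/-- An affine space with `Q` over `Y` under `X`. -/
structure Obj (Q : MorphismProperty Scheme.{u}) {X Y : Sp S} (x : X ⟶ Y) where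
  (E : Sp S) (e : E ⟶ Y) (g : X ⟶ E) (he : RepWith Q e) (hg : g ≫ e = x)

/-- Morphisms over `Y` and under `X`. -/
@[ext]
structure Hom {Q : MorphismProperty Scheme.{u}} {X Y : Sp S} {x : X ⟶ Y} (A B : Obj Q x) where
  (φ : A.E ⟶ B.E) (w₁ : φ ≫ B.e = A.e) (w₂ : A.g ≫ φ = B.g)

instance {Q : MorphismProperty Scheme.{u}} {X Y : Sp S} {x : X ⟶ Y} : Category (Obj Q x) where
  Hom A B := Hom A B
  id A := ⟨𝟙 _, Category.id_comp _, Category.comp_id _⟩
  comp {A B C} f g := ⟨f.φ ≫ g.φ, by rw [Category.assoc, g.w₁, f.w₁], by rw [← Category.assoc, f.w₂, g.w₂]⟩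
  id_comp f := Hom.ext (Category.id_comp _)
  comp_id f := Hom.ext (Category.comp_id _)
  assoc f g h := Hom.ext (Category.assoc _ _ _)

section
variable {Q : MorphismProperty Scheme.{u}} {X Y : Sp S} {x : X ⟶ Y}

@[simp] theorem comp_φ {A B C : Obj Q x} (f : A ⟶ B) (g : B ⟶ C) : (f ≫ g).φ = f.φ ≫ g.φ := rfl
@[simp] theorem id_φ (A : Obj Q x) : (𝟙 A : A ⟶ A).φ = 𝟙 _ := rfl
theorem w₁ {A B : Obj Q x} (f : A ⟶ B) : f.φ ≫ B.e = A.e := f.w₁
theorem w₂ {A B : Obj Q x} (f : A ⟶ B) : A.g ≫ f.φ = B.g := f.w₂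
theorem hom_ext {A B : Obj Q x} {f g : A ⟶ B} (h : f.φ = g.φ) : f = g := Hom.ext h

/-- the forgetful functor -/
def forget (Q : MorphismProperty Scheme.{u}) {X Y : Sp S} (x : X ⟶ Y) : Obj Q x ⥤ Sp S where
  obj A := A.E
  map f := f.φ

theorem af_le_diagonal : AF.{u} ≤ CF.diagonal := by
  intro A B f hf
  have h1 : IsAffineHom f := hf.1
  have h2 : LocallyOfFinitePresentation f := hf.2
  exact ⟨(inferInstance : IsClosedImmersion (pullback.diagonal f)), Groth.Agent.S4599.result f⟩

instance : (CF.{u}).IsStableUnderBaseChange :=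
  inferInstanceAs (MorphismProperty.IsStableUnderBaseChange (@IsClosedImmersion ⊓ @LocallyOfFinitePresentation))

theorem repWith_diagonal {A B : Sp S} {f : A ⟶ B} (hf : RepWith AF f) : RepWith CF (pullback.diagonal f) :=
  (K595.DiagBasic.repWith_diagonal_iff CF hf.1).2 (repWith_mono af_le_diagonal hf)

variable [Q.IsMultiplicative] [Q.IsStableUnderBaseChange]

theorem isCofiltered (hQ : Q ≤ AF) (hQ' : CF ≤ Q) : IsCofiltered (Obj Q x) where
  cone_objs A B := by
    have sq : IsPullback (pullback.fst A.e B.e) (pullback.snd A.e B.e) A.e B.e := IsPullback.of_hasPullback _ _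
    refine ⟨⟨pullback A.e B.e, pullback.fst A.e B.e ≫ A.e, pullback.lift A.g B.g (by rw [A.hg, B.hg]), ?_, ?_⟩,
      ⟨pullback.fst _ _, rfl, pullback.lift_fst _ _ _⟩,
      ⟨pullback.snd _ _, pullback.condition.symm, pullback.lift_snd _ _ _⟩, trivial⟩
    · exact (repWith_isMultiplicative (S := S) Q).comp_mem _ _ (repWith_of_isPullback sq.flip B.he) A.he
    · rw [pullback.lift_fst_assoc, A.hg]
  cone_maps A B f g := by
    have sq := isPullback_equalizer f.φ g.φ B.e (by rw [w₁, w₁])
    have h1 : RepWith Q (equalizer.ι f.φ g.φ) :=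
      repWith_mono hQ' (repWith_of_isPullback sq (repWith_diagonal (repWith_mono hQ B.he)))
    refine ⟨⟨equalizer f.φ g.φ, equalizer.ι f.φ g.φ ≫ A.e, equalizer.lift A.g (by rw [w₂, w₂]), ?_, ?_⟩,
      ⟨equalizer.ι f.φ g.φ, rfl, equalizer.lift_ι _ _⟩, hom_ext (equalizer.condition _ _)⟩
    · exact (repWith_isMultiplicative (S := S) Q).comp_mem _ _ h1 A.he
    · rw [equalizer.lift_ι_assoc, A.hg]
  nonempty := ⟨⟨Y, 𝟙 Y, x, repWith_of_isIso _, Category.comp_id _⟩⟩

end

section chart

variable {Q : MorphismProperty Scheme.{u}} {X Y : Sp S} {x : X ⟶ Y} {U : Over S} (p : (yon S).obj U ⟶ Y)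

/-- the pullback to the chart -/
noncomputable def AU (A : Obj Q x) : Over S := A.he.1.pullback p
noncomputable def aε (A : Obj Q x) : (yon S).obj (AU p A) ⟶ A.E := A.he.1.fst p
noncomputable def ae (A : Obj Q x) : AU p A ⟶ U := A.he.1.snd p
theorem sq (A : Obj Q x) : IsPullback (aε p A) ((yon S).map (ae p A)) A.e p := A.he.1.isPullback p

theorem exists_mapU {A B : Obj Q x} (f : A ⟶ B) :
    ∃ l : AU p A ⟶ AU p B, (yon S).map l ≫ aε p B = aε p A ≫ f.φ ∧ l ≫ ae p B = ae p A :=
  K600.Basic.exists_lift (sq p B) (aε p A ≫ f.φ) (ae p A) (by rw [Category.assoc, w₁, (sq p A).w])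

noncomputable def mapU {A B : Obj Q x} (f : A ⟶ B) : AU p A ⟶ AU p B := (exists_mapU p f).choose
theorem mapU_fst {A B : Obj Q x} (f : A ⟶ B) : (yon S).map (mapU p f) ≫ aε p B = aε p A ≫ f.φ :=
  (exists_mapU p f).choose_spec.1
theorem mapU_snd {A B : Obj Q x} (f : A ⟶ B) : mapU p f ≫ ae p B = ae p A := (exists_mapU p f).choose_spec.2

/-- the functor to schemes over the chart -/
noncomputable def functorU : Obj Q x ⥤ Over S where
  obj A := AU p A
  map f := mapU p f
  map_id A := K600.Basic.hom_ext (sq p A)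
    (by rw [mapU_fst, id_φ, Category.comp_id, (yon S).map_id, Category.id_comp])
    (by rw [mapU_snd, Category.id_comp])
  map_comp {A B C} f g := K600.Basic.hom_ext (sq p C)
    (by rw [mapU_fst, comp_φ, Functor.map_comp, Category.assoc, mapU_fst, ← Category.assoc, ← Category.assoc, mapU_fst])
    (by rw [mapU_snd, Category.assoc, mapU_snd, mapU_snd])

theorem locallySmall (hp : RepWith @Etale p) (hp' : RepWith @Surjective p) : LocallySmall.{u} (Obj Q x) where
  hom_small A B := by
    refine small_of_injective (f := fun f : A ⟶ B => (mapU p f : AU p A ⟶ AU p B)) fun f g hfg => hom_ext ?_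
    have h1 : Epi (aε p A) := K610.Site.epi_of_etale (repWith_of_isPullback (sq p A).flip hp)
      (repWith_of_isPullback (sq p A).flip hp')
    rw [← cancel_epi (aε p A), ← mapU_fst, ← mapU_fst]
    exact congrArg (fun z => (yon S).map z ≫ aε p B) hfg

variable {XU : Over S} {ξ : (yon S).obj XU ⟶ X} {xU : XU ⟶ U} (sqX : IsPullback ξ ((yon S).map xU) x p)

include sqX in
theorem exists_hU (A : Obj Q x) : ∃ l : XU ⟶ AU p A, (yon S).map l ≫ aε p A = ξ ≫ A.g ∧ l ≫ ae p A = xU :=
  K600.Basic.exists_lift (sq p A) (ξ ≫ A.g) xU (by rw [Category.assoc, A.hg, sqX.w])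

noncomputable def hU (A : Obj Q x) : XU ⟶ AU p A := (exists_hU p sqX A).choose
theorem hU_fst (A : Obj Q x) : (yon S).map (hU p sqX A) ≫ aε p A = ξ ≫ A.g := (exists_hU p sqX A).choose_spec.1
theorem hU_snd (A : Obj Q x) : hU p sqX A ≫ ae p A = xU := (exists_hU p sqX A).choose_spec.2

theorem hU_mapU {A B : Obj Q x} (f : A ⟶ B) : hU p sqX A ≫ mapU p f = hU p sqX B :=
  K600.Basic.hom_ext (sq p B)
    (by rw [Functor.map_comp, Category.assoc, mapU_fst, ← Category.assoc, hU_fst, Category.assoc, w₂, hU_fst])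
    (by rw [Category.assoc, mapU_snd, hU_snd, hU_snd])

variable (x) in
/-- the cone with vertex `X` -/
def cone {J : Type u} [SmallCategory J] (F : J ⥤ Obj Q x) : Cone (F ⋙ forget Q x) where
  pt := X
  π :=
    { app := fun j => (F.obj j).g
      naturality := fun i j φ => by
        change 𝟙 _ ≫ (F.obj j).g = (F.obj i).g ≫ (F.map φ).φ
        rw [Category.id_comp, w₂] }

end chart

end K636.ApproxCat
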