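import Groth.Agent.AlgSp.K636.ApproxFin
import Groth.Agent.AlgSp.K647.ClLim

/-!
# Finite morphisms are limits of finite morphisms of finite presentation with closed immersions as transition maps
-/

set_option autoImplicit false
universe u
open CategoryTheory CategoryTheory.Limits AlgebraicGeometry Opposite
open AlgSp K598.RepKit K636.EdExt K636.Im

namespace K636.ApproxMain

open K636.ApproxCat

variable {S : Scheme.{u}}

/-- A finite space embeds in a finite space of finite presentation. -/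
theorem exists_closed_finite [QuasiSeparatedSpace ↥S] (Y : Space S) (hYc : IsQuasiCompactSp Y.obj)
    (hYs : IsQuasiSeparatedSp Y.obj) {X : Sp S} (x : X ⟶ Y.obj) (hx : IsFiniteMor x) :
    ∃ (Z : Sp S) (z : Z ⟶ Y.obj) (g : X ⟶ Z), RepWith FF z ∧ g ≫ z = x ∧ RepWith @IsClosedImmersion g := by
  classical
  have hxf : RepWith @IsFinite x := K634.FiniteMor.isFiniteMor_iff.1 hx
  have hxM : IsAffineMor x := K604.LimFin.isAffineMor_of_isFiniteMor hx
  have hxi : IsIntegralMor x := K634.FiniteMor.isIntegralMor_iff.2 (repWith_mono (fun _ _ f hf => by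
    have : IsFinite f := hf
    exact (inferInstance : IsIntegralHom f)) hxf)
  obtain ⟨U, p, hUa, hp, hp'⟩ := K600.LimAff.exists_affine_chart hYc
  obtain ⟨XU, xU, ξ, sqX⟩ := hxf.1 p
  have hxU : IsFinite xU.left := hxf.2 _ _ _ sqX
  have hXU : IsAffine XU.left := isAffine_of_isAffineHom xU.left
  have hfin : xU.left.appTop.hom.Finite := xU.left.finite_appTop
  obtain ⟨⟨G, hG⟩⟩ : xU.left.appTop.hom.FiniteType := hfin.finiteType
  obtain ⟨E, e, g, he, hg, H⟩ := exists_common G (fun a E e g => InIm e g p ξ xU a) fun a _ =>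
    f1_of_qcqs Y hYc hYs x hxM hUa hp sqX a
  obtain ⟨Z, z, g', hz, hg', hze⟩ := exists_finite Y hYc hYs x hxi E e g he hg
  have hgx : g' ≫ z ≫ e = x := by rw [← Category.assoc, hg', hg]
  refine ⟨Z, z ≫ e, g', hze, hgx, ?_⟩
  have hzeM : IsAffineMor (z ≫ e) := isAffineMor_of_af (repWith_mono ff_le_af hze)
  have hgM : IsAffineMor g' := isAffineMor_of_comp (g := z ≫ e) (by rw [hgx]; exact hxM) hzeM
  have hgr : Representable g' := (K597.Affine.isAffineMor_iff.1 hgM).1
  obtain ⟨ZU, ζ, zU, h, sqZ, h1, h2⟩ := exists_comp hze.1 hgx sqX.w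
  have hzU : IsFinite zU.left := (hze.2 _ _ _ sqZ).1
  have hZU : IsAffine ZU.left := isAffine_of_isAffineHom zU.left
  have sqg : IsPullback ξ ((yon S).map h) g' ζ := by
    refine IsPullback.of_bot ?_ h1.symm sqZ
    rw [hgx, ← Functor.map_comp, h2]
    exact sqX
  have hhc : IsClosedImmersion h.left := by
    refine IsClosedImmersion.of_surjective_of_isAffine h.left ?_
    obtain ⟨B, hB, hB'⟩ := exists_subring hze.1 hgx sqX.w
    have hG' : ∀ a ∈ G, a ∈ B := fun a ha => by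
      rw [hB]
      obtain ⟨E', e', g'', φ, he', hg'', h3, h4, h5⟩ := H a ha
      exact h5.mono hze.1 hgx (z ≫ φ) (by rw [Category.assoc, h3]) (by rw [← Category.assoc, hg', h4]) sqX.w
    have htop : ∀ a, a ∈ B := by
      intro a
      letI := xU.left.appTop.hom.toAlgebra
      let B' : Subalgebra Γ(U.left, ⊤) Γ(XU.left, ⊤) := { B with algebraMap_mem' := hB' }
      have h6 : Algebra.adjoin Γ(U.left, ⊤) (G : Set Γ(XU.left, ⊤)) ≤ B' := Algebra.adjoin_le fun b hb => hG' b hb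
      rw [hG] at h6
      exact h6 trivial
    intro a
    exact (inIm_iff sqZ h1 h2).1 ((hB a).1 (htop a))
  have hFp : K613.Cover.FSurj p := K613.Cover.FSurj.of_repWith (K598.Charts.repWith_flat_of_etale hp)
    (K598.Charts.repWith_lfp_of_etale hp) hp'
  have hFζ : K613.Cover.FSurj ζ := hFp.of_isPullback sqZ.flip
  exact hFζ.repWith (Pr := @IsClosedImmersion) sqg hgr ((repWith_yon_map_iff _ _).2 hhc)

theorem main_finite [QuasiSeparatedSpace ↥S] {X Y : AlgSp.Space S} (f : X ⟶ Y) (hf : AlgSp.IsFiniteMor f.hom)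
    (hYqc : AlgSp.IsQuasiCompactSp Y.obj) (hYqs : AlgSp.IsQuasiSeparatedSp Y.obj) :
    ∃ (I : Type u) (_ : Preorder I) (_ : IsDirected I (fun a b => a ≤ b)) (_ : Nonempty I) (D : Iᵒᵖ ⥤ AlgSp.Sp S)
      (t : D ⟶ (Functor.const Iᵒᵖ).obj Y.obj) (c : Cone D) (_ : IsLimit c) (e : c.pt ≅ X.obj),
      (∀ i, AlgSp.IsAlgSpace (D.obj i)) ∧ (∀ (i j : Iᵒᵖ) (φ : i ⟶ j), AlgSp.RepWith @IsClosedImmersion (D.map φ)) ∧
      (∀ i, AlgSp.IsFiniteMor (t.app i) ∧ AlgSp.IsFinitePresentationMor (t.app i)) ∧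
      (∀ i, e.inv ≫ c.π.app i ≫ t.app i = f.hom) := by
  obtain ⟨Z, z, g, hz, hg, hgc⟩ := exists_closed_finite Y hYqc hYqs f.hom hf
  have hzM : IsAffineMor z := isAffineMor_of_af (repWith_mono ff_le_af hz)
  have hZ : IsAlgSpace Z := isAlgSpace_of_af Y.property (repWith_mono ff_le_af hz)
  obtain ⟨I, h1, h2, h3, D, t, c, hc, e, hD, hDc, ht, he⟩ := K647.ClLim.exists_limit hZ g hgc
    (K601.RelAff.isQuasiCompactSp_of_affine hzM hYqc) (K601.RelAff.isQuasiSeparatedSp_of_affine hzM hYqs)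
  let t' : D ⟶ (Functor.const Iᵒᵖ).obj Y.obj := t ≫ (Functor.const Iᵒᵖ).map z
  have ht' : ∀ i, t'.app i = t.app i ≫ z := fun i => rfl
  have hff : ∀ i, RepWith FF (t'.app i) := fun i =>
    (repWith_isMultiplicative (S := S) FF).comp_mem _ _ (repWith_mono cf_le_ff (ht i)) hz
  refine ⟨I, h1, h2, h3, D, t', c, hc, e, hD, hDc, fun i => ?_, fun i => ?_⟩
  · exact ⟨K634.FiniteMor.isFiniteMor_iff.2 (repWith_mono (fun _ _ _ h => h.1) (hff i)),
      isFinitePresentationMor_of_af Y.property (repWith_mono ff_le_af (hff i))⟩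
  · rw [ht', ← hg, ← he i, Category.assoc, Category.assoc]

end K636.ApproxMain
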