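import Groth.Agent.AlgSp.K636.ApproxCat
import Mathlib.CategoryTheory.Presentable.Directed

/-!
# Affine spaces are limits of affine spaces of finite presentation
-/

set_option autoImplicit false
universe u
open CategoryTheory CategoryTheory.Limits AlgebraicGeometry Opposite
open AlgSp K598.RepKit K636.EdExt K636.Im

set_option backward.isDefEq.respectTransparency false

namespace K636.ApproxCat

variable {S : Scheme.{u}}

section lim

variable {Q : MorphismProperty Scheme.{u}} {X Y : Sp S} {x : X ⟶ Y} {U : Over S} {p : (yon S).obj U ⟶ Y}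
  {XU : Over S} {ξ : (yon S).obj XU ⟶ X} {xU : XU ⟶ U} (sqX : IsPullback ξ ((yon S).map xU) x p)
  {J : Type u} [SmallCategory J] [IsCofiltered J] (F : J ⥤ Obj Q x)

theorem nonempty_isLimit (hA : ∀ j, IsAffine (AU p (F.obj j)).left) (hXU : IsAffine XU.left)
    (hp : RepWith @Etale p) (hp' : RepWith @Surjective p)
    (H1 : ∀ a : Γ(XU.left, ⊤), ∃ j c, (hU p sqX (F.obj j)).left.appTop.hom c = a)
    (H2 : ∀ j c, (hU p sqX (F.obj j)).left.appTop.hom c = 0 →
      ∃ (k : J) (f : k ⟶ j), (mapU p (F.map f)).left.appTop.hom c = 0) : Nonempty (IsLimit (cone x F)) := by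
  obtain ⟨j₀⟩ := IsCofiltered.nonempty (C := J)
  have hconn : IsConnected J := IsCofiltered.isConnected J
  obtain ⟨L, π, hπ, hext, hlift, hpt⟩ : ∃ (L : Sp S) (π : ∀ j, L ⟶ (F.obj j).E) (_ : ∀ ⦃i j : J⦄ (φ : i ⟶ j), π i ≫ (F.map φ).φ = π j)
      (_ : ∀ {Z : Sp S} (f g : Z ⟶ L), (∀ j, f ≫ π j = g ≫ π j) → f = g)
      (_ : ∃ l : X ⟶ L, ∀ j, l ≫ π j = (F.obj j).g), (∀ l : X ⟶ L, (∀ j, l ≫ π j = (F.obj j).g) → IsIso l →
        Nonempty (IsLimit (cone x F))) := by
    refine ⟨limit (F ⋙ forget Q x), fun j => limit.π (F ⋙ forget Q x) j, fun i j φ => limit.w (F ⋙ forget Q x) φ,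
      fun f g h => limit.hom_ext h, ⟨limit.lift _ (cone x F), fun j => limit.lift_π (cone x F) j⟩, fun l hl hiso => ?_⟩
    have h1 : (limit.isLimit (F ⋙ forget Q x)).lift (cone x F) = l := limit.hom_ext fun j =>
      (limit.lift_π (cone x F) j).trans (hl j).symm
    have : IsIso ((limit.isLimit (F ⋙ forget Q x)).lift (cone x F)) := h1 ▸ hiso
    exact ⟨(limit.isLimit (F ⋙ forget Q x)).ofPointIso⟩
  obtain ⟨l, hl⟩ := hlift
  refine hpt l hl ?_
  obtain ⟨g, hg⟩ : ∃ g : L ⟶ Y, ∀ i, π i ≫ (F.obj i).e = g := by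
    refine ⟨π j₀ ≫ (F.obj j₀).e, fun i => ?_⟩
    obtain ⟨k, f, g, -⟩ := IsCofilteredOrEmpty.cone_objs i j₀
    rw [← hπ f, ← hπ g, Category.assoc, Category.assoc, w₁, w₁]
  have sqab : IsPullback (pullback.fst p g) (pullback.snd p g) p g := IsPullback.of_hasPullback _ _
  set b := pullback.fst p g with hb
  set a := pullback.snd p g with ha
  have hlx : l ≫ g = x := by rw [← hg j₀, ← Category.assoc, hl, (F.obj j₀).hg]
  have hw : (yon S).map xU ≫ p = (ξ ≫ l) ≫ g := by
    rw [Category.assoc, hlx, sqX.w]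
  let m : (yon S).obj XU ⟶ pullback p g := sqab.lift ((yon S).map xU) (ξ ≫ l) hw
  have hm1 : m ≫ b = (yon S).map xU := sqab.lift_fst _ _ _
  have hm2 : m ≫ a = ξ ≫ l := sqab.lift_snd _ _ _
  have sqm : IsPullback ξ m l a := by
    refine IsPullback.of_bot ?_ hm2.symm sqab.flip
    rw [hm1, hlx]
    exact sqX
  -- maps to the base changes
  have key : ∀ (T : Over S) (t : (yon S).obj T ⟶ pullback p g) (u : T ⟶ U) (_ : t ≫ b = (yon S).map u),
      ∃ t' : ∀ j, T ⟶ AU p (F.obj j), (∀ j, (yon S).map (t' j) ≫ aε p (F.obj j) = t ≫ a ≫ π j) ∧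
        (∀ j, t' j ≫ ae p (F.obj j) = u) := by
    intro T t u hu
    have : ∀ j, ∃ t' : T ⟶ AU p (F.obj j), (yon S).map t' ≫ aε p (F.obj j) = t ≫ a ≫ π j ∧
        t' ≫ ae p (F.obj j) = u := fun j =>
      K600.Basic.exists_lift (sq p (F.obj j)) (t ≫ a ≫ π j) u (by
        rw [Category.assoc, Category.assoc, hg, ← sqab.w, ← Category.assoc, hu])
    choose t' h1 h2 using this
    exact ⟨t', h1, h2⟩
  have hh : ∀ ⦃j k : J⦄ (φ : j ⟶ k), hU p sqX (F.obj j) ≫ (F ⋙ functorU p).map φ = hU p sqX (F.obj k) :=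
    fun j k φ => hU_mapU p sqX (F.map φ)
  have hm : IsIso m := by
    refine K615.Pt.isIso_of_bijective m fun T => ⟨fun l₁ l₂ h12 => ?_, fun t => ?_⟩
    · obtain ⟨l₁, rfl⟩ := (yon S).map_surjective l₁
      obtain ⟨l₂, rfl⟩ := (yon S).map_surjective l₂
      have h12' : (yon S).map l₁ ≫ m = (yon S).map l₂ ≫ m := h12
      congr 1
      have hcompat : ∀ ⦃j k : J⦄ (φ : j ⟶ k), (l₂ ≫ hU p sqX (F.obj j)) ≫ (F ⋙ functorU p).map φ =
          l₂ ≫ hU p sqX (F.obj k) := fun j k φ => by rw [Category.assoc, hh]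
      refine (AffLim.existsUnique (A := F ⋙ functorU p) (fun j => hU p sqX (F.obj j)) hA hXU hh H1 H2 T
        (fun j => l₂ ≫ hU p sqX (F.obj j)) hcompat).unique (fun j => ?_) fun j => rfl
      refine K600.Basic.hom_ext (sq p (F.obj j)) ?_ ?_
      · rw [Functor.map_comp, Functor.map_comp, Category.assoc, Category.assoc, hU_fst]
        have := congrArg (· ≫ a ≫ π j) h12'
        simp only [Category.assoc] at this
        rw [← Category.assoc m, hm2, Category.assoc, hl] at this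
        exact this
      · rw [Category.assoc, Category.assoc, hU_snd]
        apply (yon S).map_injective
        rw [Functor.map_comp, Functor.map_comp, ← hm1, ← Category.assoc, h12', Category.assoc]
    · obtain ⟨u, hu⟩ := (yon S).map_surjective (t ≫ b)
      obtain ⟨t', ht1, ht2⟩ := key T t u hu.symm
      have hcompat : ∀ ⦃j k : J⦄ (φ : j ⟶ k), t' j ≫ (F ⋙ functorU p).map φ = t' k := by
        intro j k φ
        refine K600.Basic.hom_ext (sq p (F.obj k)) ?_ ?_
        · change (yon S).map (t' j ≫ mapU p (F.map φ)) ≫ _ = _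
          rw [Functor.map_comp, Category.assoc, mapU_fst, ← Category.assoc, ht1, ht1, Category.assoc, Category.assoc, hπ]
        · change (t' j ≫ mapU p (F.map φ)) ≫ _ = _
          rw [Category.assoc, mapU_snd, ht2, ht2]
      obtain ⟨l₀, hl₀, -⟩ := AffLim.existsUnique (A := F ⋙ functorU p) (fun j => hU p sqX (F.obj j)) hA hXU hh H1 H2 T
        t' hcompat
      refine ⟨(yon S).map l₀, sqab.hom_ext ?_ ?_⟩
      · change ((yon S).map l₀ ≫ m) ≫ b = t ≫ b
        rw [Category.assoc, hm1, ← hu, ← Functor.map_comp, ← hU_snd p sqX (F.obj j₀), ← Category.assoc, hl₀, ht2]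
      · change ((yon S).map l₀ ≫ m) ≫ a = t ≫ a
        refine hext _ _ fun j => ?_
        rw [Category.assoc ((yon S).map l₀), hm2, Category.assoc, Category.assoc, Category.assoc, hl, ← hU_fst p sqX,
          ← Category.assoc, ← Functor.map_comp, hl₀, ht1]
  have hFp : K613.Cover.FSurj p := K613.Cover.FSurj.of_repWith (K598.Charts.repWith_flat_of_etale hp)
    (K598.Charts.repWith_lfp_of_etale hp) hp'
  have hFa : K613.Cover.FSurj a := hFp.of_isPullback sqab
  exact hFa.isIso sqm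

end lim

/-- The approximation theorem, for a class `Q` of affine morphisms of finite presentation. -/
theorem exists_limit [QuasiSeparatedSpace ↥S] (Q : MorphismProperty Scheme.{u}) [Q.IsMultiplicative]
    [Q.IsStableUnderBaseChange] (hQ : Q ≤ AF) (hQ' : CF ≤ Q) (Y : Space S) (hYc : IsQuasiCompactSp Y.obj)
    (hYs : IsQuasiSeparatedSp Y.obj) {X : Sp S} (x : X ⟶ Y.obj) (hx : IsAffineMor x)
    (hQx : ∀ (E : Sp S) (e : E ⟶ Y.obj) (g : X ⟶ E), RepWith AF e → g ≫ e = x →
      ∃ (E' : Sp S) (e' : E' ⟶ Y.obj) (g' : X ⟶ E') (φ : E' ⟶ E), RepWith Q e' ∧ φ ≫ e = e' ∧ g' ≫ φ = g) :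
    ∃ (I : Type u) (_ : Preorder I) (_ : IsDirected I (fun a b => a ≤ b)) (_ : Nonempty I) (F : Iᵒᵖ ⥤ Obj Q x),
      Nonempty (IsLimit (cone x F)) := by
  have hxr : RepWith @IsAffineHom x := K597.Affine.isAffineMor_iff.1 hx
  obtain ⟨U, p, hUa, hp, hp'⟩ := K600.LimAff.exists_affine_chart hYc
  obtain ⟨XU, xU, ξ, sqX⟩ := hxr.1 p
  have hXU : IsAffine XU.left := by
    have : IsAffineHom xU.left := hxr.2 _ _ _ sqX
    exact isAffine_of_isAffineHom xU.left
  have hAF : ∀ A : Obj Q x, RepWith AF A.e := fun A => repWith_mono hQ A.he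
  have hA : ∀ A : Obj Q x, IsAffine (AU p A).left := fun A => by
    have : IsAffineHom (ae p A).left := ((hAF A).2 _ _ _ (sq p A)).1
    exact isAffine_of_isAffineHom (ae p A).left
  have h1 : LocallySmall.{u} (Obj Q x) := locallySmall p hp hp'
  have h2 : IsCofiltered (Obj Q x) := isCofiltered hQ hQ'
  have hX : IsAlgSpace X := K600.LimSpace.isAlgSpace_of_isAffineMor hx Y.property
  have hXc : IsQuasiCompactSp X := K601.RelAff.isQuasiCompactSp_of_affine hx hYc
  obtain ⟨J, _, _, F, H1, H2⟩ := SmallCof.exists_small (C := Obj Q x)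
    (τ := fun A => {c : Γ((AU p A).left, ⊤) // (hU p sqX A).left.appTop.hom c = 0})
    (fun A t B f => (mapU p f).left.appTop.hom t.1 = 0)
    (fun A t => by
      have heM : IsAffineMor A.e := K597.Affine.isAffineMor_iff.2 (repWith_mono (fun _ _ _ h => h.1) (hAF A))
      have hE : IsAlgSpace A.E := K600.LimSpace.isAlgSpace_of_isAffineMor heM Y.property
      have hEc : IsQuasiCompactSp A.E := K601.RelAff.isQuasiCompactSp_of_affine heM hYc
      have hEs : IsQuasiSeparatedSp A.E := K601.RelAff.isQuasiSeparatedSp_of_affine heM hYs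
      have hgq : IsQuasiCompactMor A.g := K596.QC2.isQuasiCompactMor_of_qc_of_qs hX hE A.g hXc hEs
      have hε : RepWith @Etale (aε p A) := repWith_of_isPullback (sq p A).flip hp
      have sqg : IsPullback ξ ((yon S).map (hU p sqX A)) A.g (aε p A) := by
        refine IsPullback.of_bot ?_ (hU_fst p sqX A).symm (sq p A)
        rw [A.hg, ← Functor.map_comp, hU_snd]
        exact sqX
      obtain ⟨Z, z, g', hz, hg', hkill⟩ := Kill.exists_kill hE hEc hEs hgq (hA A) hε sqg t.1 t.2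
      let B : Obj Q x := ⟨Z, z ≫ A.e, g', (repWith_isMultiplicative (S := S) Q).comp_mem _ _ (repWith_mono hQ' hz) A.he,
        by rw [← Category.assoc, hg', A.hg]⟩
      let f : B ⟶ A := ⟨z, rfl, hg'⟩
      exact ⟨B, f, hkill _ _ (aε p B) (mapU_fst p f).symm⟩)
    (fun A t B f C g hf => by
      have h3 : mapU p (g ≫ f) = mapU p g ≫ mapU p f := (functorU p).map_comp g f
      rw [h3, Over.comp_left, appTop_comp, hf, map_zero])
    (τ₀ := Γ(XU.left, ⊤)) (fun a A => ∃ c, (hU p sqX A).left.appTop.hom c = a)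
    (fun a => by
      obtain ⟨E, e, g, he, hg, hI⟩ := f1_of_qcqs Y hYc hYs x hx hUa hp sqX a
      obtain ⟨E', e', g', φ, he', hφ, hg'⟩ := hQx E e g he hg
      have hg'' : g' ≫ e' = x := by rw [← hφ, ← Category.assoc, hg', hg]
      let A : Obj Q x := ⟨E', e', g', he', hg''⟩
      refine ⟨A, ?_⟩
      exact (inIm_iff (sq p A) (hU_fst p sqX A) (hU_snd p sqX A)).1 (hI.mono he'.1 hg'' φ hφ hg' sqX.w))
    (fun a A B f ⟨c, hc⟩ => ⟨(mapU p f).left.appTop.hom c, by
      rw [← appTop_comp, ← Over.comp_left, hU_mapU, hc]⟩)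
  obtain ⟨hlim⟩ := nonempty_isLimit sqX F (fun j => hA _) hXU hp hp' H1 (fun j c hc => H2 j ⟨c, hc⟩)
  obtain ⟨I, _, _, _, G, _⟩ := IsFiltered.exists_directed Jᵒᵖ
  exact ⟨I, inferInstance, inferInstance, inferInstance, G.leftOp ⋙ F,
    ⟨(Functor.Initial.isLimitWhiskerEquiv G.leftOp (cone x F)).symm hlim⟩⟩

end K636.ApproxCat
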