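import Groth.Agent.AlgSp.K636.ApproxLim
import Groth.Agent.AlgSp.K604.Approx3

/-!
# Affine morphisms are limits of affine morphisms of finite presentation
-/

set_option autoImplicit false
universe u
open CategoryTheory CategoryTheory.Limits AlgebraicGeometry Opposite
open AlgSp K598.RepKit K636.EdExt K636.Im

namespace K636.ApproxMain

open K636.ApproxCat

variable {S : Scheme.{u}}

theorem isAffineMor_of_af {E Y : Sp S} {e : E ⟶ Y} (he : RepWith AF e) : IsAffineMor e :=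
  K597.Affine.isAffineMor_iff.2 (repWith_mono (fun _ _ _ h => h.1) he)

theorem isAlgSpace_of_af {E Y : Sp S} (hY : IsAlgSpace Y) {e : E ⟶ Y} (he : RepWith AF e) : IsAlgSpace E :=
  K600.LimSpace.isAlgSpace_of_isAffineMor (isAffineMor_of_af he) hY

theorem isFinitePresentationMor_of_af {E Y : Sp S} (hY : IsAlgSpace Y) {e : E ⟶ Y} (he : RepWith AF e) :
    IsFinitePresentationMor e :=
  ⟨K597.locP_of_repWith K597.etLoc_lfp.precomp (repWith_mono (fun _ _ _ h => h.2) he),
    K605.LimImg.isQuasiCompactMor_of_isAffineMor (isAlgSpace_of_af hY he) hY (isAffineMor_of_af he),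
    K604.Approx.isQuasiSeparatedMor_of_isAffineMor (isAffineMor_of_af he)⟩

theorem isAffineMor_of_comp {A B C : Sp S} {f : A ⟶ B} {g : B ⟶ C} (h : IsAffineMor (f ≫ g)) (hg : IsAffineMor g) :
    IsAffineMor f := by
  rw [K597.Affine.isAffineMor_iff] at h hg ⊢
  refine K613.Diag.repWith_of_comp h ?_
  refine (K595.DiagBasic.repWith_diagonal_iff @IsAffineHom hg.1).2 (repWith_mono ?_ hg)
  intro _ _ f hf
  have : IsAffineHom f := hf
  exact (inferInstance : IsAffineHom (pullback.diagonal f))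

theorem main_affine [QuasiSeparatedSpace ↥S] {X Y : AlgSp.Space S} (f : X ⟶ Y) (hf : AlgSp.IsAffineMor f.hom)
    (hYqc : AlgSp.IsQuasiCompactSp Y.obj) (hYqs : AlgSp.IsQuasiSeparatedSp Y.obj) :
    ∃ (I : Type u) (_ : Preorder I) (_ : IsDirected I (fun a b => a ≤ b)) (_ : Nonempty I) (D : Iᵒᵖ ⥤ AlgSp.Sp S)
      (t : D ⟶ (Functor.const Iᵒᵖ).obj Y.obj) (c : Cone D) (_ : IsLimit c) (e : c.pt ≅ X.obj),
      (∀ i, AlgSp.IsAlgSpace (D.obj i)) ∧ (∀ (i j : Iᵒᵖ) (φ : i ⟶ j), AlgSp.IsAffineMor (D.map φ)) ∧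
      (∀ i, AlgSp.IsAffineMor (t.app i) ∧ AlgSp.IsFinitePresentationMor (t.app i)) ∧
      (∀ i, e.inv ≫ c.π.app i ≫ t.app i = f.hom) := by
  obtain ⟨I, h1, h2, h3, F, ⟨hlim⟩⟩ := exists_limit AF le_rfl (fun A B f hf => ⟨by
    have : IsClosedImmersion f := hf.1
    exact (inferInstance : IsAffineHom f), hf.2⟩) Y hYqc hYqs f.hom hf
    (fun E e g he hg => ⟨E, e, g, 𝟙 E, he, Category.id_comp _, Category.comp_id _⟩)
  let t : F ⋙ forget AF f.hom ⟶ (Functor.const Iᵒᵖ).obj Y.obj :=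
    { app := fun i => (F.obj i).e
      naturality := fun i j φ => (w₁ (F.map φ)).trans (Category.comp_id _).symm }
  refine ⟨I, h1, h2, h3, F ⋙ forget AF f.hom, t, cone f.hom F, hlim, Iso.refl _, fun i => ?_, fun i j φ => ?_,
    fun i => ?_, fun i => ?_⟩
  · exact isAlgSpace_of_af Y.property (F.obj i).he
  · refine isAffineMor_of_comp (g := (F.obj j).e) ?_ (isAffineMor_of_af (F.obj j).he)
    have h4 : (F ⋙ forget AF f.hom).map φ ≫ (F.obj j).e = (F.obj i).e := w₁ (F.map φ)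
    rw [h4]
    exact isAffineMor_of_af (F.obj i).he
  · exact ⟨isAffineMor_of_af (F.obj i).he, isFinitePresentationMor_of_af Y.property (F.obj i).he⟩
  · exact (Category.id_comp _).trans (F.obj i).hg

end K636.ApproxMain
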