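import Groth.Agent.AlgSp.K636.QfLocus
import Groth.Agent.AlgSp.K636.FinLqf
import Groth.Agent.AlgSp.K596.Mono
import Groth.Agent.AlgSp.K595.DiagRel
import Groth.Prelude.Def_AlgSpSub
import Groth.Prelude.Def_AlgSpDec

/-!
# Collapsing a fibre: auxiliary results
-/

set_option autoImplicit false
universe u

open CategoryTheory CategoryTheory.Limits AlgebraicGeometry Opposite

namespace K636.Collapse

open AlgSp K636.Where

variable {S : Scheme.{u}}

theorem injective_of_mono {F G : Sp S} (j : F ⟶ G) [Mono j] : Function.Injective (AlgSp.Points.map j) := by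
  intro x z e
  obtain ⟨p, hp1, hp2⟩ := K609.Points.exists_of_isPullback (IsKernelPair.id_of_mono j) x z e
  rw [← hp1, ← hp2]

/-- The fibre of `h : X ⟶ Y` over `k ⟶ B` has finite image. -/
def FinImage {X Y B : Space S} (h : X ⟶ Y) (g : Y ⟶ B) (k : FieldPt B.obj) : Prop :=
  ∀ (Yk : AlgSp.Sp S) (gY : Yk ⟶ Y.obj) (sY : Yk ⟶ (AlgSp.yon S).obj k.pt), IsPullback gY sY g.hom k.toHom →
    ∀ (Xk : AlgSp.Sp S) (gX : Xk ⟶ X.obj) (hk' : Xk ⟶ Yk), IsPullback gX hk' h.hom gY →
      (Set.range (AlgSp.Points.map hk')).Finite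

theorem finImage_of_mono {X Y B : Space S} (h : X ⟶ Y) (f : X ⟶ B) (g : Y ⟶ B) (hc : h ≫ g = f)
    (b : Points B.obj) (hfin : (AlgSp.Points.map h.hom '' (AlgSp.Points.map f.hom ⁻¹' {b})).Finite)
    (k : FieldPt B.obj) (hk : Points.mk k = b) [Mono k.toHom] : FinImage h g k := by
  intro Yk gY sY sq Xk gX hk' sq'
  have hm : Mono gY := MorphismProperty.of_isPullback (P := MorphismProperty.monomorphisms (Sp S)) sq.flip ‹Mono k.toHom›
  refine Set.Finite.of_finite_image (f := Points.map gY) (hfin.subset ?_) (injective_of_mono gY).injOn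
  rintro _ ⟨_, ⟨x, rfl⟩, rfl⟩
  refine ⟨Points.map gX x, ?_, ?_⟩
  · rw [Set.mem_preimage, Set.mem_singleton_iff, ← Points.map_comp, ← hk]
    have h1 : gX ≫ f.hom = (hk' ≫ sY) ≫ k.toHom := by
      rw [← hc]
      change gX ≫ h.hom ≫ g.hom = _
      rw [← Category.assoc, sq'.w, Category.assoc, sq.w, Category.assoc]
    rw [h1, Points.map_comp, ← Points.ofPt_toHom k (IsLocalRing.closedPoint k.K), Points.ofPt_eq_map_ofScheme]
    congr 1
    apply (Points.schemeEquiv k.pt).symm.injective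
    have : Subsingleton ↥k.pt.left := inferInstanceAs (Subsingleton ↥(Spec (.of k.K)))
    exact Subsingleton.elim _ _
  · rw [← Points.map_comp, ← Points.map_comp, sq'.w]

/-- All points over `b` are in the quasi-finite locus. -/
theorem mem_qfSet {X Y Z B : Space S} (h : X ⟶ Y) (g : Y ⟶ B) (k : FieldPt B.obj) (hfin : FinImage h g k)
    (i : Z ⟶ Y) (hi : RepWith @IsClosedImmersion i.hom) (h' : X ⟶ Z) (fac : h' ≫ i = h)
    (hs : IsSurjectiveMor h'.hom) (hsep : IsSeparatedMor (i ≫ g).hom) (hl : LocP @LocallyOfFiniteType (i ≫ g).hom)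
    (z : Points Z.obj) (hz : Points.map (i ≫ g).hom z = Points.mk k) : z ∈ K636.QfLocus.qfSet (i ≫ g) := by
  let T : Space S := ⟨(yon S).obj k.pt, IsAlgSpace.yon_obj _⟩
  let t : T ⟶ B := ObjectProperty.homMk k.toHom
  obtain ⟨Yk, gY, sY, sqY⟩ := exists_isPullback g t
  obtain ⟨Zk, gZ, ik, sqZ⟩ := exists_isPullback i gY
  obtain ⟨Xk, gX, hk, sqX⟩ := exists_isPullback h' gZ
  have sqX' : IsPullback gX.hom (hk.hom ≫ ik.hom) h.hom gY.hom := by
    rw [← fac]
    exact sqX.paste_vert sqZ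
  have sqZ' : IsPullback gZ.hom (ik ≫ sY).hom (i ≫ g).hom t.hom := sqZ.paste_vert sqY
  have h1 : (Set.range (Points.map (hk.hom ≫ ik.hom))).Finite := hfin Yk.obj gY.hom sY.hom sqY Xk.obj gX.hom _ sqX'
  have hik : RepWith @IsClosedImmersion ik.hom := MorphismProperty.of_isPullback (P := RepWith _) sqZ hi
  have hm : Mono ik.hom := K596.Mono.mono_of_repWith (fun _ _ f hf => by have := hf; infer_instance) hik
  have hfinZ : Finite (Points Zk.obj) := by
    rw [← Set.finite_univ_iff]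
    refine Set.Finite.of_finite_image (f := Points.map ik.hom) (h1.subset ?_) (injective_of_mono ik.hom).injOn
    rintro _ ⟨z, -, rfl⟩
    obtain ⟨x, hx⟩ := hs (Points.map gZ.hom z)
    obtain ⟨x', hx1, hx2⟩ := K609.Points.exists_of_isPullback sqX x z hx
    exact ⟨x', by rw [Points.map_comp, hx2]⟩
  have hsep' : IsSeparatedMor (ik ≫ sY).hom :=
    K595.DiagRel.isSeparatedMor_isStableUnderBaseChange.of_isPullback sqZ' hsep
  have hqs : IsQuasiSeparatedMor (ik ≫ sY).hom :=
    K609.Points.repWith_mono (fun _ h => by have := h; infer_instance) hsep'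
  have hl' : LocP @LocallyOfFiniteType (ik ≫ sY).hom :=
    K597.locP_bc K597.etLoc_lft sqZ' Z.property.hasAtlas B.property.hasAtlas T.property.hasAtlas hl
  have hT : IsAffine k.pt.left := inferInstanceAs (IsAffine (Spec (.of k.K)))
  have hlqf := K636.FinLqf.locP_lqf_of_finite Zk.property (T := k.pt) (ik ≫ sY).hom hqs hl'
  have h2 : K636.QfLocus.qfSet (ik ≫ sY) = Set.univ := (K636.QfLocus.locP_iff _).1 hlqf
  rw [(K636.QfLocus.qfSet_spec (i ≫ g) hl).2 _ _ _ _ _ sqZ'] at h2
  have h3 : Points.map (i ≫ g).hom z = Points.map t.hom (Points.ofScheme k.pt (IsLocalRing.closedPoint k.K)) := by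
    rw [hz, ← Points.ofPt_toHom k (IsLocalRing.closedPoint k.K), Points.ofPt_eq_map_ofScheme]
    rfl
  obtain ⟨z', hz', -⟩ := K609.Points.exists_of_isPullback sqZ' z _ h3
  have : z' ∈ Points.map gZ.hom ⁻¹' K636.QfLocus.qfSet (i ≫ g) := by rw [h2]; trivial
  rwa [Set.mem_preimage, hz'] at this

end K636.Collapse
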