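import Mathlib.AlgebraicGeometry.Sites.Fpqc
import Mathlib.AlgebraicGeometry.Limits

/-!
# Descent of functions along flat, surjective and quasi-compact morphisms
-/

set_option autoImplicit false
universe u

open CategoryTheory CategoryTheory.Limits AlgebraicGeometry Opposite

namespace K636.DescFun

/-- The polynomial ring in one variable over the integers, in the universe `u`. -/
noncomputable abbrev PZ : CommRingCat.{u} := CommRingCat.of (Polynomial (ULift.{u} ℤ))

/-- the ring map out of `ℤ[X]` -/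
noncomputable def ev {A : CommRingCat.{u}} (c : A) : PZ.{u} ⟶ A :=
  CommRingCat.ofHom (Polynomial.eval₂RingHom ((Int.castRingHom A).comp (ULift.ringEquiv (R := ℤ)).toRingHom) c)

theorem ev_X {A : CommRingCat.{u}} (c : A) : (ev c).hom Polynomial.X = c := by
  simp [ev]

theorem ev_ext {A : CommRingCat.{u}} {φ ψ : PZ.{u} ⟶ A} (h : φ.hom Polynomial.X = ψ.hom Polynomial.X) : φ = ψ := by
  ext1
  refine Polynomial.ringHom_ext' ?_ h
  have : Function.Surjective (ULift.ringEquiv (R := ℤ)).symm.toRingHom := (ULift.ringEquiv (R := ℤ)).symm.surjective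
  rw [← RingHom.cancel_right this]
  exact RingHom.ext_int _ _

/-- The morphism to the affine line of a function. -/
noncomputable def toLine {Y : Scheme.{u}} (c : Γ(Y, ⊤)) : Y ⟶ Spec PZ.{u} := Y.toSpecΓ ≫ Spec.map (ev c)

theorem comp_toLine {Y Y' : Scheme.{u}} (f : Y' ⟶ Y) (c : Γ(Y, ⊤)) : f ≫ toLine c = toLine (f.appTop.hom c) := by
  have h : ev (f.appTop.hom c) = ev c ≫ f.appTop := ev_ext (by
    rw [ev_X, CommRingCat.comp_apply, ev_X])
  rw [toLine, toLine, h, Spec.map_comp, ← Category.assoc, ← Category.assoc, Scheme.toSpecΓ_naturality]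

theorem exists_eq_toLine {Y : Scheme.{u}} (g : Y ⟶ Spec PZ.{u}) : ∃ c, toLine c = g := by
  refine ⟨g.appTop.hom ((Scheme.ΓSpecIso PZ.{u}).inv.hom Polynomial.X), ?_⟩
  have h : ev (g.appTop.hom ((Scheme.ΓSpecIso PZ.{u}).inv.hom Polynomial.X)) = (Scheme.ΓSpecIso PZ.{u}).inv ≫ g.appTop :=
    ev_ext (by rw [ev_X]; rfl)
  rw [toLine, h, Spec.map_comp, ← Category.assoc, ← Scheme.toSpecΓ_naturality, Category.assoc,
    toSpecΓ_SpecMap_ΓSpecIso_inv, Category.comp_id]

theorem toLine_eval {Y : Scheme.{u}} (c : Γ(Y, ⊤)) :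
    (toLine c).appTop.hom ((Scheme.ΓSpecIso PZ.{u}).inv.hom Polynomial.X) = c := by
  have h1 : (Scheme.ΓSpecIso PZ.{u}).inv ≫ (Spec.map (ev c)).appTop = ev c ≫ (Scheme.ΓSpecIso Γ(Y, ⊤)).inv :=
    (Scheme.ΓSpecIso_inv_naturality (ev c)).symm
  have h2 : (Scheme.ΓSpecIso PZ.{u}).inv ≫ (toLine c).appTop = ev c := by
    rw [toLine, Scheme.Hom.comp_appTop, ← Category.assoc, h1, Category.assoc, Scheme.toSpecΓ_appTop, Iso.inv_hom_id,
      Category.comp_id]
  rw [← CommRingCat.comp_apply, h2, ev_X]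

theorem toLine_injective {Y : Scheme.{u}} {c d : Γ(Y, ⊤)} (h : toLine c = toLine d) : c = d := by
  rw [← toLine_eval c, h, toLine_eval]

/-- Functions descend along flat surjective quasi-compact morphisms. -/
theorem exists_of_eq {Y' Y P : Scheme.{u}} (f : Y' ⟶ Y) [QuasiCompact f] [Surjective f] [Flat f] {p q : P ⟶ Y'}
    (sq : IsPullback p q f f) (c : Γ(Y', ⊤)) (h : p.appTop.hom c = q.appTop.hom c) :
    ∃ d : Γ(Y, ⊤), f.appTop.hom d = c := by
  obtain ⟨d, hd⟩ := exists_eq_toLine (EffectiveEpi.desc f (toLine c) fun {Z} g₁ g₂ hg => by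
    have h1 : p ≫ toLine c = q ≫ toLine c := by rw [comp_toLine, comp_toLine, h]
    rw [← sq.lift_fst g₁ g₂ hg, Category.assoc, h1, ← Category.assoc, sq.lift_snd])
  refine ⟨d, toLine_injective ?_⟩
  rw [← comp_toLine, hd, EffectiveEpi.fac]

theorem injective {Y' Y : Scheme.{u}} (f : Y' ⟶ Y) [QuasiCompact f] [Surjective f] [Flat f] :
    Function.Injective f.appTop.hom := by
  intro c d h
  have h1 : f ≫ toLine c = f ≫ toLine d := by rw [comp_toLine, comp_toLine, h]
  exact toLine_injective ((cancel_epi f).1 h1)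

end K636.DescFun
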