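import Mathlib.CategoryTheory.Limits.Shapes.Pullback.IsPullback.Basic

/-!
# Base change of `X ×_Y X` and of the diagonal
-/

set_option autoImplicit false
universe v u

open CategoryTheory CategoryTheory.Limits

namespace K636.DiagSq

variable {C : Type u} [Category.{v} C] {X Y Z X' Y' Z' P P' : C} {f : X ⟶ Y} {q : Y ⟶ Z} {g : Z' ⟶ Z}
  {gY : Y' ⟶ Y} {q' : Y' ⟶ Z'} {gX : X' ⟶ X} {f' : X' ⟶ Y'} {a b : P ⟶ X} {a' b' : P' ⟶ X'}

/-- `X' ×_{Y'} X' ⟶ X ×_Y X`. -/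
theorem exists_map (sqX : IsPullback gX f' f gY) (hP : IsPullback a b f f) (hP' : IsPullback a' b' f' f') :
    ∃ gP : P' ⟶ P, gP ≫ a = a' ≫ gX ∧ gP ≫ b = b' ≫ gX := by
  refine ⟨hP.lift (a' ≫ gX) (b' ≫ gX) ?_, hP.lift_fst _ _ _, hP.lift_snd _ _ _⟩
  rw [Category.assoc, Category.assoc, sqX.w, ← Category.assoc, ← Category.assoc, hP'.w]

theorem isPullback_snd (sqX : IsPullback gX f' f gY) (hP : IsPullback a b f f) (hP' : IsPullback a' b' f' f')
    {gP : P' ⟶ P} (h1 : gP ≫ a = a' ≫ gX) (h2 : gP ≫ b = b' ≫ gX) : IsPullback gP b' b gX := by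
  refine IsPullback.of_right ?_ h2 hP
  rw [h1, sqX.w]
  exact hP'.paste_horiz sqX

theorem isPullback_base (sqY : IsPullback gY q' q g) (sqX : IsPullback gX f' f gY) (hP : IsPullback a b f f)
    (hP' : IsPullback a' b' f' f') {gP : P' ⟶ P} (h1 : gP ≫ a = a' ≫ gX) (h2 : gP ≫ b = b' ≫ gX) :
    IsPullback gP (b' ≫ f' ≫ q') (b ≫ f ≫ q) g :=
  (isPullback_snd sqX hP hP' h1 h2).paste_vert (sqX.paste_vert sqY)

theorem isPullback_diag (sqX : IsPullback gX f' f gY) (hP : IsPullback a b f f) (hP' : IsPullback a' b' f' f')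
    {gP : P' ⟶ P} (h1 : gP ≫ a = a' ≫ gX) (h2 : gP ≫ b = b' ≫ gX) {d : X ⟶ P} (hd1 : d ≫ a = 𝟙 X)
    (hd2 : d ≫ b = 𝟙 X) {d' : X' ⟶ P'} (hd1' : d' ≫ a' = 𝟙 X') (hd2' : d' ≫ b' = 𝟙 X') :
    IsPullback gX d' d gP := by
  refine IsPullback.of_bot ?_ ?_ (isPullback_snd sqX hP hP' h1 h2)
  · rw [hd2, hd2']
    exact IsPullback.of_vert_isIso ⟨by simp⟩
  · apply hP.hom_ext
    · rw [Category.assoc, hd1, Category.assoc, h1, ← Category.assoc, hd1', Category.id_comp, Category.comp_id]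
    · rw [Category.assoc, hd2, Category.assoc, h2, ← Category.assoc, hd2', Category.id_comp, Category.comp_id]

end K636.DiagSq
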