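import Groth.Agent.AlgSp.K636.FpSch
import Mathlib.AlgebraicGeometry.Morphisms.ClosedImmersion

/-!
# Extension of finitely presented affine morphisms from a quasi-compact open of an affine scheme

`V` affine, `i : V₁ → V` a quasi-compact open immersion, `x : X → V` with `X` affine, `X₁` the
restriction of `X` to `V₁` and `g₁ : X₁ → Y₁` a morphism over `V₁`.

* `exists_extend` : if `Y₁ → V₁` is affine of finite presentation
  then there is `y : Y → V` affine of finite presentation with `Y|V₁ = Y₁` and a `V`-morphism `X → Y` extending `g₁`;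
  moreover finitely many given pairs `(b, a)` of functions on `Y₁` and `X` that agree on `X₁` come from functions on `Y`.
* `exists_extend_closed` : the same with closed immersions of finite presentation (instead of pairs of functions:
  finitely many functions on `V` vanishing on `Y₁` and `X` vanish on `Y`).
-/

set_option autoImplicit false
universe u

open CategoryTheory CategoryTheory.Limits AlgebraicGeometry TopologicalSpace

namespace K636.FpExtSch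

open K636.FpRing K636.FpSch

variable {V V₁ X X₁ Y₁ : Scheme.{u}}

theorem finitePresentation_res [IsAffine V] (i : V₁ ⟶ V) [IsOpenImmersion i] (y₁ : Y₁ ⟶ V₁)
    [IsAffineHom y₁] [LocallyOfFinitePresentation y₁] (f : Γ(V, ⊤)) (hf : V.basicOpen f ≤ i.opensRange) :
    ((y₁ ≫ i).appTop ≫ Y₁.presheaf.map (homOfLE (le_top : Y₁.basicOpen ((y₁ ≫ i).appTop f) ≤ ⊤)).op).hom.FinitePresentation := by
  have h1 : LocallyOfFinitePresentation (y₁ ≫ i) := inferInstance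
  have h2 := h1.finitePresentation_appLE (isAffineOpen_top V) (isAffineOpen_basicOpen i y₁ f hf) le_top
  exact h2

section ring

variable [IsAffine V] [IsAffine X] (i : V₁ ⟶ V) [IsOpenImmersion i] [QuasiCompact i] (x : X ⟶ V)
    (j : X₁ ⟶ X) (x₁ : X₁ ⟶ V₁) (sq : IsPullback j x₁ x i) (y₁ : Y₁ ⟶ V₁) [IsAffineHom y₁]
    (g₁ : X₁ ⟶ Y₁) (hg₁ : g₁ ≫ y₁ = x₁)

/-- The fibre product ring. -/
abbrev A' (j : X₁ ⟶ X) (g₁ : X₁ ⟶ Y₁) : Subring (Γ(Y₁, ⊤) × Γ(X, ⊤)) := pb g₁.appTop.hom j.appTop.hom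

abbrev p₁ (j : X₁ ⟶ X) (g₁ : X₁ ⟶ Y₁) : A' j g₁ →+* Γ(Y₁, ⊤) := (RingHom.fst _ _).comp (A' j g₁).subtype
abbrev p₂ (j : X₁ ⟶ X) (g₁ : X₁ ⟶ Y₁) : A' j g₁ →+* Γ(X, ⊤) := (RingHom.snd _ _).comp (A' j g₁).subtype

include sq hg₁ in
omit [IsAffine V] [IsAffine X] [IsOpenImmersion i] [QuasiCompact i] [IsAffineHom y₁] in
theorem hxw : j.appTop.hom.comp x.appTop.hom = g₁.appTop.hom.comp (y₁ ≫ i).appTop.hom := by
  have : x.appTop ≫ j.appTop = (y₁ ≫ i).appTop ≫ g₁.appTop := by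
    rw [← Scheme.Hom.comp_appTop, ← Scheme.Hom.comp_appTop, ← Category.assoc, hg₁, sq.w]
  exact congrArg CommRingCat.Hom.hom this

/-- The structure map of the fibre product ring. -/
noncomputable def ρ (h : j.appTop.hom.comp x.appTop.hom = g₁.appTop.hom.comp (y₁ ≫ i).appTop.hom) :
    Γ(V, ⊤) →+* A' j g₁ :=
  ((y₁ ≫ i).appTop.hom.prod x.appTop.hom).codRestrict (A' j g₁) (fun r => (DFunLike.congr_fun h r).symm)

include sq in
omit [IsAffineHom y₁] [IsAffine V] in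
theorem fIso_p₁ (f : Γ(V, ⊤)) (hf : V.basicOpen f ≤ i.opensRange)
    (h : j.appTop.hom.comp x.appTop.hom = g₁.appTop.hom.comp (y₁ ≫ i).appTop.hom) :
    FIso (p₁ j g₁) (ρ i x j y₁ g₁ h f) := by
  have hj : IsOpenImmersion j := MorphismProperty.of_isPullback sq.flip (inferInstance : IsOpenImmersion i)
  have hjc : QuasiCompact j := MorphismProperty.of_isPullback sq.flip (inferInstance : QuasiCompact i)
  have hX₁c : CompactSpace X₁ := QuasiCompact.compactSpace_of_compactSpace j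
  have hX₁s : QuasiSeparatedSpace X₁ := quasiSeparatedSpace_of_quasiSeparated j
  refine FIso.pb_fst (ρ i x j y₁ g₁ h f) ?_
  refine fIso_of_isOpenImmersion j (x.appTop.hom f) ?_
  intro z hz
  have hz' : x z ∈ V.basicOpen f := by
    have h1 : x ⁻¹ᵁ V.basicOpen f = X.basicOpen (x.appTop.hom f) := Scheme.preimage_basicOpen_top _ _
    rw [← h1] at hz
    exact hz
  obtain ⟨w, hw⟩ := hf hz'
  obtain ⟨q, hq, -⟩ := Scheme.exists_preimage_of_isPullback sq z w hw.symm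
  exact ⟨q, hq⟩

include sq in
/-- The scheme theoretic part of the extension results. -/
theorem extend_of_ring (s : Finset Γ(V, ⊤)) (hs : ∀ v : V, v ∈ Set.range i ↔ ∃ f ∈ s, v ∈ V.basicOpen f)
    (h : j.appTop.hom.comp x.appTop.hom = g₁.appTop.hom.comp (y₁ ≫ i).appTop.hom)
    (Q : CommRingCat.{u}) (χ : Γ(V, ⊤) ⟶ Q) (φ : Q →+* A' j g₁) (hφ : φ.comp χ.hom = ρ i x j y₁ g₁ h)
    (hφs : ∀ f ∈ s, FIso φ (χ f)) :
    ∃ (g : X ⟶ Spec Q) (k : Y₁ ⟶ Spec Q), g ≫ Spec.map χ ≫ V.isoSpec.inv = x ∧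
      IsPullback k y₁ (Spec.map χ ≫ V.isoSpec.inv) i ∧ j ≫ g = g₁ ≫ k ∧
      ∀ q : Q, k.appTop ((Scheme.ΓSpecIso Q).inv q) = (φ q).1.1 ∧ g.appTop ((Scheme.ΓSpecIso Q).inv q) = (φ q).1.2 := by
  have hV₁c : CompactSpace V₁ := QuasiCompact.compactSpace_of_compactSpace i
  have hY₁c : CompactSpace Y₁ := QuasiCompact.compactSpace_of_compactSpace y₁
  have hY₁s : QuasiSeparatedSpace Y₁ := quasiSeparatedSpace_of_quasiSeparated (y₁ ≫ i)
  have hle : ∀ f ∈ s, V.basicOpen f ≤ i.opensRange := fun f hf v hv => (hs v).2 ⟨f, hf, hv⟩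
  let ψ : Q ⟶ Γ(Y₁, ⊤) := CommRingCat.ofHom ((p₁ j g₁).comp φ)
  let θ : Q ⟶ Γ(X, ⊤) := CommRingCat.ofHom ((p₂ j g₁).comp φ)
  have hχψ : χ ≫ ψ = (y₁ ≫ i).appTop := by
    ext r
    change p₁ j g₁ (φ (χ.hom r)) = _
    rw [← RingHom.comp_apply φ, hφ]
    rfl
  have hχθ : χ ≫ θ = x.appTop := by
    ext r
    change p₂ j g₁ (φ (χ.hom r)) = _
    rw [← RingHom.comp_apply φ, hφ]
    rfl
  have hψθ : θ ≫ j.appTop = ψ ≫ g₁.appTop := by
    ext r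
    exact (φ r).2.symm
  have hloc : ∀ f ∈ s, FIso ψ.hom (χ f) := by
    intro f hf
    refine FIso.comp (hφs f hf) ?_
    have h1 : φ (χ f) = ρ i x j y₁ g₁ h f := DFunLike.congr_fun hφ f
    rw [h1]
    exact fIso_p₁ i x j x₁ sq y₁ g₁ f (hle f hf) h
  refine ⟨toSpec θ, toSpec ψ, ?_, ?_, ?_, ?_⟩
  · rw [toSpec_comp_assoc, hχθ, toSpec_isoSpec_inv]
  · exact isPullback_of_fIso i y₁ s hs χ ψ hχψ hloc
  · rw [comp_toSpec, comp_toSpec, hψθ]
  · intro q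
    exact ⟨congrArg (fun z => z.hom q) (toSpec_appTop ψ), congrArg (fun z => z.hom q) (toSpec_appTop θ)⟩

include sq in
theorem fp_localization [LocallyOfFinitePresentation y₁] (f : Γ(V, ⊤)) (hf : V.basicOpen f ≤ i.opensRange)
    (h : j.appTop.hom.comp x.appTop.hom = g₁.appTop.hom.comp (y₁ ≫ i).appTop.hom) :
    letI : Algebra Γ(V, ⊤) (A' j g₁) := (ρ i x j y₁ g₁ h).toAlgebra
    Algebra.FinitePresentation Γ(V, ⊤) (Localization.Away (algebraMap Γ(V, ⊤) (A' j g₁) f)) := by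
  have hV₁c : CompactSpace V₁ := QuasiCompact.compactSpace_of_compactSpace i
  have hY₁c : CompactSpace Y₁ := QuasiCompact.compactSpace_of_compactSpace y₁
  have hY₁s : QuasiSeparatedSpace Y₁ := quasiSeparatedSpace_of_quasiSeparated (y₁ ≫ i)
  have hFI := fIso_p₁ i x j x₁ sq y₁ g₁ f hf h
  let alg : Algebra Γ(V, ⊤) (A' j g₁) := (ρ i x j y₁ g₁ h).toAlgebra
  let D := Y₁.basicOpen ((y₁ ≫ i).appTop f)
  have hl : IsLocalization.Away (p₁ j g₁ (ρ i x j y₁ g₁ h f)) Γ(Y₁, D) :=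
    isLocalization_basicOpen_of_qcqs isCompact_univ isQuasiSeparated_univ _
  let alg1 : Algebra (A' j g₁) Γ(Y₁, D) := ((Y₁.presheaf.map (homOfLE le_top).op).hom.comp (p₁ j g₁)).toAlgebra
  have hl' : IsLocalization.Away (algebraMap Γ(V, ⊤) (A' j g₁) f) Γ(Y₁, D) :=
    hFI.isLocalization _ (fun x => rfl)
  let alg2 : Algebra Γ(V, ⊤) Γ(Y₁, D) :=
    ((y₁ ≫ i).appTop ≫ Y₁.presheaf.map (homOfLE (le_top : Y₁.basicOpen ((y₁ ≫ i).appTop f) ≤ ⊤)).op).hom.toAlgebra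
  have : IsScalarTower Γ(V, ⊤) (A' j g₁) Γ(Y₁, D) := IsScalarTower.of_algebraMap_eq (fun r => rfl)
  have h1 : Algebra.FinitePresentation Γ(V, ⊤) Γ(Y₁, D) := finitePresentation_res i y₁ f hf
  exact Algebra.FinitePresentation.equiv
      ((IsLocalization.algEquiv (Submonoid.powers (algebraMap Γ(V, ⊤) (A' j g₁) f)) Γ(Y₁, D)
        (Localization.Away (algebraMap Γ(V, ⊤) (A' j g₁) f))).restrictScalars Γ(V, ⊤))

end ring

theorem lfp_of_algebra [IsAffine V] (B : Type u) [CommRing B] [Algebra Γ(V, ⊤) B]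
    [hB : Algebra.FinitePresentation Γ(V, ⊤) B] :
    LocallyOfFinitePresentation (Spec.map (CommRingCat.ofHom (algebraMap Γ(V, ⊤) B)) ≫ V.isoSpec.inv) := by
  have : LocallyOfFinitePresentation (Spec.map (CommRingCat.ofHom (algebraMap Γ(V, ⊤) B))) := by
    rw [LocallyOfFinitePresentation.SpecMap_iff]
    change (algebraMap Γ(V, ⊤) B).FinitePresentation
    rw [RingHom.finitePresentation_algebraMap]
    exact hB
  infer_instance

theorem exists_extend [IsAffine V] [IsAffine X] (i : V₁ ⟶ V) [IsOpenImmersion i] [QuasiCompact i] (x : X ⟶ V)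
    (j : X₁ ⟶ X) (x₁ : X₁ ⟶ V₁) (sq : IsPullback j x₁ x i) (y₁ : Y₁ ⟶ V₁) [IsAffineHom y₁]
    [LocallyOfFinitePresentation y₁] (g₁ : X₁ ⟶ Y₁) (hg₁ : g₁ ≫ y₁ = x₁) (T : Finset (Γ(Y₁, ⊤) × Γ(X, ⊤)))
    (hT : ∀ t ∈ T, g₁.appTop t.1 = j.appTop t.2) :
    ∃ (Y : Scheme.{u}) (y : Y ⟶ V) (g : X ⟶ Y) (k : Y₁ ⟶ Y), IsAffine Y ∧ LocallyOfFinitePresentation y ∧
      g ≫ y = x ∧ IsPullback k y₁ y i ∧ j ≫ g = g₁ ≫ k ∧
      ∀ t ∈ T, ∃ c : Γ(Y, ⊤), k.appTop c = t.1 ∧ g.appTop c = t.2 := by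
  classical
  obtain ⟨s, hs⟩ := exists_basicOpen_cover i
  have hle : ∀ f ∈ s, V.basicOpen f ≤ i.opensRange := fun f hf v hv => (hs v).2 ⟨f, hf, hv⟩
  have h := hxw i x j x₁ sq y₁ g₁ hg₁
  let alg : Algebra Γ(V, ⊤) (A' j g₁) := (ρ i x j y₁ g₁ h).toAlgebra
  have hfp : ∀ f ∈ s, Algebra.FinitePresentation Γ(V, ⊤) (Localization.Away (algebraMap Γ(V, ⊤) (A' j g₁) f)) :=
    fun f hf => fp_localization i x j x₁ sq y₁ g₁ f (hle f hf) h
  have hS₀ : ∃ S₀ : Finset (A' j g₁), ∀ (t : Γ(Y₁, ⊤) × Γ(X, ⊤)) (ht : t ∈ T), (⟨t, hT t ht⟩ : A' j g₁) ∈ S₀ :=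
    ⟨T.attach.image fun t : { t // t ∈ T } => (⟨t.1, hT t.1 t.2⟩ : A' j g₁), fun t ht =>
      Finset.mem_image.2 ⟨⟨t, ht⟩, Finset.mem_attach _ _, rfl⟩⟩
  obtain ⟨S₀, hS₀⟩ := hS₀
  obtain ⟨B, _, _, φ, hB, hS, hφ⟩ := exists_fp_approx Γ(V, ⊤) (A' j g₁) s hfp S₀
  obtain ⟨g, k, h1, h2, h3, h4⟩ := extend_of_ring i x j x₁ sq y₁ g₁ s hs h (CommRingCat.of B)
    (CommRingCat.ofHom (algebraMap Γ(V, ⊤) B)) φ.toRingHom (RingHom.ext fun r => φ.commutes r) hφ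
  refine ⟨_, _, g, k, inferInstance, lfp_of_algebra B, h1, h2, h3, fun t ht => ?_⟩
  obtain ⟨b, hb⟩ := hS ⟨t, hT t ht⟩ (hS₀ t ht)
  obtain ⟨h5, h6⟩ := h4 b
  refine ⟨_, h5.trans ?_, h6.trans ?_⟩
  · exact congrArg (fun z : A' j g₁ => z.1.1) hb
  · exact congrArg (fun z : A' j g₁ => z.1.2) hb

/-- Functions on a closed subscheme of an open subscheme. -/
theorem surj_of_closed [IsAffine V] (i : V₁ ⟶ V) [IsOpenImmersion i] [QuasiCompact i]
    (y₁ : Y₁ ⟶ V₁) [IsClosedImmersion y₁] (f : Γ(V, ⊤)) (hf : V.basicOpen f ≤ i.opensRange) (b : Γ(Y₁, ⊤)) :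
    ∃ (n : ℕ) (r : Γ(V, ⊤)), (y₁ ≫ i).appTop.hom r = (y₁ ≫ i).appTop.hom f ^ n * b := by
  have hV₁c : CompactSpace V₁ := QuasiCompact.compactSpace_of_compactSpace i
  have hY₁c : CompactSpace Y₁ := QuasiCompact.compactSpace_of_compactSpace y₁
  have hY₁s : QuasiSeparatedSpace Y₁ := quasiSeparatedSpace_of_quasiSeparated (y₁ ≫ i)
  have hD := isAffineOpen_basicOpen i (𝟙 V₁) f hf
  rw [basicOpen_eq] at hD
  change IsAffineOpen (i ⁻¹ᵁ V.basicOpen f) at hD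
  have h1 : Function.Surjective (y₁.app (i ⁻¹ᵁ V.basicOpen f)) := y₁.app_surjective _ hD
  have h2 : IsIso (i.app (V.basicOpen f)) := i.isIso_app _ hf
  have h3 : Function.Surjective ((y₁ ≫ i).app (V.basicOpen f)) := by
    rw [Scheme.Hom.comp_app]
    exact h1.comp (ConcreteCategory.bijective_of_isIso (i.app (V.basicOpen f))).2
  have h4 : IsLocalization.Away f Γ(V, V.basicOpen f) :=
    isLocalization_basicOpen_of_qcqs isCompact_univ isQuasiSeparated_univ _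
  have h5 : IsLocalization.Away ((y₁ ≫ i).appTop.hom f) Γ(Y₁, Y₁.basicOpen ((y₁ ≫ i).appTop.hom f)) :=
    isLocalization_basicOpen_of_qcqs isCompact_univ isQuasiSeparated_univ _
  have h6 : (y₁ ≫ i) ⁻¹ᵁ V.basicOpen f = Y₁.basicOpen ((y₁ ≫ i).appTop.hom f) := Scheme.preimage_basicOpen_top _ _
  let e : Γ(V, V.basicOpen f) ⟶ Γ(Y₁, Y₁.basicOpen ((y₁ ≫ i).appTop.hom f)) :=
    (y₁ ≫ i).app (V.basicOpen f) ≫ Y₁.presheaf.map (eqToHom h6.symm).op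
  have he : Function.Surjective e :=
    (ConcreteCategory.bijective_of_isIso (Y₁.presheaf.map (eqToHom h6.symm).op)).2.comp h3
  have h7 : V.presheaf.map (homOfLE le_top).op ≫ e =
      (y₁ ≫ i).appTop ≫ Y₁.presheaf.map (homOfLE (le_top : Y₁.basicOpen ((y₁ ≫ i).appTop.hom f) ≤ ⊤)).op := by
    rw [← Category.assoc, Scheme.Hom.naturality, Category.assoc, ← Functor.map_comp]
    rfl
  have h8 : ∀ r, e (algebraMap Γ(V, ⊤) Γ(V, V.basicOpen f) r) =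
      algebraMap Γ(Y₁, ⊤) Γ(Y₁, Y₁.basicOpen ((y₁ ≫ i).appTop.hom f)) ((y₁ ≫ i).appTop.hom r) := fun r =>
    congrArg (fun z => z.hom r) h7
  obtain ⟨z, hz⟩ := he (algebraMap Γ(Y₁, ⊤) Γ(Y₁, Y₁.basicOpen ((y₁ ≫ i).appTop.hom f)) b)
  obtain ⟨⟨r, ⟨_, n, rfl⟩⟩, hr⟩ := IsLocalization.surj (Submonoid.powers f) z
  dsimp only at hr
  have h9 : algebraMap Γ(Y₁, ⊤) Γ(Y₁, Y₁.basicOpen ((y₁ ≫ i).appTop.hom f)) ((y₁ ≫ i).appTop.hom r) =
      algebraMap Γ(Y₁, ⊤) Γ(Y₁, Y₁.basicOpen ((y₁ ≫ i).appTop.hom f)) ((y₁ ≫ i).appTop.hom f ^ n * b) := by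
    rw [← h8, ← hr, map_mul, map_mul, hz, h8, map_pow, mul_comm]
  obtain ⟨⟨_, m, rfl⟩, hm⟩ := IsLocalization.exists_of_eq (M := Submonoid.powers ((y₁ ≫ i).appTop.hom f)) h9
  dsimp only at hm
  refine ⟨m + n, f ^ m * r, ?_⟩
  rw [map_mul, map_pow, hm, pow_add, mul_assoc]

theorem exists_extend_closed [IsAffine V] [IsAffine X] (i : V₁ ⟶ V) [IsOpenImmersion i] [QuasiCompact i] (x : X ⟶ V)
    (j : X₁ ⟶ X) (x₁ : X₁ ⟶ V₁) (sq : IsPullback j x₁ x i) (y₁ : Y₁ ⟶ V₁) [IsClosedImmersion y₁]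
    [LocallyOfFinitePresentation y₁] (g₁ : X₁ ⟶ Y₁) (hg₁ : g₁ ≫ y₁ = x₁) (T : Finset Γ(V, ⊤))
    (hT : ∀ t ∈ T, (y₁ ≫ i).appTop.hom t = 0 ∧ x.appTop.hom t = 0) :
    ∃ (Y : Scheme.{u}) (y : Y ⟶ V) (g : X ⟶ Y) (k : Y₁ ⟶ Y), IsClosedImmersion y ∧ LocallyOfFinitePresentation y ∧
      g ≫ y = x ∧ IsPullback k y₁ y i ∧ j ≫ g = g₁ ≫ k ∧ ∀ t ∈ T, y.appTop.hom t = 0 := by
  classical
  obtain ⟨s, hs⟩ := exists_basicOpen_cover i
  have hle : ∀ f ∈ s, V.basicOpen f ≤ i.opensRange := fun f hf v hv => (hs v).2 ⟨f, hf, hv⟩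
  have h := hxw i x j x₁ sq y₁ g₁ hg₁
  let alg : Algebra Γ(V, ⊤) (A' j g₁) := (ρ i x j y₁ g₁ h).toAlgebra
  have hfp : ∀ f ∈ s, Algebra.FinitePresentation Γ(V, ⊤) (Localization.Away (algebraMap Γ(V, ⊤) (A' j g₁) f)) :=
    fun f hf => fp_localization i x j x₁ sq y₁ g₁ f (hle f hf) h
  let π : Γ(V, ⊤) →ₐ[Γ(V, ⊤)] A' j g₁ := Algebra.ofId _ _
  have hπ : ∀ f ∈ s, ∀ a : A' j g₁, ∃ (n : ℕ) (r : Γ(V, ⊤)), π r = algebraMap Γ(V, ⊤) (A' j g₁) f ^ n * a := by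
    intro f hf a
    obtain ⟨n, r, hr⟩ := surj_of_closed i y₁ f (hle f hf) (p₁ j g₁ a)
    have hFI := fIso_p₁ i x j x₁ sq y₁ g₁ f (hle f hf) h
    obtain ⟨m, hm⟩ := hFI.inj (ρ i x j y₁ g₁ h r - ρ i x j y₁ g₁ h f ^ n * a) (by
      rw [map_sub, map_mul, map_pow, sub_eq_zero]
      exact hr)
    refine ⟨m + n, f ^ m * r, ?_⟩
    change ρ i x j y₁ g₁ h (f ^ m * r) = ρ i x j y₁ g₁ h f ^ (m + n) * a
    rw [mul_sub, sub_eq_zero] at hm
    rw [map_mul, map_pow, hm, pow_add, mul_assoc]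
  have hK : ∀ f : Γ(V, ⊤), f ∈ s → ∃ K : Finset Γ(V, ⊤), (∀ z ∈ K, π z = 0) ∧
      ∀ z, π z = 0 → ∃ n : ℕ, algebraMap Γ(V, ⊤) Γ(V, ⊤) f ^ n * z ∈ Ideal.span (K : Set Γ(V, ⊤)) := fun f hf => by
    have := hfp f hf
    exact exists_ker π f (hπ f hf)
  choose! K hK hK' using hK
  let J : Ideal Γ(V, ⊤) := Ideal.span ((s.biUnion K ∪ T : Finset Γ(V, ⊤)) : Set Γ(V, ⊤))
  have hJ : ∀ z ∈ J, π z = 0 := by
    have : J ≤ RingHom.ker π.toRingHom := by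
      refine Ideal.span_le.2 fun z hz => ?_
      rcases Finset.mem_union.1 (Finset.mem_coe.1 hz) with hz | hz
      · obtain ⟨f, hf, hz⟩ := Finset.mem_biUnion.1 hz
        exact hK f hf z hz
      · obtain ⟨h1, h2⟩ := hT z hz
        change ρ i x j y₁ g₁ h z = 0
        exact Subtype.ext (Prod.ext h1 h2)
    exact this
  let B := Γ(V, ⊤) ⧸ J
  have hB : Algebra.FinitePresentation Γ(V, ⊤) B := Algebra.FinitePresentation.quotient ⟨_, rfl⟩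
  let φ : B →ₐ[Γ(V, ⊤)] A' j g₁ := Ideal.Quotient.liftₐ J π hJ
  have hφ : ∀ f ∈ s, FIso φ.toRingHom (algebraMap Γ(V, ⊤) B f) := by
    intro f hf
    refine ⟨fun z hz => ?_, fun a => ?_⟩
    · obtain ⟨z, rfl⟩ := Ideal.Quotient.mk_surjective z
      obtain ⟨n, hn⟩ := hK' f hf z hz
      refine ⟨n, ?_⟩
      change (Ideal.Quotient.mk J) f ^ n * Ideal.Quotient.mk J z = 0
      rw [← map_pow, ← map_mul, Ideal.Quotient.eq_zero_iff_mem]
      refine Ideal.span_mono (fun y hy => ?_) hn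
      exact Finset.mem_union_left _ (Finset.mem_biUnion.2 ⟨f, hf, hy⟩)
    · obtain ⟨n, r, hr⟩ := hπ f hf a
      refine ⟨n, Ideal.Quotient.mk J r, ?_⟩
      change π r = _
      rw [hr]
      congr 2
  obtain ⟨g, k, h1, h2, h3, h4⟩ := extend_of_ring i x j x₁ sq y₁ g₁ s hs h (CommRingCat.of B)
    (CommRingCat.ofHom (algebraMap Γ(V, ⊤) B)) φ.toRingHom (RingHom.ext fun r => φ.commutes r) hφ
  have hcl : IsClosedImmersion (Spec.map (CommRingCat.ofHom (algebraMap Γ(V, ⊤) B))) :=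
    IsClosedImmersion.spec_of_surjective _ Ideal.Quotient.mk_surjective
  refine ⟨_, _, g, k, inferInstance, lfp_of_algebra B, h1, h2, h3, fun t ht => ?_⟩
  have h5 := congrArg (fun z => z.hom t) (appTop_eq (V := V) (CommRingCat.ofHom (algebraMap Γ(V, ⊤) B)))
  refine h5.trans ?_
  change (Scheme.ΓSpecIso (CommRingCat.of B)).inv.hom (Ideal.Quotient.mk J t) = 0
  have h6 : Ideal.Quotient.mk J t = 0 := Ideal.Quotient.eq_zero_iff_mem.2 (Ideal.subset_span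
    (Finset.mem_union_right _ ht))
  rw [h6, map_zero]

end K636.FpExtSch
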