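import Groth.Agent.AlgSp.K636.EdStep
import Groth.Agent.AlgSp.K636.FpExtSch
import Groth.Agent.AlgSp.K636.QcqsOver
import Groth.Agent.S10768

/-!
# Extending affine spaces of finite presentation from a quasi-compact open subspace

`Y` quasi-compact and quasi-separated, `W ⊂ Y` quasi-compact open, `X → Y` affine, `A → W` affine of finite
presentation (or a closed immersion of finite presentation) under `X|_W`: it extends to `E → Y` under `X`.
-/

set_option autoImplicit false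
universe u
open CategoryTheory CategoryTheory.Limits AlgebraicGeometry Opposite
open AlgSp K598.RepKit

namespace K636.EdExt

variable {S : Scheme.{u}}

abbrev AF : MorphismProperty Scheme.{u} := @IsAffineHom ⊓ @LocallyOfFinitePresentation
abbrev CF : MorphismProperty Scheme.{u} := @IsClosedImmersion ⊓ @LocallyOfFinitePresentation

open K636.EdStep

theorem af_step {U W X A XU : Sp S} {T : Over S} {j : U ⟶ W}
    {f : (yon S).obj T ⟶ W} {x : X ⟶ W} {kU : XU ⟶ X} {xU : XU ⟶ U} {a : A ⟶ U} {g : XU ⟶ A}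
    (h : IsElemDistSq j f) (hT : IsAffine T.left) (sqU : IsPullback kU xU x j) (hg : g ≫ a = xU) (ha : RepWith AF a)
    (D : StepData j f x kU xU a g) (F : Finset (Γ(D.A₁.left, ⊤) × Γ(D.XT.left, ⊤)))
    (hF : ∀ t ∈ F, D.g₁.left.appTop t.1 = D.j₁.left.appTop t.2) :
    ∃ (E : Sp S) (e : E ⟶ W) (k : A ⟶ E) (g' : X ⟶ E) (Y : Over S) (y : Y ⟶ T) (η : (yon S).obj Y ⟶ E)
      (gT : D.XT ⟶ Y) (k₁ : D.A₁ ⟶ Y), RepWith AF e ∧ IsPullback k a e j ∧ g' ≫ e = x ∧ kU ≫ g' = g ≫ k ∧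
      IsPullback η ((yon S).map y) e f ∧ D.ξ ≫ g' = (yon S).map gT ≫ η ∧ gT ≫ y = D.xT ∧
      ∀ t ∈ F, ∃ c : Γ(Y.left, ⊤), gT.left.appTop c = t.2 := by
  have h1 : AF D.a₁.left := ha.2 _ _ _ D.hα
  have h1a : IsAffineHom D.a₁.left := h1.1
  have h1b : LocallyOfFinitePresentation D.a₁.left := h1.2
  have := D.hi
  have := D.hic
  have := D.hXT
  obtain ⟨Y, y, gT, k₁, hY, hy, hgy, sqY, hw, hc⟩ := FpExtSch.exists_extend D.i.left D.xT.left D.j₁.left D.x₁.left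
    (forget_isPullback D.sq₁) D.a₁.left D.g₁.left (by rw [← Over.comp_left, D.hg₁]) F hF
  let Y' : Over S := Over.mk (y ≫ T.hom)
  let y' : Y' ⟶ T := Over.homMk y rfl
  let gT' : D.XT ⟶ Y' := Over.homMk gT (by
    change gT ≫ y ≫ T.hom = _
    rw [← Category.assoc, hgy, Over.w])
  let k₁' : D.A₁ ⟶ Y' := Over.homMk k₁ (by
    change k₁ ≫ y ≫ T.hom = _
    rw [← Category.assoc, sqY.w, Category.assoc, Over.w, Over.w])
  have sqY' : IsPullback k₁' D.a₁ y' D.i := over_isPullback sqY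
  obtain ⟨E, e, k, η, g', hk, hη, he, hkg, hξ, -⟩ := glue_step h sqU hg D y' gT' k₁' (Over.OverMorphism.ext hgy) sqY'
    (Over.OverMorphism.ext hw)
  refine ⟨E, e, k, g', Y', y', η, gT', k₁', ?_, hk, he, hkg, hη, hξ, Over.OverMorphism.ext hgy, fun t ht => ?_⟩
  · refine GlueEd.affine_lfp (IsAlgSpace.yon_obj T) h hk hη ha ?_
    have : IsAffineHom y := K597.Affine.isAffineHom_of_isAffine y hY hT
    exact (repWith_yon_map_iff AF y').2 ⟨this, hy⟩
  · obtain ⟨c, -, hc⟩ := hc t ht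
    exact ⟨c, hc⟩

theorem closed_lfp {U V W : Sp S} (hV : IsAlgSpace V) {j : U ⟶ W} {f : V ⟶ W} (h : IsElemDistSq j f)
    {A B E : Sp S} {a : A ⟶ U} {b : B ⟶ V} {e : E ⟶ W} {k : A ⟶ E} {l : B ⟶ E}
    (hk : IsPullback k a e j) (hl : IsPullback l b e f) (ha : RepWith CF a) (hb : RepWith CF b) : RepWith CF e := by
  have := K597.EffDesc.descendsAlong_isAffineHom.{u}
  refine GlueEd.repWith_of_isElemDistSq _ (fun {X Y} f hY hf O hO => ?_) hV h hk hl ha hb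
  have : IsClosedImmersion f := hf.1
  have : IsAffine X := isAffine_of_isAffineHom f
  exact K597.EffDesc.isQuasiAffine_open O hO

theorem cf_step {U W X A XU : Sp S} {T : Over S} {j : U ⟶ W}
    {f : (yon S).obj T ⟶ W} {x : X ⟶ W} {kU : XU ⟶ X} {xU : XU ⟶ U} {a : A ⟶ U} {g : XU ⟶ A}
    (h : IsElemDistSq j f) (hT : IsAffine T.left) (sqU : IsPullback kU xU x j) (hg : g ≫ a = xU) (ha : RepWith CF a)
    (D : StepData j f x kU xU a g) (F : Finset Γ(T.left, ⊤))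
    (hF : ∀ t ∈ F, (D.a₁ ≫ D.i).left.appTop.hom t = 0 ∧ D.xT.left.appTop.hom t = 0) :
    ∃ (E : Sp S) (e : E ⟶ W) (k : A ⟶ E) (g' : X ⟶ E) (Y : Over S) (y : Y ⟶ T) (η : (yon S).obj Y ⟶ E),
      RepWith CF e ∧ IsPullback k a e j ∧ g' ≫ e = x ∧ kU ≫ g' = g ≫ k ∧
      IsPullback η ((yon S).map y) e f ∧ ∀ t ∈ F, y.left.appTop.hom t = 0 := by
  have h1 : CF D.a₁.left := ha.2 _ _ _ D.hα
  have h1a : IsClosedImmersion D.a₁.left := h1.1
  have h1b : LocallyOfFinitePresentation D.a₁.left := h1.2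
  have := D.hi
  have := D.hic
  have := D.hXT
  obtain ⟨Y, y, gT, k₁, hY, hy, hgy, sqY, hw, hc⟩ := FpExtSch.exists_extend_closed D.i.left D.xT.left D.j₁.left
    D.x₁.left (forget_isPullback D.sq₁) D.a₁.left D.g₁.left (by rw [← Over.comp_left, D.hg₁]) F hF
  let Y' : Over S := Over.mk (y ≫ T.hom)
  let y' : Y' ⟶ T := Over.homMk y rfl
  let gT' : D.XT ⟶ Y' := Over.homMk gT (by
    change gT ≫ y ≫ T.hom = _
    rw [← Category.assoc, hgy, Over.w])
  let k₁' : D.A₁ ⟶ Y' := Over.homMk k₁ (by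
    change k₁ ≫ y ≫ T.hom = _
    rw [← Category.assoc, sqY.w, Category.assoc, Over.w, Over.w])
  have sqY' : IsPullback k₁' D.a₁ y' D.i := over_isPullback sqY
  obtain ⟨E, e, k, η, g', hk, hη, he, hkg, hξ, -⟩ := glue_step h sqU hg D y' gT' k₁' (Over.OverMorphism.ext hgy) sqY'
    (Over.OverMorphism.ext hw)
  refine ⟨E, e, k, g', Y', y', η, ?_, hk, he, hkg, hη, hc⟩
  refine closed_lfp (IsAlgSpace.yon_obj T) h hk hη ha ?_
  exact (repWith_yon_map_iff CF y').2 ⟨hY, hy⟩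

/-- The step property. -/
def StepProp (Q : MorphismProperty Scheme.{u}) (S : Scheme.{u}) : Prop :=
  ∀ {U W X A XU : Sp S} {T : Over S} {j : U ⟶ W}
    {f : (yon S).obj T ⟶ W} {x : X ⟶ W} {kU : XU ⟶ X} {xU : XU ⟶ U} {a : A ⟶ U} {g : XU ⟶ A}
    (_ : IsElemDistSq j f) (_ : IsAffine T.left) (_ : IsPullback kU xU x j) (_ : g ≫ a = xU) (_ : RepWith Q a)
    (_ : StepData j f x kU xU a g),
    ∃ (E : Sp S) (e : E ⟶ W) (k : A ⟶ E) (g' : X ⟶ E), RepWith Q e ∧ IsPullback k a e j ∧ g' ≫ e = x ∧ kU ≫ g' = g ≫ k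

theorem stepProp_af : StepProp AF S := by
  intro U W X A XU T j f x kU xU a g h hT sqU hg ha D
  obtain ⟨E, e, k, g', -, -, -, -, -, h1, h2, h3, h4, -⟩ := af_step h hT sqU hg ha D ∅ (by simp)
  exact ⟨E, e, k, g', h1, h2, h3, h4⟩

theorem stepProp_cf : StepProp CF S := by
  intro U W X A XU T j f x kU xU a g h hT sqU hg ha D
  obtain ⟨E, e, k, g', -, -, -, h1, h2, h3, h4, -⟩ := cf_step h hT sqU hg ha D ∅ (by simp)
  exact ⟨E, e, k, g', h1, h2, h3, h4⟩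

theorem isElemDistSq_iso {U V V' W : Sp S} {j : U ⟶ W} {f : V ⟶ W} (e : V' ≅ V) (h : IsElemDistSq j f) :
    IsElemDistSq j (e.hom ≫ f) := by
  obtain ⟨hj, hf, T, P', i, p₁, p₂, hi, sq, hiso⟩ := h
  refine ⟨hj, fun U φ hφ => ?_, T, P', i, p₁, p₂ ≫ e.inv, hi, ?_, hiso⟩
  · rw [← Category.assoc]
    refine hf (φ ≫ e.hom) ?_
    exact (repWith_isMultiplicative _).toIsStableUnderComposition.comp_mem _ _ hφ (repWith_of_isIso e.hom)
  · exact sq.of_iso (Iso.refl _) (Iso.refl _) e.symm (Iso.refl _) (by simp) (by simp) (by simp) (by simp)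

theorem isQuasiSeparatedSp_of_mono {F G : Sp S} (m : F ⟶ G) [Mono m] (hG : IsQuasiSeparatedSp G) :
    IsQuasiSeparatedSp F :=
  QcqsOver.isQuasiSeparatedSp_of_mor (f := m) (repWith_of_isIso (P := @QuasiCompact) _) hG

/-- Extension from a quasi-compact open subspace. -/
theorem exists_extension [QuasiSeparatedSpace ↥S] {Q : MorphismProperty Scheme.{u}} (hQ : StepProp Q S) {Y W : Space S}
    (hYc : IsQuasiCompactSp Y.obj) (hYs : IsQuasiSeparatedSp Y.obj) (jW : W ⟶ Y)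
    (hjW : RepWith @IsOpenImmersion jW.hom) (hWc : IsQuasiCompactSp W.obj) {X XW A : Sp S} {x : X ⟶ Y.obj}
    (hx : IsAffineMor x) {kW : XW ⟶ X} {xW : XW ⟶ W.obj} (sq : IsPullback kW xW x jW.hom) {a : A ⟶ W.obj}
    (ha : RepWith Q a) (g : XW ⟶ A) (hg : g ≫ a = xW) :
    ∃ (E : Sp S) (e : E ⟶ Y.obj) (k : A ⟶ E) (g' : X ⟶ E), RepWith Q e ∧ IsPullback k a e jW.hom ∧ g' ≫ e = x ∧
      kW ≫ g' = g ≫ k := by
  have key := Groth.Agent.S10768.result Y hYc hYs (fun U jU => ∀ (m : W ⟶ U) (_ : m ≫ jU = jW) {XU : Sp S}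
    {kU : XU ⟶ X} {xU : XU ⟶ U.obj} (_ : IsPullback kU xU x jU.hom) (n : XW ⟶ XU) (_ : n ≫ kU = kW),
    ∃ (E : Sp S) (e : E ⟶ U.obj) (k : A ⟶ E) (g' : XU ⟶ E), RepWith Q e ∧ IsPullback k a e m.hom ∧ g' ≫ e = xU ∧
      n ≫ g' = g ≫ k) W jW hjW hWc ?_ ?_
  · have hid : IsPullback (𝟙 X) x x (𝟙 Y : Y ⟶ Y).hom := IsPullback.of_horiz_isIso ⟨by simp⟩
    obtain ⟨E, e, k, g', h1, h2, h3, h4⟩ := key jW (Category.comp_id _) hid kW (Category.comp_id _)
    exact ⟨E, e, k, g', h1, h2, h3, h4⟩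
  · intro m hm XU kU xU sqU n hn
    have hmono : Mono jW.hom := mono_of_repWith_isOpenImmersion hjW
    have hm' : m.hom = 𝟙 W.obj := by
      rw [← cancel_mono jW.hom, Category.id_comp]
      exact congrArg (fun z => z.hom) hm
    let r : XU ⟶ XW := sq.lift kU xU sqU.w
    have hr1 : r ≫ kW = kU := sq.lift_fst _ _ _
    have hr2 : r ≫ xW = xU := sq.lift_snd _ _ _
    have hn2 : n ≫ xU = xW := by
      rw [← cancel_mono jW.hom, Category.assoc, ← sqU.w, ← Category.assoc, hn, sq.w]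
    have hnr : n ≫ r = 𝟙 _ := sq.hom_ext (by rw [Category.assoc, hr1, hn, Category.id_comp])
      (by rw [Category.assoc, hr2, hn2, Category.id_comp])
    refine ⟨A, a, 𝟙 A, r ≫ g, ha, ?_, ?_, ?_⟩
    · rw [hm']
      exact IsPullback.of_horiz_isIso ⟨by simp⟩
    · rw [Category.assoc, hg, hr2]
    · rw [← Category.assoc, hnr, Category.id_comp, Category.comp_id]
  · intro W₁ W₂ V j₁ j₂ k m₁ f hj₁ hj₂ hk hm₁ hW₁c hW₂c hV hsq IH m₂ hm₂ XU₂ kU₂ xU₂ sqU₂ n₂ hn₂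
    obtain ⟨T, hT, ⟨eT⟩⟩ := hV
    have hj₂m : Mono j₂.hom := mono_of_repWith_isOpenImmersion hj₂
    have hkm : m₁.hom ≫ k.hom = m₂.hom := by
      rw [← cancel_mono j₂.hom, Category.assoc]
      have e1 : k.hom ≫ j₂.hom = j₁.hom := congrArg (fun z => z.hom) hk
      have e2 : m₁.hom ≫ j₁.hom = jW.hom := congrArg (fun z => z.hom) hm₁
      have e3 : m₂.hom ≫ j₂.hom = jW.hom := congrArg (fun z => z.hom) hm₂
      rw [e1, e2, e3]
    have e1 : k.hom ≫ j₂.hom = j₁.hom := congrArg (fun z => z.hom) hk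
    have sq₁ : IsPullback (pullback.fst xU₂ k.hom) (pullback.snd xU₂ k.hom) xU₂ k.hom := IsPullback.of_hasPullback _ _
    have sqU₁ : IsPullback (pullback.fst xU₂ k.hom ≫ kU₂) (pullback.snd xU₂ k.hom) x j₁.hom := by
      rw [← e1]
      exact sq₁.paste_horiz sqU₂
    have hn2 : n₂ ≫ xU₂ = xW ≫ m₂.hom := by
      rw [← cancel_mono j₂.hom, Category.assoc, ← sqU₂.w, ← Category.assoc, hn₂, sq.w, Category.assoc]
      have e3 : m₂.hom ≫ j₂.hom = jW.hom := congrArg (fun z => z.hom) hm₂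
      rw [e3]
    have hw : n₂ ≫ xU₂ = (xW ≫ m₁.hom) ≫ k.hom := by rw [hn2, Category.assoc, hkm]
    obtain ⟨E₁, a₁, k₁, g₁, h1, h2, h3, h4⟩ := IH m₁ hm₁ sqU₁ (sq₁.lift n₂ (xW ≫ m₁.hom) hw) (by
      rw [← Category.assoc, sq₁.lift_fst, hn₂])
    have hx₂ : IsAffineMor xU₂ := by
      rw [K597.Affine.isAffineMor_iff] at hx ⊢
      exact repWith_of_isPullback sqU₂ hx
    have hW₂s : IsQuasiSeparatedSp W₂.obj := isQuasiSeparatedSp_of_mono j₂.hom hYs
    obtain ⟨D⟩ := exists_stepData (g := g₁) (f := eT.hom ≫ f.hom) W₂.property hW₂s hW₁c W₁.property hsq.1 hT hx₂ sq₁ h1.1 h3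
    obtain ⟨E, e, k', g', h5, h6, h7, h8⟩ := hQ (isElemDistSq_iso eT hsq) hT sq₁ h3 h1 D
    refine ⟨E, e, k₁ ≫ k', g', h5, ?_, h7, ?_⟩
    · rw [← hkm]
      exact h2.paste_horiz h6
    · rw [← Category.assoc, ← h4, Category.assoc, ← h8, ← Category.assoc, sq₁.lift_fst]

end K636.EdExt
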