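import Groth.Agent.AlgSp.K636.GlueEd
import Groth.Agent.AlgSp.K596.QC2

/-!
# The inductive step for extending affine spaces along an elementary distinguished square

`StepData` bundles the pullbacks to the affine member `h_T → W` of an elementary distinguished square
`(U ⊂ W, h_T → W)` of: `U`, an affine `W`-space `X`, its restriction to `U`, and a `U`-space `A` under `X|_U`.
-/

set_option autoImplicit false
universe u
open CategoryTheory CategoryTheory.Limits AlgebraicGeometry Opposite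
open AlgSp K598.RepKit

namespace K636.EdStep

variable {S : Scheme.{u}}

structure StepData {U W X A XU : Sp S} {T : Over S} (j : U ⟶ W) (f : (yon S).obj T ⟶ W) (x : X ⟶ W) (kU : XU ⟶ X)
    (xU : XU ⟶ U) (a : A ⟶ U) (g : XU ⟶ A) where
  (T₁ : Over S) (i : T₁ ⟶ T) (p : (yon S).obj T₁ ⟶ U) (hP : IsPullback p ((yon S).map i) j f)
  (hi : IsOpenImmersion i.left) (hic : QuasiCompact i.left)
  (XT : Over S) (xT : XT ⟶ T) (ξ : (yon S).obj XT ⟶ X) (hξ : IsPullback ξ ((yon S).map xT) x f)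
  (hXT : IsAffine XT.left)
  (X₁ : Over S) (x₁ : X₁ ⟶ T₁) (j₁ : X₁ ⟶ XT) (sq₁ : IsPullback j₁ x₁ xT i)
  (ρ : (yon S).obj X₁ ⟶ XU) (hρ : IsPullback ρ ((yon S).map x₁) xU p) (hρk : ρ ≫ kU = (yon S).map j₁ ≫ ξ)
  (A₁ : Over S) (a₁ : A₁ ⟶ T₁) (α : (yon S).obj A₁ ⟶ A) (hα : IsPullback α ((yon S).map a₁) a p)
  (g₁ : X₁ ⟶ A₁) (hg₁ : g₁ ≫ a₁ = x₁) (hg₁' : (yon S).map g₁ ≫ α = ρ ≫ g)

theorem exists_stepData [QuasiSeparatedSpace ↥S] {U W X A XU : Sp S} {T : Over S} {j : U ⟶ W}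
    {f : (yon S).obj T ⟶ W} {x : X ⟶ W} {kU : XU ⟶ X} {xU : XU ⟶ U} {a : A ⟶ U} {g : XU ⟶ A}
    (hW : IsAlgSpace W) (hWs : IsQuasiSeparatedSp W) (hUc : IsQuasiCompactSp U) (hU : IsAlgSpace U)
    (hj : RepWith @IsOpenImmersion j) (hT : IsAffine T.left) (hx : IsAffineMor x) (sqU : IsPullback kU xU x j)
    (ha : Representable a) (hg : g ≫ a = xU) : Nonempty (StepData j f x kU xU a g) := by
  obtain ⟨T₁, i, p, hP⟩ := hj.1 f
  have hi : IsOpenImmersion i.left := hj.2 _ _ _ hP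
  -- quasi-compactness
  have hc : IsQuasiCompactSp ((yon S).obj T₁) := by
    have h1 : IsQuasiCompactMor f := K596.QC2.isQuasiCompactMor_of_qc_of_qs (IsAlgSpace.yon_obj T) hW f
      (K596.QC.isQuasiCompactSp_yon T) hWs
    exact h1 hU hUc j ((yon S).map i) p hP.flip
  have hc' : CompactSpace T₁.left := K596.QC.compactSpace_of_isQuasiCompactSp hc
  have hic : QuasiCompact i.left := quasiCompact_of_compactSpace _
  obtain ⟨XT, xT, ξ, hξ, hXT⟩ := hx hT f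
  let X₁ : Over S := pullback xT i
  have sq₁ : IsPullback (pullback.fst xT i) (pullback.snd xT i) xT i := IsPullback.of_hasPullback _ _
  have h1 : IsPullback ((yon S).map (pullback.fst xT i) ≫ ξ) ((yon S).map (pullback.snd xT i)) x
      ((yon S).map i ≫ f) := isPullback_comp hξ sq₁
  have hw : ((yon S).map (pullback.fst xT i) ≫ ξ) ≫ x = ((yon S).map (pullback.snd xT i) ≫ p) ≫ j := by
    rw [h1.w, Category.assoc, hP.w]
  let ρ : (yon S).obj X₁ ⟶ XU := sqU.lift _ _ hw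
  have hρ1 : ρ ≫ kU = (yon S).map (pullback.fst xT i) ≫ ξ := sqU.lift_fst _ _ hw
  have hρ2 : ρ ≫ xU = (yon S).map (pullback.snd xT i) ≫ p := sqU.lift_snd _ _ hw
  have hρ : IsPullback ρ ((yon S).map (pullback.snd xT i)) xU p := by
    refine IsPullback.of_right ?_ hρ2 sqU
    rw [hρ1, hP.w]
    exact h1
  obtain ⟨A₁, a₁, α, hα⟩ := ha p
  have hw2 : (ρ ≫ g) ≫ a = (yon S).map (pullback.snd xT i) ≫ p := by rw [Category.assoc, hg, hρ2]
  obtain ⟨g₁, hg₁⟩ := (yon S).map_surjective (hα.lift _ _ hw2)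
  refine ⟨⟨T₁, i, p, hP, hi, hic, XT, xT, ξ, hξ, hXT, X₁, _, _, sq₁, ρ, hρ, hρ1, A₁, a₁, α, hα, g₁, ?_, ?_⟩⟩
  · apply (yon S).map_injective
    rw [Functor.map_comp, hg₁, hα.lift_snd]
  · rw [hg₁, hα.lift_fst]

/-- Gluing an extension over the affine member with the given object over `U`. -/
theorem glue_step {U W X A XU : Sp S} {T : Over S} {j : U ⟶ W}
    {f : (yon S).obj T ⟶ W} {x : X ⟶ W} {kU : XU ⟶ X} {xU : XU ⟶ U} {a : A ⟶ U} {g : XU ⟶ A}
    (h : IsElemDistSq j f) (sqU : IsPullback kU xU x j) (hg : g ≫ a = xU) (D : StepData j f x kU xU a g)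
    {Y : Over S} (y : Y ⟶ T) (gT : D.XT ⟶ Y) (k₁ : D.A₁ ⟶ Y) (hgT : gT ≫ y = D.xT)
    (sqY : IsPullback k₁ D.a₁ y D.i) (hw : D.j₁ ≫ gT = D.g₁ ≫ k₁) :
    ∃ (E : Sp S) (e : E ⟶ W) (k : A ⟶ E) (η : (yon S).obj Y ⟶ E) (g' : X ⟶ E),
      IsPullback k a e j ∧ IsPullback η ((yon S).map y) e f ∧ g' ≫ e = x ∧ kU ≫ g' = g ≫ k ∧
      D.ξ ≫ g' = (yon S).map gT ≫ η ∧ (yon S).map k₁ ≫ η = D.α ≫ k := by
  have hV : IsAlgSpace ((yon S).obj T) := IsAlgSpace.yon_obj T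
  obtain ⟨E, e, k, η, hk, hη, hpo⟩ := GlueEd.exists_glue hV h D.hP D.hα (yon_isPullback sqY)
  obtain ⟨hpX, -⟩ := GlueEd.isPushout_of_isPullback hV h D.hP sqU D.hξ D.hρ
    (by rw [← Functor.map_comp, ← Functor.map_comp, D.sq₁.w]) D.hρk
  have hc : D.ρ ≫ g ≫ k = (yon S).map D.j₁ ≫ (yon S).map gT ≫ η := by
    rw [← Category.assoc, ← D.hg₁', Category.assoc, hpo.w, ← Category.assoc, ← Category.assoc,
      ← Functor.map_comp, ← Functor.map_comp, hw]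
  refine ⟨E, e, k, η, hpX.desc _ _ hc, hk, hη, ?_, hpX.inl_desc _ _ _, hpX.inr_desc _ _ _, hpo.w.symm⟩
  refine hpX.hom_ext ?_ ?_
  · rw [← Category.assoc, hpX.inl_desc, Category.assoc, hk.w, ← Category.assoc, hg, sqU.w]
  · rw [← Category.assoc, hpX.inr_desc, Category.assoc, hη.w, ← Category.assoc, ← Functor.map_comp, hgT, D.hξ.w]

end K636.EdStep
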