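import Groth.Agent.AlgSp.K647.QcIdl
import Groth.Agent.AlgSp.K647.ClLim
import Groth.Agent.AlgSp.K598.SchImg

/-!
# Killing a function on a chart by a closed subspace of finite presentation
-/

set_option autoImplicit false
universe u

open CategoryTheory CategoryTheory.Limits AlgebraicGeometry Opposite

namespace K636.Kill

open AlgSp K598.ClFam K598.Charts K598.RepKit K647.QcIdl K647.FamOps

variable {S : Scheme.{u}}

theorem isFT_ofIdealTop {X : Scheme.{u}} {I : Ideal Γ(X, ⊤)} (hI : I.FG) :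
    BlowUp.IsFiniteTypeIdeal (Scheme.IdealSheafData.ofIdealTop I) := by
  intro U
  rw [Scheme.IdealSheafData.ofIdealTop_ideal]
  exact hI.map _

theorem ofIdealTop_le_iff {X : Scheme.{u}} [IsAffine X] {I : Ideal Γ(X, ⊤)} {J : X.IdealSheafData} :
    Scheme.IdealSheafData.ofIdealTop I ≤ J ↔ I ≤ J.ideal ⟨⊤, isAffineOpen_top X⟩ := by
  refine ⟨fun h => ?_, fun h => Scheme.IdealSheafData.le_of_isAffine ?_⟩
  · have h1 := h ⟨⊤, isAffineOpen_top X⟩
    rwa [show (Scheme.IdealSheafData.ofIdealTop I).ideal ⟨⊤, isAffineOpen_top X⟩ = I from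
      Scheme.IdealSheafData.equivOfIsAffine.apply_symm_apply I] at h1
  · rwa [show (Scheme.IdealSheafData.ofIdealTop I).ideal ⟨⊤, isAffineOpen_top X⟩ = I from
      Scheme.IdealSheafData.equivOfIsAffine.apply_symm_apply I]

theorem le_ker_iff_appTop {X T : Scheme.{u}} [IsAffine T] (h : X ⟶ T) (c : Γ(T, ⊤)) :
    Scheme.IdealSheafData.ofIdealTop (Ideal.span {c}) ≤ h.ker ↔ h.appTop.hom c = 0 := by
  rw [Scheme.ker_of_isAffine, ofIdealTop_le_iff,
    show (Scheme.IdealSheafData.ofIdealTop (RingHom.ker h.appTop.hom)).ideal ⟨⊤, isAffineOpen_top T⟩ =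
      RingHom.ker h.appTop.hom from Scheme.IdealSheafData.equivOfIsAffine.apply_symm_apply _,
    Ideal.span_singleton_le_iff_mem, RingHom.mem_ker]

/-- A function on an etale chart of `E` which vanishes on `X` is killed by a closed subspace of finite presentation
through which `X` factors. -/
theorem exists_kill [QuasiSeparatedSpace ↥S] {E X : Sp S} (hE : IsAlgSpace E) (hEc : IsQuasiCompactSp E)
    (hEs : IsQuasiSeparatedSp E) {g : X ⟶ E} (hg : IsQuasiCompactMor g) {T : Over S} (hT : IsAffine T.left)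
    {a : (yon S).obj T ⟶ E} (ha : RepWith @Etale a) {XT : Over S} {ξ : (yon S).obj XT ⟶ X} {h : XT ⟶ T}
    (sq : IsPullback ξ ((yon S).map h) g a) (c : Γ(T.left, ⊤)) (hc : h.left.appTop.hom c = 0) :
    ∃ (Z : Sp S) (z : Z ⟶ E) (g' : X ⟶ Z), RepWith (@IsClosedImmersion ⊓ @LocallyOfFinitePresentation) z ∧
      g' ≫ z = g ∧ ∀ (Q : Over S) (q : Q ⟶ T) (ζ : (yon S).obj Q ⟶ Z), ζ ≫ z = (yon S).map q ≫ a →
        q.left.appTop.hom c = 0 := by
  obtain ⟨A, hA1, -, hA3⟩ := K598.SchImg.exists_image hE hg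
  have h1 : A.I a = h.left.ker := by
    rw [hA3 T a hT (repWith_flat_of_etale ha)]
    exact K598.SchImg.K_eq_ker sq (𝟙 _) (repWith_of_isIso _) (repWith_of_isIso _) h (Category.id_comp _)
  have h2 : Scheme.IdealSheafData.ofIdealTop (Ideal.span {c}) ≤ A.I a := by
    rw [h1, le_ker_iff_appTop, hc]
  obtain ⟨B, hB, hB', hK⟩ := qc_of_qcqs ⟨E, hE⟩ hEc hEs A T a _ (isFT_ofIdealTop (Submodule.fg_span_singleton c)) h2
  obtain ⟨g', hg'⟩ := (B.factors_iff' g).2 fun T' w => by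
    rw [eq_bot_iff, ← hA1 T' w]
    exact hB _ _
  refine ⟨B.sheaf, B.ι, g', repWith_ι_lfp hB', hg', fun Q q ζ hζ => ?_⟩
  have h3 : B.I ((yon S).map q ≫ a) = ⊥ := (B.factors_yon_iff' _).1 ⟨ζ, hζ⟩
  rw [B.comap] at h3
  rw [← le_ker_iff_appTop]
  rw [← le_ker_iff] at h3
  exact hK.trans h3

end K636.Kill
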