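import Groth.Agent.AlgSp.K636.Im
import Groth.Agent.AlgSp.K636.Kill
import Groth.Agent.AlgSp.K636.DescFun
import Groth.Agent.AlgSp.K601.RelAff
import Groth.Agent.AlgSp.K600.LimSpace

/-!
# Sections of an affine space come from affine spaces of finite presentation
-/

set_option autoImplicit false
universe u
open CategoryTheory CategoryTheory.Limits AlgebraicGeometry Opposite
open AlgSp K598.RepKit K636.EdExt

namespace K636.Im

variable {S : Scheme.{u}}

instance af_isMultiplicative : (AF.{u}).IsMultiplicative where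
  id_mem X := ⟨(inferInstance : IsAffineHom (𝟙 X)), (inferInstance : LocallyOfFinitePresentation (𝟙 X))⟩
  comp_mem f g hf hg := ⟨MorphismProperty.comp_mem @IsAffineHom f g hf.1 hg.1,
    MorphismProperty.comp_mem @LocallyOfFinitePresentation f g hf.2 hg.2⟩

/-- A finite family of affine spaces of finite presentation under `X` is dominated by one. -/
theorem exists_common {W X : Sp S} {x : X ⟶ W} {ι : Type*} (s : Finset ι) (P : ι → ∀ (E : Sp S) (_ : E ⟶ W) (_ : X ⟶ E), Prop)
    (h : ∀ i ∈ s, ∃ (E : Sp S) (e : E ⟶ W) (g : X ⟶ E), RepWith AF e ∧ g ≫ e = x ∧ P i E e g) :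
    ∃ (E : Sp S) (e : E ⟶ W) (g : X ⟶ E), RepWith AF e ∧ g ≫ e = x ∧ ∀ i ∈ s, ∃ (E' : Sp S) (e' : E' ⟶ W) (g' : X ⟶ E')
      (φ : E ⟶ E'), RepWith AF e' ∧ g' ≫ e' = x ∧ φ ≫ e' = e ∧ g ≫ φ = g' ∧ P i E' e' g' := by
  classical
  induction s using Finset.induction_on with
  | empty => exact ⟨W, 𝟙 W, x, repWith_of_isIso _, Category.comp_id _, fun i hi => by simp at hi⟩
  | insert i s hi ih =>
    obtain ⟨E, e, g, he, hg, H⟩ := ih fun k hk => h k (Finset.mem_insert_of_mem hk)
    obtain ⟨E₁, e₁, g₁, he₁, hg₁, H₁⟩ := h i (Finset.mem_insert_self i s)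
    have sq : IsPullback (pullback.fst e e₁) (pullback.snd e e₁) e e₁ := IsPullback.of_hasPullback _ _
    refine ⟨pullback e e₁, pullback.fst e e₁ ≫ e, pullback.lift g g₁ (by rw [hg, hg₁]), ?_, ?_, ?_⟩
    · exact (repWith_isMultiplicative (S := S) AF).comp_mem _ _ (repWith_of_isPullback sq.flip he₁) he
    · rw [pullback.lift_fst_assoc, hg]
    · intro k hk
      rcases Finset.mem_insert.1 hk with rfl | hk
      · exact ⟨E₁, e₁, g₁, pullback.snd e e₁, he₁, hg₁, pullback.condition.symm, pullback.lift_snd _ _ _, H₁⟩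
      · obtain ⟨E', e', g', φ, he', hg', h1, h2, h3⟩ := H k hk
        exact ⟨E', e', g', pullback.fst e e₁ ≫ φ, he', hg', by rw [Category.assoc, h1],
          by rw [pullback.lift_fst_assoc, h2], h3⟩

/-- every section over an affine etale chart comes from an affine space of finite presentation -/
def F1 (W : Sp S) : Prop := ∀ {X : Sp S} (x : X ⟶ W) (_ : IsAffineMor x) {R XR : Over S} (_ : IsAffine R.left)
  {b : (yon S).obj R ⟶ W} (_ : RepWith @Etale b) {ξ : (yon S).obj XR ⟶ X} {xR : XR ⟶ R}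
  (_ : IsPullback ξ ((yon S).map xR) x b) (a : Γ(XR.left, ⊤)),
  ∃ (E : Sp S) (e : E ⟶ W) (g : X ⟶ E), RepWith AF e ∧ g ≫ e = x ∧ InIm e g b ξ xR a

/-- The same for separated quasi-compact etale charts. -/
theorem f1_qc [QuasiSeparatedSpace ↥S] {W : Sp S} (hW : IsAlgSpace W) (hWc : IsQuasiCompactSp W)
    (hWs : IsQuasiSeparatedSp W) (H : F1 W) {X : Sp S} (x : X ⟶ W) (hx : IsAffineMor x) {T XT : Over S}
    [CompactSpace T.left] [T.left.IsSeparated] {p : (yon S).obj T ⟶ W} (hp : RepWith @Etale p)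
    {ξ : (yon S).obj XT ⟶ X} {xT : XT ⟶ T} (sq : IsPullback ξ ((yon S).map xT) x p) (a : Γ(XT.left, ⊤)) :
    ∃ (E : Sp S) (e : E ⟶ W) (g : X ⟶ E), RepWith AF e ∧ g ≫ e = x ∧ InIm e g p ξ xT a := by
  -- an affine cover
  obtain ⟨Y, q, hq1, hq2, hq3⟩ := Scheme.exists_hom_isAffine_of_isZariskiLocalAtSource (P := @Etale) T.left
  let D : Over S := Over.mk (q ≫ T.hom)
  let d : D ⟶ T := Over.homMk q rfl
  have hd1 : Surjective d.left := hq1
  have hd2 : Etale d.left := hq2
  have hD : IsAffine D.left := hq3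
  have hd3 : IsAffineHom d.left := by
    have : IsAffineHom (d.left ≫ terminal.from T.left) := inferInstance
    exact IsAffineHom.of_comp d.left (terminal.from T.left)
  -- X over D
  have sqD : IsPullback (pullback.fst xT d) (pullback.snd xT d) xT d := IsPullback.of_hasPullback _ _
  have sqXD := isPullback_comp sq sqD
  have hdX : IsPullback (pullback.fst xT d).left (pullback.snd xT d).left xT.left d.left := forget_isPullback sqD
  set dX := pullback.fst xT d with hdXdef
  set xD := pullback.snd xT d with hxDdef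
  have hdX1 : Surjective dX.left := MorphismProperty.of_isPullback (P := @Surjective) hdX.flip hd1
  have hdX2 : Etale dX.left := MorphismProperty.of_isPullback (P := @Etale) hdX.flip hd2
  have hdX3 : IsAffineHom dX.left := MorphismProperty.of_isPullback (P := @IsAffineHom) hdX.flip hd3
  have hbD : RepWith @Etale ((yon S).map d ≫ p) := K600.Basic.repWith_comp_etale hp d
  obtain ⟨E, e, g, he, hg, hI⟩ := H x hx hD hbD sqXD (dX.left.appTop.hom a)
  obtain ⟨ED, ε, eD, h, c, sqE, hh1, hh2, hc⟩ := hI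
  have heA : RepWith @IsAffineHom e := repWith_mono (fun _ _ _ h => h.1) he
  have heM : IsAffineMor e := K597.Affine.isAffineMor_iff.2 heA
  have hE : IsAlgSpace E := K600.LimSpace.isAlgSpace_of_isAffineMor heM hW
  have hX : IsAlgSpace X := K600.LimSpace.isAlgSpace_of_isAffineMor hx hW
  have hEc : IsQuasiCompactSp E := K601.RelAff.isQuasiCompactSp_of_affine heM hWc
  have hXc : IsQuasiCompactSp X := K601.RelAff.isQuasiCompactSp_of_affine hx hWc
  have hEs : IsQuasiSeparatedSp E := K601.RelAff.isQuasiSeparatedSp_of_affine heM hWs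
  have hgq : IsQuasiCompactMor g := K596.QC2.isQuasiCompactMor_of_qc_of_qs hX hE g hXc hEs
  -- D ×_T D
  have sqDD : IsPullback (pullback.fst d d) (pullback.snd d d) d d := IsPullback.of_hasPullback _ _
  set r₁ := pullback.fst d d with hr₁
  set r₂ := pullback.snd d d with hr₂
  have hDD : IsAffine (pullback d d).left := by
    have : IsAffineHom r₁.left := MorphismProperty.of_isPullback (P := @IsAffineHom) (forget_isPullback sqDD).flip hd3
    exact isAffine_of_isAffineHom r₁.left
  have hr₁e : Etale r₁.left := MorphismProperty.of_isPullback (P := @Etale) (forget_isPullback sqDD).flip hd2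
  have hb' : RepWith @Etale ((yon S).map r₁ ≫ (yon S).map d ≫ p) := K600.Basic.repWith_comp_etale hbD r₁
  have hr12 : (yon S).map r₁ ≫ (yon S).map d ≫ p = (yon S).map r₂ ≫ (yon S).map d ≫ p := by
    rw [← Category.assoc, ← Category.assoc, ← Functor.map_comp, ← Functor.map_comp, sqDD.w]
  obtain ⟨E', e', ε', sqE'⟩ := he.1 ((yon S).map r₁ ≫ (yon S).map d ≫ p)
  have hE'aff : IsAffine E'.left := by
    have : IsAffineHom e'.left := heA.2 _ _ _ sqE'
    exact isAffine_of_isAffineHom e'.left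
  have hε' : RepWith @Etale ε' := repWith_of_isPullback sqE'.flip hb'
  obtain ⟨π₁, hπ₁, hπ₁'⟩ := K600.Basic.exists_lift sqE ε' (e' ≫ r₁) (by
    rw [sqE'.w, Functor.map_comp, Category.assoc])
  obtain ⟨π₂, hπ₂, hπ₂'⟩ := K600.Basic.exists_lift sqE ε' (e' ≫ r₂) (by
    rw [sqE'.w, Functor.map_comp, Category.assoc, hr12])
  have hxr : Representable x := (K597.Affine.isAffineMor_iff.1 hx).1
  obtain ⟨X', x', ξ', sqX'⟩ := hxr ((yon S).map r₁ ≫ (yon S).map d ≫ p)
  obtain ⟨ρ₁, hρ₁, hρ₁'⟩ := K600.Basic.exists_lift sqXD ξ' (x' ≫ r₁) (by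
    rw [sqX'.w, Functor.map_comp, Category.assoc])
  obtain ⟨ρ₂, hρ₂, hρ₂'⟩ := K600.Basic.exists_lift sqXD ξ' (x' ≫ r₂) (by
    rw [sqX'.w, Functor.map_comp, Category.assoc, hr12])
  obtain ⟨h', hh', hh''⟩ := K600.Basic.exists_lift sqE' (ξ' ≫ g) x' (by rw [Category.assoc, hg, sqX'.w])
  have sqg : IsPullback ξ' ((yon S).map h') g ε' := by
    refine IsPullback.of_bot ?_ hh'.symm sqE'
    rw [hg, ← Functor.map_comp, hh'']
    exact sqX'
  have e1 : h' ≫ π₁ = ρ₁ ≫ h := K600.Basic.hom_ext sqE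
    (by rw [Functor.map_comp, Category.assoc, hπ₁, hh', Functor.map_comp, Category.assoc, hh1, ← Category.assoc, hρ₁])
    (by rw [Category.assoc, hπ₁', ← Category.assoc, hh'', Category.assoc, hh2, hρ₁'])
  have e2 : h' ≫ π₂ = ρ₂ ≫ h := K600.Basic.hom_ext sqE
    (by rw [Functor.map_comp, Category.assoc, hπ₂, hh', Functor.map_comp, Category.assoc, hh1, ← Category.assoc, hρ₂])
    (by rw [Category.assoc, hπ₂', ← Category.assoc, hh'', Category.assoc, hh2, hρ₂'])
  have e3 : ρ₁ ≫ dX = ρ₂ ≫ dX := K600.Basic.hom_ext sq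
    (by rw [Functor.map_comp, Functor.map_comp, Category.assoc, Category.assoc, hρ₁, hρ₂])
    (by rw [Category.assoc, Category.assoc, sqD.w, ← Category.assoc, ← Category.assoc, hρ₁', hρ₂', Category.assoc,
      Category.assoc, sqDD.w])
  let δ : Γ(E'.left, ⊤) := π₁.left.appTop.hom c - π₂.left.appTop.hom c
  have hδ : h'.left.appTop.hom δ = 0 := by
    rw [map_sub, ← appTop_comp, ← appTop_comp, ← Over.comp_left, ← Over.comp_left, e1, e2, Over.comp_left,
      Over.comp_left, appTop_comp, appTop_comp, hc, ← appTop_comp, ← appTop_comp, ← Over.comp_left, ← Over.comp_left, e3,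
      sub_self]
  obtain ⟨Z, z, g', hz, hg', hkill⟩ := Kill.exists_kill hE hEc hEs hgq hE'aff hε' sqg δ hδ
  have hzA : RepWith AF z := repWith_mono (fun _ _ f hf => ⟨by
    have : IsClosedImmersion f := hf.1
    exact (inferInstance : IsAffineHom f), hf.2⟩) hz
  have hze : RepWith AF (z ≫ e) := (repWith_isMultiplicative (S := S) AF).comp_mem _ _ hzA he
  have hge : g' ≫ z ≫ e = x := by rw [← Category.assoc, hg', hg]
  refine ⟨Z, z ≫ e, g', hze, hge, ?_⟩
  obtain ⟨ZT, ζT, zT, hT, sqZ, hT1, hT2⟩ := exists_comp hze.1 hge sq.w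
  rw [inIm_iff sqZ hT1 hT2]
  have sqZD : IsPullback (pullback.fst zT d) (pullback.snd zT d) zT d := IsPullback.of_hasPullback _ _
  set dZ := pullback.fst zT d with hdZ
  set zD := pullback.snd zT d with hzD
  have hdZ' : IsPullback dZ.left zD.left zT.left d.left := forget_isPullback sqZD
  have hdZ1 : Surjective dZ.left := MorphismProperty.of_isPullback (P := @Surjective) hdZ'.flip hd1
  have hdZ2 : Etale dZ.left := MorphismProperty.of_isPullback (P := @Etale) hdZ'.flip hd2
  have hdZ3 : IsAffineHom dZ.left := MorphismProperty.of_isPullback (P := @IsAffineHom) hdZ'.flip hd3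
  obtain ⟨μ, hμ, hμ'⟩ := K600.Basic.exists_lift sqE ((yon S).map dZ ≫ ζT ≫ z) zD (by
    rw [Category.assoc, Category.assoc, sqZ.w, ← Category.assoc, ← Functor.map_comp, sqZD.w, Functor.map_comp,
      Category.assoc])
  -- descend
  have sqP : IsPullback (pullback.fst dZ dZ) (pullback.snd dZ dZ) dZ dZ := IsPullback.of_hasPullback _ _
  obtain ⟨cT, hcT⟩ : ∃ cT : Γ(ZT.left, ⊤), dZ.left.appTop.hom cT = μ.left.appTop.hom c := by
    refine DescFun.exists_of_eq dZ.left (forget_isPullback sqP) _ ?_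
    set s₁ := pullback.fst dZ dZ with hs₁
    set s₂ := pullback.snd dZ dZ with hs₂
    have hw : (s₁ ≫ zD) ≫ d = (s₂ ≫ zD) ≫ d := by
      rw [Category.assoc, Category.assoc, ← sqZD.w, ← Category.assoc, ← Category.assoc, sqP.w]
    let w : pullback dZ dZ ⟶ pullback d d := sqDD.lift (s₁ ≫ zD) (s₂ ≫ zD) hw
    have hw1 : w ≫ r₁ = s₁ ≫ zD := sqDD.lift_fst _ _ _
    have hw2 : w ≫ r₂ = s₂ ≫ zD := sqDD.lift_snd _ _ _
    obtain ⟨qq, hqq, hqq'⟩ := K600.Basic.exists_lift sqE' ((yon S).map (s₁ ≫ dZ) ≫ ζT ≫ z) w (by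
      rw [Category.assoc, Category.assoc, sqZ.w, ← Category.assoc, ← Functor.map_comp, ← Category.assoc ((yon S).map w),
        ← Functor.map_comp, hw1, ← Category.assoc ((yon S).map _), ← Functor.map_comp, Category.assoc, sqZD.w,
        Category.assoc])
    have f1 : qq ≫ π₁ = s₁ ≫ μ := K600.Basic.hom_ext sqE
      (by rw [Functor.map_comp, Category.assoc, hπ₁, hqq, Functor.map_comp, Functor.map_comp, Category.assoc,
            Category.assoc, hμ])
      (by rw [Category.assoc, hπ₁', ← Category.assoc, hqq', hw1, Category.assoc, hμ'])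
    have f2 : qq ≫ π₂ = s₂ ≫ μ := K600.Basic.hom_ext sqE
      (by rw [Functor.map_comp, Category.assoc, hπ₂, hqq, sqP.w, Functor.map_comp, Functor.map_comp, Category.assoc,
            Category.assoc, hμ])
      (by rw [Category.assoc, hπ₂', ← Category.assoc, hqq', hw2, Category.assoc, hμ'])
    have hk := hkill _ qq ((yon S).map (s₁ ≫ dZ) ≫ ζT) (by rw [hqq, Category.assoc])
    rw [map_sub, sub_eq_zero, ← appTop_comp, ← appTop_comp, ← Over.comp_left, ← Over.comp_left, f1, f2, Over.comp_left,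
      Over.comp_left, appTop_comp, appTop_comp] at hk
    exact hk
  refine ⟨cT, DescFun.injective dX.left ?_⟩
  obtain ⟨hD', hhD1, hhD2⟩ : ∃ hD' : pullback xT d ⟶ pullback zT d, hD' ≫ dZ = dX ≫ hT ∧ hD' ≫ zD = xD :=
    ⟨sqZD.lift (dX ≫ hT) xD (by rw [Category.assoc, hT2, sqD.w]), sqZD.lift_fst _ _ _, sqZD.lift_snd _ _ _⟩
  have f3 : hD' ≫ μ = h := K600.Basic.hom_ext sqE
    (by rw [Functor.map_comp, Category.assoc, hμ, ← Category.assoc, ← Functor.map_comp, hhD1, Functor.map_comp,
          Category.assoc, ← Category.assoc ((yon S).map hT), hT1, Category.assoc, hg', hh1, Category.assoc])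
    (by rw [Category.assoc, hμ', hhD2, hh2])
  rw [← appTop_comp, ← Over.comp_left, ← hhD1, Over.comp_left, appTop_comp, hcT, ← appTop_comp, ← Over.comp_left, f3, hc]

end K636.Im
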