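import Groth.Agent.AlgSp.K636.F1

/-!
# Sections of an affine space come from affine spaces of finite presentation: the induction step
-/

set_option autoImplicit false
universe u
open CategoryTheory CategoryTheory.Limits AlgebraicGeometry Opposite
open AlgSp K598.RepKit K636.EdExt

namespace K636.Im

variable {S : Scheme.{u}}

open K636.EdStep

section step

variable {U W X : Sp S} {T : Over S} {j : U ⟶ W} {f : (yon S).obj T ⟶ W} {x : X ⟶ W}

theorem repWith_of_comp_mono {P : MorphismProperty Scheme.{u}} {A : Sp S} (b : A ⟶ U) [Mono j]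
    (h : RepWith P (b ≫ j)) : RepWith P b := by
  have sq : IsPullback (𝟙 A) b (b ≫ j) j := by
    refine ⟨⟨by rw [Category.id_comp]⟩, ⟨PullbackCone.IsLimit.mk _ (fun s => s.fst) ?_ ?_ ?_⟩⟩
    · intro s; rw [Category.comp_id]
    · intro s
      rw [← cancel_mono j, Category.assoc, s.condition]
    · intro s m h1 _
      rw [← h1, Category.comp_id]
  exact repWith_of_isPullback sq h

/-- charts of the open part -/
theorem step_open [QuasiSeparatedSpace ↥S] (hU : IsAlgSpace U) (hUc : IsQuasiCompactSp U) (hW : IsAlgSpace W)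
    (hWs : IsQuasiSeparatedSp W) (hT : IsAffine T.left) (h : IsElemDistSq j f) (H : F1 U) (hx : IsAffineMor x)
    {R XR : Over S} (hR : IsAffine R.left) {b : (yon S).obj R ⟶ U} (hb : RepWith @Etale (b ≫ j))
    {ξ : (yon S).obj XR ⟶ X} {xR : XR ⟶ R} (sq : IsPullback ξ ((yon S).map xR) x (b ≫ j)) (a : Γ(XR.left, ⊤)) :
    ∃ (E : Sp S) (e : E ⟶ W) (g : X ⟶ E), RepWith AF e ∧ g ≫ e = x ∧ InIm e g (b ≫ j) ξ xR a := by
  have hj : Mono j := mono_of_repWith_isOpenImmersion h.1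
  have sqU : IsPullback (pullback.fst x j) (pullback.snd x j) x j := IsPullback.of_hasPullback _ _
  have hxU : IsAffineMor (pullback.snd x j) := by
    rw [K597.Affine.isAffineMor_iff] at hx ⊢
    exact repWith_of_isPullback sqU hx
  have hb' : RepWith @Etale b := repWith_of_comp_mono b hb
  have hw : ξ ≫ x = ((yon S).map xR ≫ b) ≫ j := by rw [sq.w, Category.assoc]
  have h1 : sqU.lift ξ ((yon S).map xR ≫ b) hw ≫ pullback.fst x j = ξ := sqU.lift_fst _ _ _
  have h2 : sqU.lift ξ ((yon S).map xR ≫ b) hw ≫ pullback.snd x j = (yon S).map xR ≫ b := sqU.lift_snd _ _ _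
  have sq' : IsPullback (sqU.lift ξ ((yon S).map xR ≫ b) hw) ((yon S).map xR) (pullback.snd x j) b := by
    refine IsPullback.of_right ?_ h2 sqU
    rw [h1]
    exact sq
  obtain ⟨E₁, e₁, g₁, he₁, hg₁, hI⟩ := H _ hxU hR hb' sq' a
  obtain ⟨D⟩ := exists_stepData (f := f) hW hWs hUc hU h.1 hT hx sqU he₁.1 hg₁
  obtain ⟨E, e, k, g', -, -, -, -, -, he, hk, hg', hkg, -⟩ := af_step h hT sqU hg₁ he₁ D ∅ (by simp)
  refine ⟨E, e, g', he, hg', ?_⟩
  have := InIm.factor hk hkg hI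
  rwa [h1] at this

/-- the affine chart of the elementary square -/
theorem step_chart [QuasiSeparatedSpace ↥S] (hU : IsAlgSpace U) (hUc : IsQuasiCompactSp U) (hW : IsAlgSpace W)
    (hWs : IsQuasiSeparatedSp W) (hT : IsAffine T.left) (h : IsElemDistSq j f) (H : F1 U) (hx : IsAffineMor x)
    {XT : Over S} {ξ : (yon S).obj XT ⟶ X} {xT : XT ⟶ T} (sq : IsPullback ξ ((yon S).map xT) x f)
    (a : Γ(XT.left, ⊤)) :
    ∃ (E : Sp S) (e : E ⟶ W) (g : X ⟶ E), RepWith AF e ∧ g ≫ e = x ∧ InIm e g f ξ xT a := by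
  have hj : Mono j := mono_of_repWith_isOpenImmersion h.1
  have hUs : IsQuasiSeparatedSp U := isQuasiSeparatedSp_of_mono j hWs
  have hf : RepWith @Etale f := by
    have := h.2.1 (𝟙 _) (repWith_of_isIso _)
    rwa [Category.id_comp] at this
  have sqU : IsPullback (pullback.fst x j) (pullback.snd x j) x j := IsPullback.of_hasPullback _ _
  set kU := pullback.fst x j with hkU
  set xU := pullback.snd x j with hxUdef
  have hxU : IsAffineMor xU := by
    rw [K597.Affine.isAffineMor_iff] at hx ⊢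
    exact repWith_of_isPullback sqU hx
  obtain ⟨T₁, i, p, hP⟩ := h.1.1 f
  have hi : IsOpenImmersion i.left := h.1.2 _ _ _ hP
  have hp : RepWith @Etale p := repWith_of_isPullback hP.flip hf
  have hc : IsQuasiCompactSp ((yon S).obj T₁) := by
    have h1 : IsQuasiCompactMor f := K596.QC2.isQuasiCompactMor_of_qc_of_qs (IsAlgSpace.yon_obj T) hW f
      (K596.QC.isQuasiCompactSp_yon T) hWs
    exact h1 hU hUc j ((yon S).map i) p hP.flip
  have hc' : CompactSpace T₁.left := K596.QC.compactSpace_of_isQuasiCompactSp hc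
  have hsep : T₁.left.IsSeparated := ⟨by
    have : IsSeparated (i.left ≫ terminal.from T.left) := inferInstance
    convert this using 1
    exact Subsingleton.elim _ _⟩
  have sq₁ : IsPullback (pullback.fst xT i) (pullback.snd xT i) xT i := IsPullback.of_hasPullback _ _
  set j₁ := pullback.fst xT i with hj₁
  set x₁ := pullback.snd xT i with hx₁
  have h1 : IsPullback ((yon S).map j₁ ≫ ξ) ((yon S).map x₁) x ((yon S).map i ≫ f) := isPullback_comp sq sq₁
  have hw : ((yon S).map j₁ ≫ ξ) ≫ x = ((yon S).map x₁ ≫ p) ≫ j := by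
    rw [h1.w, Category.assoc, hP.w]
  let ρ : (yon S).obj (pullback xT i) ⟶ pullback x j := sqU.lift _ _ hw
  have hρ1 : ρ ≫ kU = (yon S).map j₁ ≫ ξ := sqU.lift_fst _ _ hw
  have hρ2 : ρ ≫ xU = (yon S).map x₁ ≫ p := sqU.lift_snd _ _ hw
  have hρ : IsPullback ρ ((yon S).map x₁) xU p := by
    refine IsPullback.of_right ?_ hρ2 sqU
    rw [hρ1, hP.w]
    exact h1
  obtain ⟨E₁, e₁, g₁, he₁, hg₁, hI⟩ := f1_qc hU hUc hUs H xU hxU hp hρ (j₁.left.appTop.hom a)
  obtain ⟨D⟩ := exists_stepData (f := f) hW hWs hUc hU h.1 hT hx sqU he₁.1 hg₁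
  obtain ⟨τ, hτ, hτ'⟩ := K600.Basic.exists_lift sq D.ξ D.xT D.hξ.w
  obtain ⟨τ', hτ₁, hτ₁'⟩ := K600.Basic.exists_lift D.hξ ξ xT sq.w
  obtain ⟨r, hr, hr'⟩ := K600.Basic.exists_lift (f := j) (g := f) hP D.p D.i D.hP.w
  obtain ⟨rX, hrX1, hrX2⟩ : ∃ rX : D.X₁ ⟶ pullback xT i, rX ≫ j₁ = D.j₁ ≫ τ ∧ rX ≫ x₁ = D.x₁ ≫ r :=
    ⟨sq₁.lift (D.j₁ ≫ τ) (D.x₁ ≫ r) (by rw [Category.assoc, hτ', Category.assoc, hr', D.sq₁.w]),
      sq₁.lift_fst _ _ _, sq₁.lift_snd _ _ _⟩
  have hρD : (yon S).map rX ≫ ρ = D.ρ := by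
    apply sqU.hom_ext
    · rw [Category.assoc, hρ1, ← Category.assoc, ← Functor.map_comp, hrX1, Functor.map_comp, Category.assoc, hτ]
      exact D.hρk.symm
    · rw [Category.assoc, hρ2, ← Category.assoc, ← Functor.map_comp, hrX2, Functor.map_comp, Category.assoc, hr]
      exact D.hρ.w.symm
  have hI' : InIm e₁ g₁ D.p D.ρ D.x₁ (D.j₁.left.appTop.hom (τ.left.appTop.hom a)) :=
    hI.precomp' he₁.1 hg₁ hρ.w r rX hrX2 hr hρD (by
      rw [← appTop_comp, ← appTop_comp, ← Over.comp_left, ← Over.comp_left, hrX1])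
  rw [inIm_iff D.hα D.hg₁' D.hg₁] at hI'
  obtain ⟨b', hb'⟩ := hI'
  obtain ⟨E, e, k, g', Y, y, η, gT, -, he, -, hg', -, hη, hξ, hgT, hF⟩ := af_step h hT sqU hg₁ he₁ D
    {(b', τ.left.appTop.hom a)} (by
      intro t ht
      rw [Finset.mem_singleton] at ht
      subst ht
      exact hb')
  obtain ⟨c, hc⟩ := hF _ (Finset.mem_singleton_self _)
  refine ⟨E, e, g', he, hg', ?_⟩
  have h5 : InIm e g' f D.ξ D.xT (τ.left.appTop.hom a) := (inIm_iff hη hξ.symm hgT).2 ⟨c, hc⟩
  refine h5.precomp' he.1 hg' D.hξ.w (𝟙 T) τ' (by rw [hτ₁', Category.comp_id]) (by rw [(yon S).map_id, Category.id_comp])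
    hτ₁ ?_
  have h6 : τ' ≫ τ = 𝟙 _ := K600.Basic.hom_ext sq
    (by rw [Functor.map_comp, Category.assoc, hτ, hτ₁, (yon S).map_id, Category.id_comp])
    (by rw [Category.assoc, hτ', hτ₁', Category.id_comp])
  rw [← appTop_comp, ← Over.comp_left, h6, Over.id_left, Scheme.Hom.id_appTop]
  rfl

/-- The induction step. -/
theorem F1.step [QuasiSeparatedSpace ↥S] (hU : IsAlgSpace U) (hUc : IsQuasiCompactSp U) (hW : IsAlgSpace W)
    (hWs : IsQuasiSeparatedSp W) (hT : IsAffine T.left) (h : IsElemDistSq j f) (H : F1 U) : F1 W := by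
  classical
  intro X x hx R XR hR b hb ξ xR sq a
  have hxr : RepWith @IsAffineHom x := K597.Affine.isAffineMor_iff.1 hx
  obtain ⟨XT, xT, ξT, sqT⟩ := hxr.1 f
  have hXT : IsAffine XT.left := by
    have : IsAffineHom xT.left := hxr.2 _ _ _ sqT
    exact isAffine_of_isAffineHom xT.left
  have hXR : IsAffine XR.left := by
    have : IsAffineHom xR.left := hxr.2 _ _ _ sq
    exact isAffine_of_isAffineHom xR.left
  -- neighbourhoods
  choose R' c hR' hc ht hz using fun t : R.left => GlueEd.exists_etale_nbhd (IsAlgSpace.yon_obj T) h R b t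
  have sqX : ∀ t, IsPullback (pullback.fst xR (c t)) (pullback.snd xR (c t)) xR (c t) := fun t =>
    IsPullback.of_hasPullback _ _
  have sq' : ∀ t, IsPullback ((yon S).map (pullback.fst xR (c t)) ≫ ξ) ((yon S).map (pullback.snd xR (c t))) x
      ((yon S).map (c t) ≫ b) := fun t => isPullback_comp sq (sqX t)
  have hce : ∀ t, RepWith @Etale ((yon S).map (c t) ≫ b) := fun t => K600.Basic.repWith_comp_etale hb (c t)
  let P : R.left → ∀ (E : Sp S) (_ : E ⟶ W) (_ : X ⟶ E), Prop := fun t E e g =>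
    InIm e g ((yon S).map (c t) ≫ b) ((yon S).map (pullback.fst xR (c t)) ≫ ξ) (pullback.snd xR (c t))
      ((pullback.fst xR (c t)).left.appTop.hom a)
  have key : ∀ t, ∃ (E : Sp S) (e : E ⟶ W) (g : X ⟶ E), RepWith AF e ∧ g ≫ e = x ∧ P t E e g := by
    intro t
    have sqt := sq' t
    have hct := hce t
    rcases hz t with ⟨z, hz⟩ | ⟨z, hz⟩
    · change ∃ (E : Sp S) (e : E ⟶ W) (g : X ⟶ E), RepWith AF e ∧ g ≫ e = x ∧ InIm _ _ _ _ _ _
      rw [← hz] at sqt hct ⊢
      exact step_open hU hUc hW hWs hT h H hx (hR' t) hct sqt _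
    · obtain ⟨z, rfl⟩ := (yon S).map_surjective z
      change ∃ (E : Sp S) (e : E ⟶ W) (g : X ⟶ E), RepWith AF e ∧ g ≫ e = x ∧ InIm _ _ _ _ _ _
      rw [← hz] at sqt ⊢
      obtain ⟨F, hF⟩ := exists_gen hT hXT (hR' t) sqT z sqt ((pullback.fst xR (c t)).left.appTop.hom a)
      obtain ⟨E, e, g, he, hg, HE⟩ := exists_common F (fun m E e g => InIm e g f ξT xT m)
        (fun m _ => step_chart hU hUc hW hWs hT h H hx sqT m)
      refine ⟨E, e, g, he, hg, hF e he.1 g hg fun m hm => ?_⟩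
      obtain ⟨E', e', g', φ, he', hg', h1, h2, h3⟩ := HE m hm
      exact h3.mono he.1 hg φ h1 h2 sqT.w
  -- finite subcover
  obtain ⟨s, hs⟩ : ∃ s : Finset R.left, ∀ t : R.left, ∃ i ∈ s, t ∈ Set.range (c i).left := by
    obtain ⟨s, hs⟩ := isCompact_univ.elim_finite_subcover (fun i : R.left => Set.range (c i).left)
      (fun i => by
        have := hc i
        exact (c i).left.isOpenMap.isOpen_range)
      (fun t _ => Set.mem_iUnion.2 ⟨t, ht t⟩)
    refine ⟨s, fun t => ?_⟩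
    have := hs (Set.mem_univ t)
    simpa using this
  obtain ⟨E, e, g, he, hg, HE⟩ := exists_common s P (fun i _ => key i)
  refine ⟨E, e, g, he, hg, InIm.of_local (repWith_mono (fun _ _ _ h => h.1) he) hg hR hXR sq.w fun t => ?_⟩
  obtain ⟨i, hi, hti⟩ := hs t
  obtain ⟨E', e', g', φ, he', hg', h1, h2, h3⟩ := HE i hi
  have := hc i
  exact ⟨R' i, _, c i, _, _, hR' i, inferInstance, hti, sqX i, h3.mono he.1 hg φ h1 h2 (sq' i).w⟩

end step

theorem f1_of_isEmpty {W : Sp S} (h : IsEmpty (Points W)) : F1 W := by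
  intro X x hx R XR hR b hb ξ xR sq a
  have h1 : IsEmpty R.left := ⟨fun t => h.false (Points.ofPt b t)⟩
  have h2 : IsEmpty XR.left := ⟨fun t => h1.false (xR.left t)⟩
  have h3 : Subsingleton Γ(XR.left, ⊤) := by
    have h1 : (⊤ : XR.left.Opens) = ⊥ := by
      ext x
      exact h2.elim x
    rw [h1]
    infer_instance
  refine ⟨W, 𝟙 W, x, repWith_of_isIso _, Category.comp_id _, ?_⟩
  refine (inIm_iff (ER := R) (ε := b) (eR := 𝟙 R) (h := xR) ?_ sq.w.symm (Category.comp_id _)).2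
    ⟨0, Subsingleton.elim _ _⟩
  rw [(yon S).map_id]
  exact IsPullback.of_vert_isIso ⟨by simp⟩

theorem isQuasiCompactSp_of_isEmpty {W : Sp S} (hW : IsAlgSpace W) (h : IsEmpty (Points W)) : IsQuasiCompactSp W := by
  obtain ⟨U, p, hp, hp'⟩ := hW.atlas
  have h1 : IsEmpty U.left := ⟨fun t => h.false (Points.ofPt p t)⟩
  exact ⟨U, p, hp, hp', inferInstance⟩

/-- **Every section of an affine space over a qcqs algebraic space comes from an affine space of finite
presentation.** -/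
theorem f1_of_qcqs [QuasiSeparatedSpace ↥S] (Y : Space S) (hYc : IsQuasiCompactSp Y.obj)
    (hYs : IsQuasiSeparatedSp Y.obj) : F1 Y.obj := by
  obtain ⟨n, Uo, j, k, T, i, h1, h2, h3, h4, h5, h6⟩ := Groth.Agent.S10419.result Y hYc hYs
  refine Groth.Agent.S10768.result Y hYc hYs (fun U _ => F1 U.obj) (Uo (n + 1)) (j (n + 1)) (h1 _)
    (isQuasiCompactSp_of_isEmpty (Uo (n + 1)).property h4) (f1_of_isEmpty h4) ?_
  intro W₁ W₂ V j₁ j₂ k m f hj₁ hj₂ hk hm hW₁c hW₂c hV hsq IH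
  obtain ⟨T, hT, ⟨eT⟩⟩ := hV
  have hj₂m : Mono j₂.hom := mono_of_repWith_isOpenImmersion hj₂
  intro X x hx R XR hR b hb ξ xR sq a
  exact F1.step W₁.property hW₁c W₂.property (isQuasiSeparatedSp_of_mono j₂.hom hYs) hT (isElemDistSq_iso eT hsq) IH
    x hx hR hb sq a

end K636.Im
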