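import Groth.Agent.AlgSp.K606.QuotBC
import Mathlib.Algebra.Category.Ring.Constructions
import Mathlib.RingTheory.RingHom.Flat

/-!
# Pushout squares of rings along flat maps: generation, kernels, membership in an image
-/

set_option autoImplicit false
universe u

open CategoryTheory CategoryTheory.Limits TensorProduct

namespace K636.FlatRing

variable {R A R' A' : CommRingCat.{u}} {ρ : R ⟶ A} {φ : R ⟶ R'} {α : A ⟶ A'} {ρ' : R' ⟶ A'}

/-- Every element of a pushout lies in the subring generated by `R'` and finitely many elements of `A`. -/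
theorem exists_finset (h : IsPushout ρ φ α ρ') (a : A') :
    ∃ F : Finset A, ∀ B : Subring A', (∀ s, ρ'.hom s ∈ B) → (∀ m ∈ F, α.hom m ∈ B) → a ∈ B := by
  classical
  let _ := ρ.hom.toAlgebra
  let _ := φ.hom.toAlgebra
  let _ := α.hom.toAlgebra
  let _ := ρ'.hom.toAlgebra
  let _ := (α.hom.comp ρ.hom).toAlgebra
  have h1 : IsScalarTower R A A' := IsScalarTower.of_algebraMap_eq' rfl
  have h2 : IsScalarTower R R' A' := IsScalarTower.of_algebraMap_eq' (congrArg CommRingCat.Hom.hom h.w)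
  have h3 : Algebra.IsPushout R A R' A' := CommRingCat.isPushout_iff_isPushout.mp h
  have h4 : IsBaseChange R' (IsScalarTower.toAlgHom R A A').toLinearMap := h3.symm.out
  refine h4.inductionOn a _ ?_ ?_ ?_ ?_
  · exact ⟨∅, fun B _ _ => B.zero_mem⟩
  · intro m
    exact ⟨{m}, fun B _ hm => hm m (Finset.mem_singleton_self m)⟩
  · rintro r n ⟨F, hF⟩
    refine ⟨F, fun B h1 h2 => ?_⟩
    rw [Algebra.smul_def]
    exact B.mul_mem (h1 r) (hF B h1 h2)
  · rintro x y ⟨F, hF⟩ ⟨F', hF'⟩
    exact ⟨F ∪ F', fun B h1 h2 => B.add_mem (hF B h1 fun m hm => h2 m (Finset.mem_union_left _ hm))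
      (hF' B h1 fun m hm => h2 m (Finset.mem_union_right _ hm))⟩

/-- Kernels under flat base change. -/
theorem exists_ker (h : IsPushout ρ φ α ρ') (hφ : φ.hom.Flat) (c : R') (hc : ρ'.hom c = 0) :
    ∃ F : Finset R, (∀ k ∈ F, ρ.hom k = 0) ∧ c ∈ Ideal.span (φ.hom '' (F : Set R)) := by
  classical
  let _ := ρ.hom.toAlgebra
  let _ := φ.hom.toAlgebra
  let _ := α.hom.toAlgebra
  let _ := ρ'.hom.toAlgebra
  let _ := (α.hom.comp ρ.hom).toAlgebra
  have h1 : IsScalarTower R A A' := IsScalarTower.of_algebraMap_eq' rfl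
  have h2 : IsScalarTower R R' A' := IsScalarTower.of_algebraMap_eq' (congrArg CommRingCat.Hom.hom h.w)
  have h3 : Algebra.IsPushout R A R' A' := CommRingCat.isPushout_iff_isPushout.mp h
  have h4 : IsBaseChange R' (IsScalarTower.toAlgHom R A A').toLinearMap := h3.symm.out
  have h5 : Module.Flat R R' := hφ
  have h6 : c ∈ Submodule.span R' ((Algebra.linearMap R R') '' {m | (Algebra.linearMap R A) m = 0}) :=
    K606.QuotBC.ker_le_span (B := R') (Algebra.linearMap R R') (IsBaseChange.linearMap R R')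
      _ h4 (Algebra.linearMap R A) (Algebra.linearMap R' A') (fun m => by
        change α.hom (ρ.hom m) = ρ'.hom (φ.hom m)
        exact congrArg (fun z => z.hom m) h.w) c hc
  obtain ⟨T, hT, hcT⟩ := Submodule.mem_span_finite_of_mem_span h6
  obtain ⟨F, hF, hFT⟩ := Finset.subset_set_image_iff.1 hT
  refine ⟨F, fun k hk => hF hk, ?_⟩
  rw [← hFT, Finset.coe_image] at hcT
  exact hcT

/-- The conductor of `b` into the image of `f`. -/
def cond {R A B : Type*} [CommRing R] [CommRing A] [CommRing B] (ρ : R →+* A) (f : A →+* B) (b : B) : Ideal R where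
  carrier := {r | f (ρ r) * b ∈ f.range}
  add_mem' {x y} hx hy := by
    change f (ρ (x + y)) * b ∈ f.range
    rw [map_add, map_add, add_mul]
    exact f.range.add_mem hx hy
  zero_mem' := by
    change f (ρ 0) * b ∈ f.range
    rw [map_zero, map_zero, zero_mul]
    exact f.range.zero_mem
  smul_mem' c x hx := by
    change f (ρ (c * x)) * b ∈ f.range
    rw [map_mul, map_mul, mul_assoc]
    exact f.range.mul_mem ⟨_, rfl⟩ hx

theorem mem_cond {R A B : Type*} [CommRing R] [CommRing A] [CommRing B] {ρ : R →+* A} {f : A →+* B} {b : B} {r : R} :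
    r ∈ cond ρ f b ↔ f (ρ r) * b ∈ f.range := Iff.rfl

variable {B B' : CommRingCat.{u}} {σ : R ⟶ B} {β : B ⟶ B'} {σ' : R' ⟶ B'} {f : A ⟶ B} {f' : A' ⟶ B'}

/-- The conductor of an element into an image, after a flat base change that puts the element in the image. -/
theorem conductor (hA : IsPushout ρ φ α ρ') (hB : IsPushout σ φ β σ') (hφ : φ.hom.Flat) (hf : ρ ≫ f = σ)
    (hf' : ρ' ≫ f' = σ') (hw : α ≫ f' = f ≫ β) (b : B) (a' : A') (ha' : f'.hom a' = β.hom b) :
    (cond ρ.hom f.hom b).map φ.hom = ⊤ := by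
  classical
  let _ := ρ.hom.toAlgebra
  let _ := φ.hom.toAlgebra
  let _ := α.hom.toAlgebra
  let _ := ρ'.hom.toAlgebra
  let _ := (α.hom.comp ρ.hom).toAlgebra
  have h1 : IsScalarTower R A A' := IsScalarTower.of_algebraMap_eq' rfl
  have h2 : IsScalarTower R R' A' := IsScalarTower.of_algebraMap_eq' (congrArg CommRingCat.Hom.hom hA.w)
  have h3 : Algebra.IsPushout R A R' A' := CommRingCat.isPushout_iff_isPushout.mp hA
  have h4 : IsBaseChange R' (IsScalarTower.toAlgHom R A A').toLinearMap := h3.symm.out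
  let _ := σ.hom.toAlgebra
  let _ := β.hom.toAlgebra
  let _ := σ'.hom.toAlgebra
  let _ := (β.hom.comp σ.hom).toAlgebra
  have k1 : IsScalarTower R B B' := IsScalarTower.of_algebraMap_eq' rfl
  have k2 : IsScalarTower R R' B' := IsScalarTower.of_algebraMap_eq' (congrArg CommRingCat.Hom.hom hB.w)
  have k3 : Algebra.IsPushout R B R' B' := CommRingCat.isPushout_iff_isPushout.mp hB
  have k4 : IsBaseChange R' (IsScalarTower.toAlgHom R B B').toLinearMap := k3.symm.out
  have h5 : Module.Flat R R' := hφ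
  let fA : A →ₐ[R] B := { f.hom with
    commutes' := fun r => congrArg (fun z => z.hom r) hf }
  let N : Submodule R B := LinearMap.range fA.toLinearMap
  let mkb : R →ₗ[R] B ⧸ N := (LinearMap.toSpanSingleton R (B ⧸ N) (Submodule.Quotient.mk b))
  let Λ : B' →ₗ[R'] R' ⊗[R] (B ⧸ N) := k4.lift ((TensorProduct.mk R R' (B ⧸ N) 1).comp N.mkQ)
  have hΛ : ∀ b : B, Λ (β.hom b) = 1 ⊗ₜ Submodule.Quotient.mk b := fun b => k4.lift_eq _ b
  have hΛf : ∀ a' : A', Λ (f'.hom a') = 0 := by
    intro a'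
    refine h4.inductionOn a' _ ?_ ?_ ?_ ?_
    · rw [map_zero, map_zero]
    · intro m
      have : f'.hom (α.hom m) = β.hom (f.hom m) := congrArg (fun z => z.hom m) hw
      change Λ (f'.hom (α.hom m)) = 0
      have h0 : (Submodule.Quotient.mk (f.hom m) : B ⧸ N) = 0 := (Submodule.Quotient.mk_eq_zero N).2 ⟨m, rfl⟩
      rw [this, hΛ, h0, tmul_zero]
    · intro s n hn
      have : f'.hom (s • n) = s • f'.hom n := by
        rw [Algebra.smul_def, map_mul, Algebra.smul_def]
        congr 1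
        exact congrArg (fun z => z.hom s) hf'
      rw [this, map_smul, hn, smul_zero]
    · intro x y hx hy
      rw [map_add, map_add, hx, hy, add_zero]
  have h6 : (1 : R') ⊗ₜ[R] (Submodule.Quotient.mk b : B ⧸ N) = 0 := by
    rw [← hΛ, ← ha', hΛf]
  have h7 : (1 : R') ∈ Submodule.span R' ((Algebra.linearMap R R') '' {m | mkb m = 0}) := by
    refine K606.QuotBC.ker_le_span (B := R') (Algebra.linearMap R R') (IsBaseChange.linearMap R R')
      (TensorProduct.mk R R' (B ⧸ N) 1) (TensorProduct.isBaseChange R (B ⧸ N) R') mkb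
      ((LinearMap.toSpanSingleton R' (R' ⊗[R] (B ⧸ N)) (1 ⊗ₜ Submodule.Quotient.mk b))) (fun m => ?_) 1 ?_
    · change (1 : R') ⊗ₜ[R] (m • (Submodule.Quotient.mk b : B ⧸ N)) =
        (algebraMap R R' m) • ((1 : R') ⊗ₜ[R] (Submodule.Quotient.mk b : B ⧸ N))
      rw [TensorProduct.tmul_smul, algebraMap_smul]
    · rw [LinearMap.toSpanSingleton_apply, h6, smul_zero]
  rw [Ideal.eq_top_iff_one]
  refine Submodule.span_mono ?_ h7
  rintro _ ⟨r, hr, rfl⟩
  refine ⟨r, ?_, rfl⟩
  have h8 : (Submodule.Quotient.mk (r • b) : B ⧸ N) = 0 := hr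
  rw [Submodule.Quotient.mk_eq_zero] at h8
  obtain ⟨a, ha⟩ := h8
  refine ⟨a, ?_⟩
  have h9 : f.hom a = r • b := ha
  rw [h9, Algebra.smul_def]
  congr 1
  exact (congrArg (fun z => z.hom r) hf).symm

end K636.FlatRing
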