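import Mathlib.RingTheory.FinitePresentation
import Mathlib.RingTheory.Localization.Away.Basic
import Mathlib.RingTheory.Localization.Integral
import Mathlib.RingTheory.Localization.Finiteness
import Mathlib.RingTheory.Finiteness.FiniteTypeLocal
import Mathlib.RingTheory.Localization.Away.AdjoinRoot
import Mathlib.RingTheory.Localization.Ideal

/-!
# Approximation of an algebra by finitely presented ones, relative to some localizations

* `FIso φ p` : `φ` becomes bijective after inverting `p`.
* `exists_fp_approx` : if `A_f` is finitely presented over `R` for `f ∈ s` (finite), then there is a finitely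
  presented `R`-algebra `B → A`, isomorphic to `A` after inverting each `f ∈ s`, whose image contains a given
  finite set.
-/

set_option autoImplicit false
universe u v w

namespace K636.FpRing

/-- `φ` becomes bijective after inverting `p`. -/
structure FIso {P : Type u} {Q : Type v} [CommRing P] [CommRing Q] (φ : P →+* Q) (p : P) : Prop where
  inj : ∀ x, φ x = 0 → ∃ n : ℕ, p ^ n * x = 0
  surj : ∀ y, ∃ (n : ℕ) (x : P), φ x = φ p ^ n * y

section

variable {P : Type u} {Q : Type v} {T : Type w} [CommRing P] [CommRing Q] [CommRing T]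

theorem FIso.comp {φ : P →+* Q} {ψ : Q →+* T} {p : P} (h : FIso φ p) (h' : FIso ψ (φ p)) : FIso (ψ.comp φ) p where
  inj x hx := by
    obtain ⟨n, hn⟩ := h'.inj (φ x) hx
    obtain ⟨m, hm⟩ := h.inj (p ^ n * x) (by rw [map_mul, map_pow, hn])
    exact ⟨m + n, by rw [pow_add, mul_assoc, hm]⟩
  surj y := by
    obtain ⟨n, z, hz⟩ := h'.surj y
    obtain ⟨m, x, hx⟩ := h.surj z
    refine ⟨m + n, x, ?_⟩
    rw [RingHom.comp_apply, hx, map_mul, map_pow, hz, RingHom.comp_apply, pow_add, mul_assoc]

theorem FIso.of_bijective {φ : P →+* Q} (p : P) (h : Function.Bijective φ) : FIso φ p where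
  inj x hx := ⟨0, by rw [pow_zero, one_mul]; exact h.1 (by rw [hx, map_zero])⟩
  surj y := by
    obtain ⟨x, hx⟩ := h.2 y
    exact ⟨0, x, by rw [pow_zero, one_mul, hx]⟩

/-- If `L` is the localization of `Q` away from `φ p` then it is the localization of `P` away from `p`. -/
theorem FIso.isLocalization {φ : P →+* Q} {p : P} (h : FIso φ p) (L : Type w) [CommRing L] [Algebra Q L] [Algebra P L]
    (hL : ∀ x, algebraMap P L x = algebraMap Q L (φ x)) [IsLocalization.Away (φ p) L] :
    IsLocalization.Away p L := by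
  constructor; constructor
  · rintro ⟨_, n, rfl⟩
    dsimp only
    rw [hL, map_pow, map_pow]
    exact (IsLocalization.Away.algebraMap_isUnit (φ p)).pow n
  · intro z
    obtain ⟨⟨y, ⟨_, n, rfl⟩⟩, hy⟩ := IsLocalization.surj (Submonoid.powers (φ p)) z
    obtain ⟨m, x, hx⟩ := h.surj y
    refine ⟨⟨x, ⟨_, m + n, rfl⟩⟩, ?_⟩
    dsimp only at hy ⊢
    rw [hL, hL, hx, map_mul, ← hy, map_pow, map_pow, map_pow, map_pow, pow_add]
    ring
  · intro x y hxy
    rw [hL, hL] at hxy
    obtain ⟨⟨_, n, rfl⟩, hn⟩ := IsLocalization.exists_of_eq (M := Submonoid.powers (φ p)) hxy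
    dsimp only at hn
    obtain ⟨m, hm⟩ := h.inj (p ^ n * (x - y)) (by rw [map_mul, map_sub, map_pow, mul_sub, hn, sub_self])
    refine ⟨⟨_, m + n, rfl⟩, ?_⟩
    dsimp only
    rw [← sub_eq_zero, ← mul_sub, pow_add, mul_assoc, hm]

/-- Comparison of two localizations. -/
theorem FIso.of_isLocalization {φ : P →+* Q} {p : P} (L : Type u) (L' : Type v) [CommRing L] [CommRing L']
    [Algebra P L] [Algebra Q L'] [IsLocalization.Away p L] [IsLocalization.Away (φ p) L'] (e : L →+* L')
    (he : Function.Bijective e) (h : ∀ x, e (algebraMap P L x) = algebraMap Q L' (φ x)) : FIso φ p where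
  inj x hx := by
    have h1 : algebraMap P L x = algebraMap P L 0 := he.1 (by rw [h, h, hx, map_zero φ])
    obtain ⟨⟨_, n, rfl⟩, hn⟩ := IsLocalization.exists_of_eq (M := Submonoid.powers p) h1
    dsimp only at hn
    exact ⟨n, by rw [hn, mul_zero]⟩
  surj y := by
    obtain ⟨z, hz⟩ := he.2 (algebraMap Q L' y)
    obtain ⟨⟨x, ⟨_, n, rfl⟩⟩, hx⟩ := IsLocalization.surj (Submonoid.powers p) z
    dsimp only at hx
    have h1 : algebraMap Q L' (φ x) = algebraMap Q L' (φ p ^ n * y) := by
      rw [← h, ← hx, map_mul, map_mul, hz, h, map_pow, mul_comm]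
    obtain ⟨⟨_, m, rfl⟩, hm⟩ := IsLocalization.exists_of_eq (M := Submonoid.powers (φ p)) h1
    dsimp only at hm
    refine ⟨m + n, p ^ m * x, ?_⟩
    rw [map_mul, map_pow, hm, pow_add, mul_assoc]

theorem FIso.isLocalization_self {L : Type v} [CommRing L] [Algebra P L] (p : P) [IsLocalization.Away p L] :
    FIso (algebraMap P L) p where
  inj x hx := by
    obtain ⟨⟨_, n, rfl⟩, hn⟩ := IsLocalization.exists_of_eq (M := Submonoid.powers p)
      (show algebraMap P L x = algebraMap P L 0 by rw [hx, map_zero])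
    dsimp only at hn
    exact ⟨n, by rw [hn, mul_zero]⟩
  surj y := by
    obtain ⟨⟨x, ⟨_, n, rfl⟩⟩, hx⟩ := IsLocalization.surj (Submonoid.powers p) y
    dsimp only at hx
    exact ⟨n, x, by rw [← hx, map_pow, mul_comm]⟩

/-- The fibre product of rings. -/
abbrev pb (g : Q →+* P) (j : T →+* P) : Subring (Q × T) :=
  (g.comp (RingHom.fst Q T)).eqLocus (j.comp (RingHom.snd Q T))

/-- The first projection of a fibre product is an isomorphism where the second map is. -/
theorem FIso.pb_fst {g : Q →+* P} {j : T →+* P} (x : pb g j) (h : FIso j x.1.2) :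
    FIso ((RingHom.fst Q T).comp (pb g j).subtype) x where
  inj y hy := by
    have h1 : y.1.1 = 0 := hy
    have h2 : j y.1.2 = 0 := by
      have := y.2
      change g y.1.1 = j y.1.2 at this
      rw [← this, h1, map_zero]
    obtain ⟨n, hn⟩ := h.inj _ h2
    refine ⟨n, Subtype.ext (Prod.ext ?_ ?_)⟩
    · change x.1.1 ^ n * y.1.1 = 0
      rw [h1, mul_zero]
    · exact hn
  surj b := by
    obtain ⟨n, a, ha⟩ := h.surj (g b)
    refine ⟨n, ⟨(x.1.1 ^ n * b, a), ?_⟩, rfl⟩
    change g (x.1.1 ^ n * b) = j a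
    have hx := x.2
    change g x.1.1 = j x.1.2 at hx
    rw [ha, map_mul, map_pow, hx]

end

section

variable {R : Type u} {A : Type v} [CommRing R] [CommRing A] [Algebra R A]

/-- Elements generating the localization. -/
theorem exists_gen (f : R) (L : Type w) [CommRing L] [Algebra A L] [Algebra R L] [IsScalarTower R A L]
    [IsLocalization.Away (algebraMap R A f) L] [Algebra.FiniteType R L] :
    ∃ G : Finset A, ∀ a : A, ∃ n : ℕ, algebraMap R A f ^ n * a ∈ Algebra.adjoin R (G : Set A) := by
  obtain ⟨t, ht⟩ := (inferInstance : Algebra.FiniteType R L).out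
  classical
  refine ⟨IsLocalization.finsetIntegerMultiple (Submonoid.powers (algebraMap R A f)) t, fun a => ?_⟩
  obtain ⟨⟨_, n, rfl⟩, hm⟩ := IsLocalization.exists_smul_mem_of_mem_adjoin (Submonoid.powers (algebraMap R A f)) a t
    (Algebra.adjoin R (IsLocalization.finsetIntegerMultiple (Submonoid.powers (algebraMap R A f)) t : Set A))
    Algebra.subset_adjoin (by
      rw [Submonoid.powers_le]
      exact Subalgebra.algebraMap_mem _ _) (by rw [ht]; trivial)
  exact ⟨n, hm⟩

/-- The kernel of a surjection (after localization) onto a finitely presented algebra. -/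
theorem exists_ker {P : Type w} [CommRing P] [Algebra R P] [Algebra.FinitePresentation R P] (π : P →ₐ[R] A) (f : R)
    (hs : ∀ a : A, ∃ (n : ℕ) (x : P), π x = algebraMap R A f ^ n * a)
    [hA : Algebra.FinitePresentation R (Localization.Away (algebraMap R A f))] :
    ∃ T : Finset P, (∀ x ∈ T, π x = 0) ∧
      ∀ x, π x = 0 → ∃ n : ℕ, algebraMap R P f ^ n * x ∈ Ideal.span (T : Set P) := by
  let Pf := Localization.Away (algebraMap R P f)
  let Af := Localization.Away (algebraMap R A f)
  have hPf0 : Algebra.FinitePresentation P Pf := IsLocalization.Away.finitePresentation (algebraMap R P f)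
  have hPf : Algebra.FinitePresentation R Pf :=
    Algebra.FinitePresentation.trans R P Pf
  have hπf : π (algebraMap R P f) = algebraMap R A f := π.commutes f
  have hu : IsUnit ((IsScalarTower.toAlgHom R A Af).comp π (algebraMap R P f)) := by
    rw [AlgHom.comp_apply, hπf]
    exact IsLocalization.Away.algebraMap_isUnit (algebraMap R A f)
  let g : Pf →ₐ[R] Af := IsLocalization.liftAlgHom (M := Submonoid.powers (algebraMap R P f))
    (f := (IsScalarTower.toAlgHom R A Af).comp π) (by
      rintro ⟨_, n, rfl⟩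
      dsimp only
      rw [map_pow]
      exact hu.pow n)
  have hg : ∀ x, g (algebraMap P Pf x) = algebraMap A Af (π x) := fun x => IsLocalization.lift_eq _ x
  have hgs : Function.Surjective g := by
    intro y
    obtain ⟨⟨a, ⟨_, n, rfl⟩⟩, hy⟩ := IsLocalization.surj (Submonoid.powers (algebraMap R A f)) y
    obtain ⟨m, x, hx⟩ := hs a
    obtain ⟨v, hv⟩ := IsLocalization.Away.algebraMap_isUnit (S := Pf) (algebraMap R P f)
    refine ⟨algebraMap P Pf x * (↑(v⁻¹) : Pf) ^ (m + n), ?_⟩
    have hunit : IsUnit (algebraMap A Af (algebraMap R A f)) :=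
      IsLocalization.Away.algebraMap_isUnit (algebraMap R A f)
    have h1 : g (v : Pf) = algebraMap A Af (algebraMap R A f) := by rw [hv, hg, hπf]
    have h2 : g (↑(v⁻¹) : Pf) * algebraMap A Af (algebraMap R A f) = 1 := by
      rw [← h1, ← map_mul, Units.inv_mul, map_one]
    refine (hunit.pow (m + n)).mul_left_injective ?_
    dsimp only at hy ⊢
    rw [map_mul, map_pow, mul_assoc, ← mul_pow, h2, one_pow, mul_one, hg, hx, map_mul, ← hy, map_pow, map_pow,
      pow_add]
    ring
  have hker : (RingHom.ker g.toRingHom).FG := Algebra.FinitePresentation.ker_fG_of_surjective g hgs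
  obtain ⟨t, ht⟩ := hker
  -- clear denominators
  have hcl : ∀ y : Pf, g y = 0 → ∃ (x : P), π x = 0 ∧ y ∈ Ideal.span {algebraMap P Pf x} := by
    intro y hy
    obtain ⟨⟨x, ⟨_, n, rfl⟩⟩, hx⟩ := IsLocalization.surj (Submonoid.powers (algebraMap R P f)) y
    dsimp only at hx
    have h1 : algebraMap A Af (π x) = algebraMap A Af 0 := by
      rw [← hg, ← hx, map_mul, hy, zero_mul, map_zero]
    obtain ⟨⟨_, m, rfl⟩, hm⟩ := IsLocalization.exists_of_eq (M := Submonoid.powers (algebraMap R A f)) h1
    dsimp only at hm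
    refine ⟨algebraMap R P f ^ m * x, by rw [map_mul, map_pow, hπf, hm, mul_zero], ?_⟩
    obtain ⟨v, hv⟩ := IsLocalization.Away.algebraMap_isUnit (S := Pf) (algebraMap R P f)
    rw [Ideal.mem_span_singleton]
    refine ⟨(↑(v⁻¹) : Pf) ^ (m + n), ?_⟩
    have h2 : algebraMap P Pf (algebraMap R P f) * (↑(v⁻¹) : Pf) = 1 := by rw [← hv, Units.mul_inv]
    rw [map_mul, map_pow, ← hx, map_pow, pow_add]
    calc y = (algebraMap P Pf (algebraMap R P f) * (↑(v⁻¹) : Pf)) ^ m *
        ((algebraMap P Pf (algebraMap R P f) * (↑(v⁻¹) : Pf)) ^ n * y) := by rw [h2]; simp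
      _ = _ := by ring
  choose! k hk hk' using hcl
  classical
  have ht0 : ∀ y ∈ t, g y = 0 := fun y hy => by
    have : y ∈ RingHom.ker g.toRingHom := by rw [← ht]; exact Ideal.subset_span hy
    exact this
  refine ⟨t.image k, fun x hx => ?_, fun x hx => ?_⟩
  · obtain ⟨y, hy, rfl⟩ := Finset.mem_image.1 hx
    exact hk y (ht0 y hy)
  · have h1 : algebraMap P Pf x ∈ RingHom.ker g.toRingHom := by
      change g _ = 0
      rw [hg, hx, map_zero]
    have h2 : RingHom.ker g.toRingHom ≤ (Ideal.span ((t.image k : Finset P) : Set P)).map (algebraMap P Pf) := by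
      rw [← ht, Ideal.span_le]
      intro y hy
      refine Ideal.span_le.2 ?_ (hk' y (ht0 y hy))
      rw [Set.singleton_subset_iff]
      exact Ideal.mem_map_of_mem _ (Ideal.subset_span (by
        rw [Finset.coe_image]
        exact ⟨y, hy, rfl⟩))
    have h3 := h2 h1
    rw [IsLocalization.mem_map_algebraMap_iff (Submonoid.powers (algebraMap R P f))] at h3
    obtain ⟨⟨⟨z, hz⟩, ⟨_, n, rfl⟩⟩, h4⟩ := h3
    dsimp only at h4
    rw [← map_mul] at h4
    obtain ⟨⟨_, m, rfl⟩, hm⟩ := IsLocalization.exists_of_eq (M := Submonoid.powers (algebraMap R P f)) h4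
    dsimp only at hm
    refine ⟨m + n, ?_⟩
    have : algebraMap R P f ^ (m + n) * x = algebraMap R P f ^ m * z := by
      rw [← hm, pow_add]; ring
    rw [this]
    exact Ideal.mul_mem_left _ _ hz

/-- Finitely presented approximation, relative to localizations. -/
theorem exists_fp_approx (R : Type u) (A : Type v) [CommRing R] [CommRing A] [Algebra R A] (s : Finset R)
    (h : ∀ f ∈ s, Algebra.FinitePresentation R (Localization.Away (algebraMap R A f))) (S₀ : Finset A) :
    ∃ (B : Type (max u v)) (_ : CommRing B) (_ : Algebra R B) (φ : B →ₐ[R] A), Algebra.FinitePresentation R B ∧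
      (∀ a ∈ S₀, ∃ b, φ b = a) ∧ ∀ f ∈ s, FIso φ.toRingHom (algebraMap R B f) := by
  classical
  have hG : ∀ f : R, f ∈ s → ∃ G : Finset A, ∀ a : A, ∃ n : ℕ,
      algebraMap R A f ^ n * a ∈ Algebra.adjoin R (G : Set A) := fun f hf => by
    have := h f hf
    have : Algebra.FiniteType R (Localization.Away (algebraMap R A f)) := inferInstance
    exact exists_gen f (Localization.Away (algebraMap R A f))
  choose! G hG using hG
  let G' : Finset A := S₀ ∪ s.biUnion G
  let P := MvPolynomial G' R
  let π : P →ₐ[R] A := MvPolynomial.aeval (fun x : G' => (x : A))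
  have hr : π.range = Algebra.adjoin R (G' : Set A) := by
    rw [Algebra.adjoin_eq_range]
    rfl
  have hs : ∀ f ∈ s, ∀ a : A, ∃ (n : ℕ) (x : P), π x = algebraMap R A f ^ n * a := by
    intro f hf a
    obtain ⟨n, hn⟩ := hG f hf a
    have : algebraMap R A f ^ n * a ∈ π.range := by
      rw [hr]
      refine Algebra.adjoin_mono ?_ hn
      intro x hx
      exact Finset.mem_union_right _ (Finset.mem_biUnion.2 ⟨f, hf, hx⟩)
    exact ⟨n, this⟩
  have hT : ∀ f : R, f ∈ s → ∃ T : Finset P, (∀ x ∈ T, π x = 0) ∧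
      ∀ x, π x = 0 → ∃ n : ℕ, algebraMap R P f ^ n * x ∈ Ideal.span (T : Set P) := fun f hf => by
    have := h f hf
    exact exists_ker π f (hs f hf)
  choose! T hT hT' using hT
  let J : Ideal P := Ideal.span ((s.biUnion T : Finset P) : Set P)
  have hJ : ∀ x ∈ J, π x = 0 := by
    have : J ≤ RingHom.ker π.toRingHom := by
      refine Ideal.span_le.2 fun x hx => ?_
      obtain ⟨f, hf, hx⟩ := Finset.mem_biUnion.1 (Finset.mem_coe.1 hx)
      exact hT f hf x hx
    exact this
  refine ⟨P ⧸ J, inferInstance, inferInstance, Ideal.Quotient.liftₐ J π hJ, ?_, ?_, ?_⟩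
  · exact Algebra.FinitePresentation.quotient ⟨_, rfl⟩
  · intro a ha
    refine ⟨Ideal.Quotient.mk J (MvPolynomial.X ⟨a, Finset.mem_union_left _ ha⟩), ?_⟩
    rw [Ideal.Quotient.liftₐ_apply, Ideal.Quotient.lift_mk]
    exact MvPolynomial.aeval_X _ _
  · intro f hf
    refine ⟨fun x hx => ?_, fun a => ?_⟩
    · obtain ⟨x, rfl⟩ := Ideal.Quotient.mk_surjective x
      obtain ⟨n, hn⟩ := hT' f hf x hx
      refine ⟨n, ?_⟩
      change (Ideal.Quotient.mk J) (algebraMap R P f) ^ n * Ideal.Quotient.mk J x = 0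
      rw [← map_pow, ← map_mul, Ideal.Quotient.eq_zero_iff_mem]
      exact Ideal.span_mono (fun y hy => Finset.mem_biUnion.2 ⟨f, hf, hy⟩) hn
    · obtain ⟨n, x, hx⟩ := hs f hf a
      refine ⟨n, Ideal.Quotient.mk J x, ?_⟩
      change π x = _
      rw [hx]
      congr 2
      exact ((Ideal.Quotient.liftₐ J π hJ).commutes f).symm

end

end K636.FpRing
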