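import Groth.Agent.AlgSp.K636.FpRing
import Mathlib.AlgebraicGeometry.QuasiAffine
import Mathlib.AlgebraicGeometry.Morphisms.FinitePresentation

/-!
# Extension of finitely presented affine morphisms from a quasi-compact open of an affine scheme
-/

set_option autoImplicit false
universe u

open CategoryTheory CategoryTheory.Limits AlgebraicGeometry TopologicalSpace

namespace K636.FpSch

open K636.FpRing

/-- The morphism to `Spec Q` given by a ring homomorphism. -/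
noncomputable def toSpec {Z : Scheme.{u}} {Q : CommRingCat.{u}} (ψ : Q ⟶ Γ(Z, ⊤)) : Z ⟶ Spec Q :=
  Z.toSpecΓ ≫ Spec.map ψ

section

variable {Z Z' : Scheme.{u}} {Q Q' : CommRingCat.{u}}

@[reassoc]
theorem comp_toSpec (h : Z' ⟶ Z) (ψ : Q ⟶ Γ(Z, ⊤)) : h ≫ toSpec ψ = toSpec (ψ ≫ h.appTop) := by
  rw [toSpec, toSpec, ← Category.assoc, Scheme.toSpecΓ_naturality, Category.assoc, ← Spec.map_comp]

@[reassoc]
theorem toSpec_comp (ψ : Q ⟶ Γ(Z, ⊤)) (χ : Q' ⟶ Q) : toSpec ψ ≫ Spec.map χ = toSpec (χ ≫ ψ) := by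
  rw [toSpec, toSpec, Category.assoc, ← Spec.map_comp]

theorem toSpec_appTop (ψ : Q ⟶ Γ(Z, ⊤)) : (Scheme.ΓSpecIso Q).inv ≫ (toSpec ψ).appTop = ψ := by
  rw [toSpec, Scheme.Hom.comp_appTop, Scheme.toSpecΓ_appTop, Scheme.ΓSpecIso_naturality, Iso.inv_hom_id_assoc]

theorem toSpec_isoSpec_inv {V : Scheme.{u}} [IsAffine V] (h : Z ⟶ V) : toSpec h.appTop ≫ V.isoSpec.inv = h := by
  rw [toSpec, ← Scheme.toSpecΓ_naturality, Category.assoc, Scheme.toSpecΓ_isoSpec_inv, Category.comp_id]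

theorem toSpec_basicOpen (ψ : Q ⟶ Γ(Z, ⊤)) (q : Q) :
    toSpec ψ ⁻¹ᵁ (PrimeSpectrum.basicOpen q : (Spec Q).Opens) = Z.basicOpen (ψ q) := by
  rw [← Scheme.toSpecΓ_preimage_basicOpen]
  rfl

theorem isoSpec_inv_appTop {V : Scheme.{u}} [IsAffine V] : V.isoSpec.inv.appTop = (Scheme.ΓSpecIso Γ(V, ⊤)).inv := by
  have h1 : V.isoSpec.inv.appTop ≫ V.isoSpec.hom.appTop = 𝟙 _ := by
    rw [← Scheme.Hom.comp_appTop, Iso.hom_inv_id, Scheme.Hom.id_appTop]
  have h2 : V.isoSpec.hom.appTop = (Scheme.ΓSpecIso Γ(V, ⊤)).hom := by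
    rw [Scheme.isoSpec_hom, Scheme.toSpecΓ_appTop]
  rw [h2] at h1
  rw [← cancel_mono (Scheme.ΓSpecIso Γ(V, ⊤)).hom, h1, Iso.inv_hom_id]

theorem appTop_eq {V : Scheme.{u}} [IsAffine V] (χ : Γ(V, ⊤) ⟶ Q) :
    (Spec.map χ ≫ V.isoSpec.inv).appTop = χ ≫ (Scheme.ΓSpecIso Q).inv := by
  rw [Scheme.Hom.comp_appTop, isoSpec_inv_appTop, Scheme.ΓSpecIso_inv_naturality]

theorem preimage_basicOpen_eq {V : Scheme.{u}} [IsAffine V] (χ : Γ(V, ⊤) ⟶ Q) (f : Γ(V, ⊤)) :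
    (Spec.map χ ≫ V.isoSpec.inv) ⁻¹ᵁ V.basicOpen f = (PrimeSpectrum.basicOpen (χ f) : (Spec Q).Opens) := by
  rw [Scheme.preimage_basicOpen_top, ← basicOpen_eq_of_affine, appTop_eq]
  rfl

end

/-- A finite cover of the range of a quasi-compact open immersion by basic opens. -/
theorem exists_basicOpen_cover {V V₁ : Scheme.{u}} [IsAffine V] (i : V₁ ⟶ V) [IsOpenImmersion i] [QuasiCompact i] :
    ∃ s : Finset Γ(V, ⊤), ∀ v : V, v ∈ Set.range i ↔ ∃ f ∈ s, v ∈ V.basicOpen f := by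
  have h1 : IsCompact (Set.range i) := by
    have : CompactSpace V₁ := by
      have := QuasiCompact.compactSpace_of_compactSpace i
      exact this
    exact isCompact_range i.continuous
  obtain ⟨s, hs, h⟩ := (isCompact_and_isOpen_iff_finite_and_eq_biUnion_basicOpen (X := V) (U := Set.range i)).1
    ⟨h1, i.isOpenEmbedding.isOpen_range⟩
  refine ⟨hs.toFinset, fun v => ?_⟩
  rw [h]
  simp

section

variable {V V₁ Y₁ : Scheme.{u}}

theorem basicOpen_eq (i : V₁ ⟶ V) (y₁ : Y₁ ⟶ V₁) (f : Γ(V, ⊤)) :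
    Y₁.basicOpen ((y₁ ≫ i).appTop f) = y₁ ⁻¹ᵁ i ⁻¹ᵁ V.basicOpen f := by
  rw [← Scheme.preimage_basicOpen_top]
  rfl

variable [IsAffine V] (i : V₁ ⟶ V) [IsOpenImmersion i] (y₁ : Y₁ ⟶ V₁) [IsAffineHom y₁]

theorem isAffineOpen_basicOpen (f : Γ(V, ⊤)) (hf : V.basicOpen f ≤ i.opensRange) :
    IsAffineOpen (Y₁.basicOpen ((y₁ ≫ i).appTop f)) := by
  rw [basicOpen_eq]
  refine IsAffineOpen.preimage ?_ y₁
  rw [← i.isAffineOpen_iff_of_isOpenImmersion]
  have h1 : i ''ᵁ i ⁻¹ᵁ V.basicOpen f = V.basicOpen f := by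
    rw [i.image_preimage_eq_opensRange_inf]
    exact inf_eq_right.2 hf
  rw [h1]
  exact (isAffineOpen_top V).basicOpen f

/-- Recognition of the pullback of an affine scheme over an open subscheme. -/
theorem isPullback_of_fIso [CompactSpace Y₁] [QuasiSeparatedSpace Y₁]
    (s : Finset Γ(V, ⊤)) (hs : ∀ v : V, v ∈ Set.range i ↔ ∃ f ∈ s, v ∈ V.basicOpen f)
    {Q : CommRingCat.{u}} (χ : Γ(V, ⊤) ⟶ Q) (ψ : Q ⟶ Γ(Y₁, ⊤)) (hψ : χ ≫ ψ = (y₁ ≫ i).appTop)
    (hloc : ∀ f ∈ s, FIso ψ.hom (χ f)) :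
    IsPullback (toSpec ψ) y₁ (Spec.map χ ≫ V.isoSpec.inv) i := by
  have hw : toSpec ψ ≫ Spec.map χ ≫ V.isoSpec.inv = y₁ ≫ i := by
    rw [toSpec_comp_assoc, hψ, toSpec_isoSpec_inv]
  have hle : ∀ f ∈ s, V.basicOpen f ≤ i.opensRange := fun f hf v hv => (hs v).2 ⟨f, hf, hv⟩
  have hψf : ∀ f : Γ(V, ⊤), ψ (χ f) = (y₁ ≫ i).appTop f := fun f => by
    rw [← hψ]; rfl
  -- the localization statement
  have key : ∀ f ∈ s, IsOpenImmersion ((Y₁.basicOpen (ψ (χ f))).ι ≫ toSpec ψ) ∧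
      Set.range ((Y₁.basicOpen (ψ (χ f))).ι ≫ toSpec ψ) = (PrimeSpectrum.basicOpen (χ f) : Set (PrimeSpectrum Q)) := by
    intro f hf
    have hD : IsAffineOpen (Y₁.basicOpen (ψ (χ f))) := by
      rw [hψf]
      exact isAffineOpen_basicOpen i y₁ f (hle f hf)
    have hl : IsLocalization.Away (ψ (χ f)) Γ(Y₁, Y₁.basicOpen (ψ (χ f))) :=
      isLocalization_basicOpen_of_qcqs isCompact_univ isQuasiSeparated_univ _
    let alg : Algebra Q Γ(Y₁, Y₁.basicOpen (ψ (χ f))) :=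
      (ψ ≫ Y₁.presheaf.map (homOfLE le_top).op).hom.toAlgebra
    have hl' : IsLocalization.Away (χ f) Γ(Y₁, Y₁.basicOpen (ψ (χ f))) :=
      (hloc f hf).isLocalization _ (fun x => rfl)
    have h1 : (Y₁.basicOpen (ψ (χ f))).ι ≫ toSpec ψ =
        hD.isoSpec.hom ≫ Spec.map (CommRingCat.ofHom (algebraMap Q Γ(Y₁, Y₁.basicOpen (ψ (χ f))))) := by
      rw [toSpec, ← Category.assoc, ← Scheme.Opens.toSpecΓ_SpecMap_presheaf_map_top, Category.assoc,
        ← Spec.map_comp]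
      rfl
    have h2 : IsOpenImmersion (Spec.map (CommRingCat.ofHom (algebraMap Q Γ(Y₁, Y₁.basicOpen (ψ (χ f)))))) :=
      .of_isLocalization (χ f)
    refine ⟨?_, ?_⟩
    · rw [h1]
      infer_instance
    · rw [h1]
      have h3 : Set.range (hD.isoSpec.hom ≫ Spec.map (CommRingCat.ofHom (algebraMap Q
          Γ(Y₁, Y₁.basicOpen (ψ (χ f)))))) =
          Set.range (Spec.map (CommRingCat.ofHom (algebraMap Q Γ(Y₁, Y₁.basicOpen (ψ (χ f)))))) := by
        rw [Scheme.Hom.comp_base, TopCat.coe_comp, Set.range_comp]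
        rw [Set.range_eq_univ.2 hD.isoSpec.hom.surjective, Set.image_univ]
      rw [h3]
      exact PrimeSpectrum.localization_away_comap_range _ _
  have hopen : IsOpenImmersion (toSpec ψ) := by
    refine IsZariskiLocalAtTarget.of_forall_source_exists_preimage _ fun x => ?_
    obtain ⟨f, hf, hxf⟩ := (hs (i (y₁ x))).1 ⟨_, rfl⟩
    refine ⟨(PrimeSpectrum.basicOpen (χ f) : (Spec Q).Opens), ?_, ?_⟩
    · change x ∈ toSpec ψ ⁻¹ᵁ (PrimeSpectrum.basicOpen (χ f) : (Spec Q).Opens)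
      rw [toSpec_basicOpen, hψf, basicOpen_eq]
      exact hxf
    · rw [toSpec_basicOpen]
      exact (key f hf).1
  refine (IsOpenImmersion.isPullback _ _ _ _ hw ?_).flip
  ext q
  constructor
  · intro hq
    obtain ⟨f, hf, hqf⟩ := (hs ((Spec.map χ ≫ V.isoSpec.inv) q)).1 hq
    have h1 : q ∈ (PrimeSpectrum.basicOpen (χ f) : (Spec Q).Opens) := by
      rw [← preimage_basicOpen_eq]
      exact hqf
    have h2 := (key f hf).2
    obtain ⟨x, hx⟩ := h2.symm.le (show q ∈ ((PrimeSpectrum.basicOpen (χ f)) : Set (PrimeSpectrum Q)) from h1)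
    exact ⟨(Y₁.basicOpen (ψ (χ f))).ι x, hx⟩
  · rintro ⟨x, rfl⟩
    change (toSpec ψ ≫ Spec.map χ ≫ V.isoSpec.inv) x ∈ i.opensRange
    rw [hw]
    exact ⟨_, rfl⟩

/-- Restriction of functions to an open containing the locus where `p` is invertible. -/
theorem fIso_of_isOpenImmersion {X X₁ : Scheme.{u}} [CompactSpace X] [QuasiSeparatedSpace X] [CompactSpace X₁]
    [QuasiSeparatedSpace X₁] (j : X₁ ⟶ X) [IsOpenImmersion j] (p : Γ(X, ⊤)) (hp : X.basicOpen p ≤ j.opensRange) :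
    FIso j.appTop.hom p := by
  have h1 : IsLocalization.Away p Γ(X, X.basicOpen p) :=
    isLocalization_basicOpen_of_qcqs isCompact_univ isQuasiSeparated_univ _
  have h2 : IsLocalization.Away (j.appTop.hom p) Γ(X₁, X₁.basicOpen (j.appTop.hom p)) :=
    isLocalization_basicOpen_of_qcqs isCompact_univ isQuasiSeparated_univ _
  have h3 : j ⁻¹ᵁ X.basicOpen p = X₁.basicOpen (j.appTop.hom p) := Scheme.preimage_basicOpen_top _ _
  have h4 : IsIso (j.app (X.basicOpen p)) := j.isIso_app _ hp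
  let e : Γ(X, X.basicOpen p) ⟶ Γ(X₁, X₁.basicOpen (j.appTop.hom p)) :=
    j.app (X.basicOpen p) ≫ X₁.presheaf.map (eqToHom h3.symm).op
  refine FIso.of_isLocalization Γ(X, X.basicOpen p) Γ(X₁, X₁.basicOpen (j.appTop.hom p)) e.hom
    (ConcreteCategory.bijective_of_isIso e) fun x => ?_
  have h5 : X.presheaf.map (homOfLE le_top).op ≫ e =
      j.appTop ≫ X₁.presheaf.map (homOfLE (le_top : X₁.basicOpen (j.appTop.hom p) ≤ ⊤)).op := by
    rw [← Category.assoc, Scheme.Hom.naturality, Category.assoc, ← Functor.map_comp]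
    rfl
  exact congrArg (fun z => z.hom x) h5

end

end K636.FpSch
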