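import Groth.Agent.AlgSp.K636.Adh
import Groth.Agent.AlgSp.K640.ElemDist
import Groth.Agent.AlgSp.K597.Affine
import Groth.Agent.AlgSp.K598.RepKit

/-!
# Gluing along elementary distinguished squares

* `exists_glue`: sheaves over `U` and `V` with an isomorphism over `U ×_W V` glue to a sheaf over `W`.
* `repWith_of_isElemDistSq`: representability (with a property) of a morphism to `W` can be checked over `U` and `V`.
-/

set_option autoImplicit false
universe u
open CategoryTheory CategoryTheory.Limits AlgebraicGeometry Opposite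
open AlgSp K594.Elem K597.EffDesc K597.Affine

namespace K636.GlueEd

variable {S : Scheme.{u}}

open Groth.Agent.AlgSp.K636.Adh

/-- Gluing of sheaves along an elementary distinguished square. -/
theorem exists_glue {U V W P : Sp S} (hV : IsAlgSpace V) {j : U ⟶ W} {f : V ⟶ W} (h : IsElemDistSq j f)
    {p : P ⟶ U} {q : P ⟶ V} (hP : IsPullback p q j f)
    {A B C : Sp S} {a : A ⟶ U} {b : B ⟶ V} {c : C ⟶ P} {r : C ⟶ A} {s : C ⟶ B}
    (hr : IsPullback r c a p) (hs : IsPullback s c b q) :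
    ∃ (E : Sp S) (e : E ⟶ W) (k : A ⟶ E) (l : B ⟶ E), IsPullback k a e j ∧ IsPullback l b e f ∧ IsPushout r s k l := by
  have hj : Mono j := K598.RepKit.mono_of_repWith_isOpenImmersion h.1 
  have hq : Mono q := MorphismProperty.of_isPullback (P := MorphismProperty.monomorphisms (Sp S)) hP hj
  have hs' : Mono s := MorphismProperty.of_isPullback (P := MorphismProperty.monomorphisms (Sp S)) hs.flip hq
  have H : IsPushout p q j f := K640.ElemDist.isPushout_of_isElemDistSq hV h hP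
  have hvk := Adhesive.van_kampen' H
  have w : r ≫ a ≫ j = s ≫ b ≫ f := by rw [← Category.assoc, hr.w, ← Category.assoc, hs.w, Category.assoc, hP.w, Category.assoc]
  let e : pushout r s ⟶ W := pushout.desc (a ≫ j) (b ≫ f) w
  have h1 := (hvk r s (pushout.inl r s) (pushout.inr r s) c a b e hr hs
    ⟨pushout.inl_desc _ _ _⟩ ⟨pushout.inr_desc _ _ _⟩ ⟨pushout.condition⟩).1 (IsPushout.of_hasPushout r s)
  exact ⟨_, e, _, _, h1.1, h1.2, IsPushout.of_hasPushout r s⟩

/-- The pullback of an elementary distinguished square is a pushout. -/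
theorem isPushout_of_isPullback {U V W P : Sp S} (hV : IsAlgSpace V) {j : U ⟶ W} {f : V ⟶ W} (h : IsElemDistSq j f)
    {p : P ⟶ U} {q : P ⟶ V} (hP : IsPullback p q j f)
    {A B C E : Sp S} {a : A ⟶ U} {b : B ⟶ V} {c : C ⟶ P} {e : E ⟶ W} {r : C ⟶ A} {s : C ⟶ B} {k : A ⟶ E} {l : B ⟶ E}
    (hk : IsPullback k a e j) (hl : IsPullback l b e f) (hr : IsPullback r c a p) (hs : s ≫ b = c ≫ q)
    (hw : r ≫ k = s ≫ l) : IsPushout r s k l ∧ IsPullback s c b q := by
  have hj : Mono j := K598.RepKit.mono_of_repWith_isOpenImmersion h.1 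
  have hq : Mono q := MorphismProperty.of_isPullback (P := MorphismProperty.monomorphisms (Sp S)) hP hj
  have H : IsPushout p q j f := K640.ElemDist.isPushout_of_isElemDistSq hV h hP
  have hvk := Adhesive.van_kampen' H
  have h1 : IsPullback (s ≫ l) c e (q ≫ f) := by
    rw [← hw, ← hP.w]
    exact hr.paste_horiz hk
  have h2 : IsPullback s c b q := IsPullback.of_right h1 hs hl
  exact ⟨(hvk r s k l c a b e hr h2 ⟨hk.w⟩ ⟨hl.w⟩ ⟨hw⟩).2 ⟨hk, hl⟩, h2⟩

/-- Etale locally, points of `W` come from `U` or `V`. -/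
theorem exists_etale_nbhd {U V W : Sp S} (hV : IsAlgSpace V) {j : U ⟶ W} {f : V ⟶ W} (h : IsElemDistSq j f)
    (R : Over S) (g : (yon S).obj R ⟶ W) (t : R.left) :
    ∃ (R' : Over S) (c : R' ⟶ R), IsAffine R'.left ∧ Etale c.left ∧ t ∈ Set.range c.left ∧
      ((∃ z : (yon S).obj R' ⟶ U, z ≫ j = (yon S).map c ≫ g) ∨ ∃ z : (yon S).obj R' ⟶ V, z ≫ f = (yon S).map c ≫ g) := by
  obtain ⟨hj, hf, T, P', i, p₁, p₂, ⟨hi, hrange, hred⟩, sq, hiso⟩ := h
  obtain ⟨V₀, q, hq, hqs⟩ := hV.atlas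
  have hqf := hf q hq
  obtain ⟨R₁, c₁, z₁, sq₁⟩ := hj.1 g
  obtain ⟨R₂, c₂, z₂, sq₂⟩ := hqf.1 g
  have h₁ : IsOpenImmersion c₁.left := hj.2 _ z₁ c₁ sq₁
  have h₂ : Etale c₂.left := hqf.2 _ z₂ c₂ sq₂
  by_cases ht : Points.ofPt g t ∈ Set.range (Points.map j)
  · obtain ⟨x, hx⟩ := ht
    obtain ⟨y, -, hy⟩ := K610.Base.exists_of_isPullback_yon sq₁ x t hx
    obtain ⟨R', v, hR', hv, ⟨s, hs⟩, -⟩ := exists_affine_nhd R₁ ⊤ y trivial
    refine ⟨R', v ≫ c₁, hR', ?_, ⟨s, ?_⟩, Or.inl ⟨(yon S).map v ≫ z₁, ?_⟩⟩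
    · rw [Over.comp_left]; infer_instance
    · rw [Over.comp_left, Scheme.Hom.comp_apply, hs, hy]
    · rw [Category.assoc, sq₁.w, Functor.map_comp, Category.assoc]
  · have ht' : Points.ofPt g t ∈ Set.range (Points.map i) := by rw [hrange]; exact ht
    obtain ⟨x, hx⟩ := ht'
    have h3 : Points.map f (Points.map p₂ (Points.map (inv p₁) x)) = Points.ofPt g t := by
      rw [← Points.map_comp, ← Points.map_comp, ← sq.w, IsIso.inv_hom_id_assoc, hx]
    obtain ⟨y, hy⟩ := K610.Base.surjective_points_of_repWith hqs (Points.map p₂ (Points.map (inv p₁) x))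
    obtain ⟨w, -, hw⟩ := K610.Base.exists_of_isPullback_yon sq₂ y t (by rw [Points.map_comp, hy, h3])
    obtain ⟨R', v, hR', hv, ⟨s, hs⟩, -⟩ := exists_affine_nhd R₂ ⊤ w trivial
    refine ⟨R', v ≫ c₂, hR', ?_, ⟨s, ?_⟩, Or.inr ⟨((yon S).map v ≫ z₂) ≫ q, ?_⟩⟩
    · rw [Over.comp_left]; infer_instance
    · rw [Over.comp_left, Scheme.Hom.comp_apply, hs, hw]
    · rw [Category.assoc, Category.assoc, sq₂.w, Functor.map_comp, Category.assoc]

/-- Representability of a morphism to `W` can be checked over `U` and `V`. -/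
theorem repWith_of_isElemDistSq (Q : MorphismProperty Scheme.{u}) [IsZariskiLocalAtTarget Q]
    [Q.DescendsAlong Fppf.{u}]
    (hQ : ∀ {X Y : Scheme.{u}} (f : X ⟶ Y), IsAffine Y → Q f → ∀ O : X.Opens, IsCompact (O : Set X) →
      (O : Scheme.{u}).IsQuasiAffine)
    {U V W : Sp S} (hV : IsAlgSpace V) {j : U ⟶ W} {f : V ⟶ W} (h : IsElemDistSq j f)
    {A B E : Sp S} {a : A ⟶ U} {b : B ⟶ V} {e : E ⟶ W} {k : A ⟶ E} {l : B ⟶ E}
    (hk : IsPullback k a e j) (hl : IsPullback l b e f) (ha : RepWith Q a) (hb : RepWith Q b) : RepWith Q e := by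
  refine repWith_of_etale_local Q fun R y t => ?_
  obtain ⟨R', c, hR', hc, ht, h1⟩ := exists_etale_nbhd hV h R (secEquiv.symm y) t
  have key : ∀ {A' U' : Sp S} {j' : U' ⟶ W} {a' : A' ⟶ U'} {k' : A' ⟶ E} (_ : IsPullback k' a' e j')
      (_ : RepWith Q a') (z : (yon S).obj R' ⟶ U') (_ : z ≫ j' = (yon S).map c ≫ secEquiv.symm y),
      ∃ (W' : Over S) (w : W' ⟶ R') (ξ : E.obj.obj (op W')), IsRep e (W.obj.map c.op y) w ξ ∧ Q w.left := by
    intro A' U' j' a' k' hk' ha' z hz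
    obtain ⟨W', w, fst, sq⟩ := ha'.1 z
    have hw : Q w.left := ha'.2 z fst w sq
    have sq' := isRep_of_isPullback (sq.paste_horiz hk')
    rw [hz, secEquiv_precomp, Equiv.apply_symm_apply] at sq'
    exact ⟨W', w, _, sq', hw⟩
  obtain ⟨W', w, ξ, h2, h3⟩ : ∃ (W' : Over S) (w : W' ⟶ R') (ξ : E.obj.obj (op W')),
      IsRep e (W.obj.map c.op y) w ξ ∧ Q w.left := by
    rcases h1 with ⟨z, hz⟩ | ⟨z, hz⟩
    · exact key hk ha z hz
    · exact key hl hb z hz
  exact ⟨R', c, W', w, ξ, hc, ht, h2, h3, hQ w.left hR' h3⟩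

/-- Affineness and finite presentation of a morphism to `W` can be checked over `U` and `V`. -/
theorem affine_lfp {U V W : Sp S} (hV : IsAlgSpace V) {j : U ⟶ W} {f : V ⟶ W} (h : IsElemDistSq j f)
    {A B E : Sp S} {a : A ⟶ U} {b : B ⟶ V} {e : E ⟶ W} {k : A ⟶ E} {l : B ⟶ E}
    (hk : IsPullback k a e j) (hl : IsPullback l b e f)
    (ha : RepWith (@IsAffineHom ⊓ @LocallyOfFinitePresentation) a)
    (hb : RepWith (@IsAffineHom ⊓ @LocallyOfFinitePresentation) b) :
    RepWith (@IsAffineHom ⊓ @LocallyOfFinitePresentation) e := by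
  have := descendsAlong_isAffineHom.{u}
  refine repWith_of_isElemDistSq _ (fun {X Y} f hY hf O hO => ?_) hV h hk hl ha hb
  have : IsAffineHom f := hf.1
  have : IsAffine X := isAffine_of_isAffineHom f
  exact isQuasiAffine_open O hO

end K636.GlueEd
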