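import Groth.Agent.AlgSp.K636.FlatRing
import Groth.Agent.AlgSp.K636.FpSch
import Mathlib.AlgebraicGeometry.Morphisms.Flat
import Mathlib.AlgebraicGeometry.ResidueField

/-!
# Etale local statements about functions on schemes
-/

set_option autoImplicit false
universe u

open CategoryTheory CategoryTheory.Limits AlgebraicGeometry TopologicalSpace

namespace K636.LocSch

theorem stalkMap_injective {Q Q' : Scheme.{u}} (r : Q' ⟶ Q) [Flat r] (t : Q') :
    Function.Injective (r.stalkMap t).hom := by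
  algebraize [(r.stalkMap t).hom]
  have : Module.FaithfullyFlat (Q.presheaf.stalk (r t)) (Q'.presheaf.stalk t) :=
    @Module.FaithfullyFlat.of_flat_of_isLocalHom _ _ _ _ _ _ _
      (Flat.stalkMap r t) (r.toLRSHom.prop t)
  exact FaithfulSMul.algebraMap_injective _ _

/-- A function that vanishes after pull back to a flat cover vanishes. -/
theorem eq_zero_of_local {Q : Scheme.{u}} (a : Γ(Q, ⊤))
    (h : ∀ t : Q, ∃ (Q' : Scheme.{u}) (r : Q' ⟶ Q), Flat r ∧ t ∈ Set.range r ∧ r.appTop.hom a = 0) : a = 0 := by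
  refine TopCat.Presheaf.section_ext Q.sheaf ⊤ a 0 fun t ht => ?_
  obtain ⟨Q', r, hr, ⟨t', rfl⟩, hra⟩ := h t
  apply stalkMap_injective r t'
  have h1 : (r.stalkMap t').hom (Q.presheaf.germ ⊤ (r t') trivial a) =
      (Q'.presheaf.germ ⊤ t' trivial).hom (r.appTop.hom a) :=
    congrArg (fun z => z.hom a) (Scheme.Hom.germ_stalkMap r ⊤ t' trivial)
  refine h1.trans ?_
  rw [hra, map_zero]
  exact (by rw [map_zero, map_zero] : (r.stalkMap t').hom (Q.presheaf.germ ⊤ (r t') trivial 0) = 0).symm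

theorem eq_top_of_local {R : Scheme.{u}} [IsAffine R] (I : Ideal Γ(R, ⊤))
    (h : ∀ t : R, ∃ (R' : Scheme.{u}) (r : R' ⟶ R), t ∈ Set.range r ∧ I.map r.appTop.hom = ⊤) : I = ⊤ := by
  by_contra hI
  obtain ⟨m, hm, hIm⟩ := I.exists_le_maximal hI
  let p : PrimeSpectrum Γ(R, ⊤) := ⟨m, hm.isPrime⟩
  let t : R := R.isoSpec.inv p
  obtain ⟨R', r, ⟨t', ht'⟩, hr⟩ := h t
  have key : ∀ f ∈ I, (R'.Γevaluation t').hom (r.appTop.hom f) = 0 := by
    intro f hf
    have h1 : t ∉ R.basicOpen f := by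
      have h2 : (Spec.map (𝟙 Γ(R, ⊤)) ≫ R.isoSpec.inv) ⁻¹ᵁ R.basicOpen f =
          (PrimeSpectrum.basicOpen f : (Spec Γ(R, ⊤)).Opens) := FpSch.preimage_basicOpen_eq (𝟙 _) f
      rw [Spec.map_id, Category.id_comp] at h2
      intro h3
      have h4 : p ∈ R.isoSpec.inv ⁻¹ᵁ R.basicOpen f := h3
      rw [h2] at h4
      exact h4 (hIm hf)
    have h5 : t' ∉ R'.basicOpen (r.appTop.hom f) := by
      have h6 : r ⁻¹ᵁ R.basicOpen f = R'.basicOpen (r.appTop.hom f) := Scheme.preimage_basicOpen_top _ _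
      rw [← h6]
      intro h7
      have h8 : r t' ∈ R.basicOpen f := h7
      rw [ht'] at h8
      exact h1 h8
    exact (R'.evaluation_eq_zero_iff_notMem_basicOpen t' (U := ⊤) trivial _).2 h5
  have h2 : I.map r.appTop.hom ≤ RingHom.ker (R'.Γevaluation t').hom :=
    Ideal.map_le_iff_le_comap.2 fun f hf => key f hf
  rw [hr] at h2
  have h3 : (R'.Γevaluation t').hom 1 = 0 := h2 trivial
  rw [map_one] at h3
  exact one_ne_zero h3

end K636.LocSch
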