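import Groth.Agent.AlgSp.K636.EdExt
import Groth.Agent.AlgSp.K636.FlatRing
import Groth.Agent.AlgSp.K636.LocSch
import Groth.Agent.AlgSp.K600.Basic

/-!
# Sections of `X ×_W R` that come from `E ×_W R`, for `X → E` over `W`
-/

set_option autoImplicit false
universe u
open CategoryTheory CategoryTheory.Limits AlgebraicGeometry Opposite
open AlgSp K598.RepKit

namespace K636.Im

variable {S : Scheme.{u}} {W X E E' : Sp S}

/-- the section `a` of `X ×_W R` comes from `E ×_W R` -/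
def InIm (e : E ⟶ W) (g : X ⟶ E) {R XR : Over S} (b : (yon S).obj R ⟶ W) (ξ : (yon S).obj XR ⟶ X) (xR : XR ⟶ R)
    (a : Γ(XR.left, ⊤)) : Prop :=
  ∃ (ER : Over S) (ε : (yon S).obj ER ⟶ E) (eR : ER ⟶ R) (h : XR ⟶ ER) (c : Γ(ER.left, ⊤)),
    IsPullback ε ((yon S).map eR) e b ∧ (yon S).map h ≫ ε = ξ ≫ g ∧ h ≫ eR = xR ∧ h.left.appTop.hom c = a

theorem appTop_comp {X Y Z : Scheme.{u}} (f : X ⟶ Y) (g : Y ⟶ Z) (c : Γ(Z, ⊤)) :
    (f ≫ g).appTop.hom c = f.appTop.hom (g.appTop.hom c) := by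
  rw [Scheme.Hom.comp_appTop]
  rfl

theorem inIm_iff {e : E ⟶ W} {g : X ⟶ E} {R XR : Over S} {b : (yon S).obj R ⟶ W} {ξ : (yon S).obj XR ⟶ X}
    {xR : XR ⟶ R} {a : Γ(XR.left, ⊤)} {ER : Over S} {ε : (yon S).obj ER ⟶ E} {eR : ER ⟶ R}
    (sq : IsPullback ε ((yon S).map eR) e b) {h : XR ⟶ ER} (h1 : (yon S).map h ≫ ε = ξ ≫ g) (h2 : h ≫ eR = xR) :
    InIm e g b ξ xR a ↔ ∃ c : Γ(ER.left, ⊤), h.left.appTop.hom c = a := by
  constructor
  · rintro ⟨ER', ε', eR', h', c, sq', h1', h2', hc⟩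
    obtain ⟨l, hl1, hl2⟩ := K600.Basic.exists_lift sq' ε eR sq.w
    refine ⟨l.left.appTop.hom c, ?_⟩
    have : h ≫ l = h' := K600.Basic.hom_ext sq' (by rw [Functor.map_comp, Category.assoc, hl1, h1, h1'])
      (by rw [Category.assoc, hl2, h2, h2'])
    rw [← hc, ← this, Over.comp_left, appTop_comp]
  · rintro ⟨c, hc⟩
    exact ⟨ER, ε, eR, h, c, sq, h1, h2, hc⟩

/-- existence of the comparison map -/
theorem exists_comp {e : E ⟶ W} (he : Representable e) {g : X ⟶ E} {x : X ⟶ W} (hg : g ≫ e = x) {R XR : Over S}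
    {b : (yon S).obj R ⟶ W} {ξ : (yon S).obj XR ⟶ X} {xR : XR ⟶ R} (hw : ξ ≫ x = (yon S).map xR ≫ b) :
    ∃ (ER : Over S) (ε : (yon S).obj ER ⟶ E) (eR : ER ⟶ R) (h : XR ⟶ ER),
      IsPullback ε ((yon S).map eR) e b ∧ (yon S).map h ≫ ε = ξ ≫ g ∧ h ≫ eR = xR := by
  obtain ⟨ER, eR, ε, sq⟩ := he b
  obtain ⟨h, h1, h2⟩ := K600.Basic.exists_lift sq (ξ ≫ g) xR (by rw [Category.assoc, hg, hw])
  exact ⟨ER, ε, eR, h, sq, h1, h2⟩

theorem InIm.mono {e : E ⟶ W} {g : X ⟶ E} {e' : E' ⟶ W} {g' : X ⟶ E'} (he' : Representable e') {x : X ⟶ W}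
    (hg' : g' ≫ e' = x) (φ : E' ⟶ E) (h1 : φ ≫ e = e') (h2 : g' ≫ φ = g) {R XR : Over S}
    {b : (yon S).obj R ⟶ W} {ξ : (yon S).obj XR ⟶ X} {xR : XR ⟶ R} (hw : ξ ≫ x = (yon S).map xR ≫ b)
    {a : Γ(XR.left, ⊤)} (H : InIm e g b ξ xR a) : InIm e' g' b ξ xR a := by
  obtain ⟨ER, ε, eR, h, c, sq, h3, h4, hc⟩ := H
  obtain ⟨ER', ε', eR', h', sq', h3', h4'⟩ := exists_comp he' hg' hw
  obtain ⟨l, hl1, hl2⟩ := K600.Basic.exists_lift sq (ε' ≫ φ) eR' (by rw [Category.assoc, h1, sq'.w])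
  refine (inIm_iff sq' h3' h4').2 ⟨l.left.appTop.hom c, ?_⟩
  have : h' ≫ l = h := K600.Basic.hom_ext sq
    (by rw [Functor.map_comp, Category.assoc, hl1, ← Category.assoc, h3', Category.assoc, h2, h3])
    (by rw [Category.assoc, hl2, h4', h4])
  rw [← hc, ← this, Over.comp_left, appTop_comp]

/-- base change to a smaller base -/
theorem InIm.precomp {e : E ⟶ W} (he : Representable e) {g : X ⟶ E} {x : X ⟶ W} (hg : g ≫ e = x) {R XR R' XR' : Over S}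
    {b : (yon S).obj R ⟶ W} {ξ : (yon S).obj XR ⟶ X} {xR : XR ⟶ R} {a : Γ(XR.left, ⊤)} (H : InIm e g b ξ xR a)
    (r : R' ⟶ R) (xR' : XR' ⟶ R') (rX : XR' ⟶ XR) (hr : rX ≫ xR = xR' ≫ r) (hw : ξ ≫ x = (yon S).map xR ≫ b) :
    InIm e g ((yon S).map r ≫ b) ((yon S).map rX ≫ ξ) xR' (rX.left.appTop.hom a) := by
  obtain ⟨ER, ε, eR, h, c, sq, h3, h4, hc⟩ := H
  have hw' : ((yon S).map rX ≫ ξ) ≫ x = (yon S).map xR' ≫ (yon S).map r ≫ b := by
    rw [Category.assoc, hw, ← Category.assoc, ← Category.assoc, ← Functor.map_comp, ← Functor.map_comp, hr]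
  obtain ⟨ER', ε', eR', h', sq', h3', h4'⟩ := exists_comp he hg hw'
  obtain ⟨l, hl1, hl2⟩ := K600.Basic.exists_lift sq ε' (eR' ≫ r) (by rw [sq'.w, Functor.map_comp, Category.assoc])
  refine (inIm_iff sq' h3' h4').2 ⟨l.left.appTop.hom c, ?_⟩
  have : h' ≫ l = rX ≫ h := K600.Basic.hom_ext sq
    (by rw [Functor.map_comp, Category.assoc, hl1, h3', Functor.map_comp, Category.assoc, Category.assoc, h3])
    (by rw [Category.assoc, hl2, ← Category.assoc, h4', Category.assoc, h4, hr])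
  rw [← hc, ← appTop_comp, ← appTop_comp, ← Over.comp_left, ← Over.comp_left, this]

/-- the version with prescribed maps -/
theorem InIm.precomp' {e : E ⟶ W} (he : Representable e) {g : X ⟶ E} {x : X ⟶ W} (hg : g ≫ e = x) {R XR R' XR' : Over S}
    {b : (yon S).obj R ⟶ W} {ξ : (yon S).obj XR ⟶ X} {xR : XR ⟶ R} {a : Γ(XR.left, ⊤)} (H : InIm e g b ξ xR a)
    (hw : ξ ≫ x = (yon S).map xR ≫ b)
    {b' : (yon S).obj R' ⟶ W} {ξ' : (yon S).obj XR' ⟶ X} {xR' : XR' ⟶ R'}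
    (r : R' ⟶ R) (rX : XR' ⟶ XR) (hr : rX ≫ xR = xR' ≫ r) (hb : (yon S).map r ≫ b = b')
    (hξ : (yon S).map rX ≫ ξ = ξ') {a' : Γ(XR'.left, ⊤)} (ha : rX.left.appTop.hom a = a') :
    InIm e g b' ξ' xR' a' := by
  subst hb hξ ha
  exact H.precomp he hg r xR' rX hr hw

/-- passing from an open subspace of the base to the base -/
theorem InIm.factor {W₁ E₁ X₁ : Sp S} {j : W₁ ⟶ W} {e : E ⟶ W} {e₁ : E₁ ⟶ W₁} {k : E₁ ⟶ E} (sqE : IsPullback k e₁ e j)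
    {g : X ⟶ E} {g₁ : X₁ ⟶ E₁} {kX : X₁ ⟶ X} (hk : kX ≫ g = g₁ ≫ k) {R XR : Over S} {b₁ : (yon S).obj R ⟶ W₁}
    {ξ₁ : (yon S).obj XR ⟶ X₁} {xR : XR ⟶ R} {a : Γ(XR.left, ⊤)} (H : InIm e₁ g₁ b₁ ξ₁ xR a) :
    InIm e g (b₁ ≫ j) (ξ₁ ≫ kX) xR a := by
  obtain ⟨ER, ε, eR, h, c, sq, h3, h4, hc⟩ := H
  refine ⟨ER, ε ≫ k, eR, h, c, sq.paste_horiz sqE, ?_, h4, hc⟩
  rw [← Category.assoc, h3, Category.assoc, Category.assoc, hk]

section ring

/-- the sections that come from `E` form a subring -/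
theorem exists_subring {e : E ⟶ W} (he : Representable e) {g : X ⟶ E} {x : X ⟶ W} (hg : g ≫ e = x) {R XR : Over S}
    {b : (yon S).obj R ⟶ W} {ξ : (yon S).obj XR ⟶ X} {xR : XR ⟶ R} (hw : ξ ≫ x = (yon S).map xR ≫ b) :
    ∃ B : Subring Γ(XR.left, ⊤), (∀ a, a ∈ B ↔ InIm e g b ξ xR a) ∧ ∀ s, xR.left.appTop.hom s ∈ B := by
  obtain ⟨ER, ε, eR, h, sq, h3, h4⟩ := exists_comp he hg hw
  refine ⟨h.left.appTop.hom.range, fun a => (inIm_iff sq h3 h4).symm, fun s => ⟨eR.left.appTop.hom s, ?_⟩⟩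
  rw [← appTop_comp, ← Over.comp_left, h4]

/-- For `R' → T` with everything affine, a section over `X_{R'}` comes from `E` as soon as finitely many sections
over `X_T` come from `E`. -/
theorem exists_gen {x : X ⟶ W} {T XT R' XR' : Over S} (hT : IsAffine T.left) (hXT : IsAffine XT.left)
    (hR' : IsAffine R'.left) {f : (yon S).obj T ⟶ W}
    {ξ : (yon S).obj XT ⟶ X} {xT : XT ⟶ T} (sq : IsPullback ξ ((yon S).map xT) x f)
    (z : R' ⟶ T) {ξ' : (yon S).obj XR' ⟶ X} {x' : XR' ⟶ R'}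
    (sq' : IsPullback ξ' ((yon S).map x') x ((yon S).map z ≫ f)) (a' : Γ(XR'.left, ⊤)) :
    ∃ F : Finset Γ(XT.left, ⊤), ∀ {E : Sp S} (e : E ⟶ W) (_ : Representable e) (g : X ⟶ E) (_ : g ≫ e = x),
      (∀ m ∈ F, InIm e g f ξ xT m) → InIm e g ((yon S).map z ≫ f) ξ' x' a' := by
  obtain ⟨ψ, h1, h2⟩ := exists_isPullback_of_comp sq sq'
  have hpo := isPushout_appTop_of_isPullback (forget_isPullback h2)
  obtain ⟨F, hF⟩ := FlatRing.exists_finset hpo a'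
  refine ⟨F, fun e he g hg H => ?_⟩
  obtain ⟨B, hB, hB'⟩ := exists_subring he hg sq'.w
  rw [← hB]
  refine hF B hB' fun m hm => ?_
  rw [hB]
  exact (H m hm).precomp' he hg sq.w z ψ h2.w rfl h1 rfl

/-- Coming from `E` is local on `R` for the flat topology. -/
theorem InIm.of_local {e : E ⟶ W} (he : RepWith @IsAffineHom e) {g : X ⟶ E} {x : X ⟶ W} (hg : g ≫ e = x) {R XR : Over S}
    (hR : IsAffine R.left) (hXR : IsAffine XR.left) {b : (yon S).obj R ⟶ W} {ξ : (yon S).obj XR ⟶ X} {xR : XR ⟶ R}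
    (hw : ξ ≫ x = (yon S).map xR ≫ b) {a : Γ(XR.left, ⊤)}
    (H : ∀ t : R.left, ∃ (R' XR' : Over S) (r : R' ⟶ R) (xR' : XR' ⟶ R') (rX : XR' ⟶ XR), IsAffine R'.left ∧
      Flat r.left ∧ t ∈ Set.range r.left ∧ IsPullback rX xR' xR r ∧
      InIm e g ((yon S).map r ≫ b) ((yon S).map rX ≫ ξ) xR' (rX.left.appTop.hom a)) : InIm e g b ξ xR a := by
  obtain ⟨ER, ε, eR, h, sq, h3, h4⟩ := exists_comp he.1 hg hw
  have h5 : IsAffineHom eR.left := he.2 _ _ _ sq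
  have hER : IsAffine ER.left := isAffine_of_isAffineHom eR.left
  rw [inIm_iff sq h3 h4]
  have key : FlatRing.cond eR.left.appTop.hom h.left.appTop.hom a = ⊤ := by
    refine LocSch.eq_top_of_local _ fun t => ?_
    obtain ⟨R', XR', r, xR', rX, hR', hr, ht, sqX, hI⟩ := H t
    refine ⟨R'.left, r.left, ht, ?_⟩
    obtain ⟨ER', ε', eR', h', c, sq', h3', h4', hc⟩ := hI
    obtain ⟨ψ, hψ, sqE⟩ := exists_isPullback_of_comp sq sq'
    have hpA := isPushout_appTop_of_isPullback (forget_isPullback sqE)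
    have hpB := isPushout_appTop_of_isPullback (forget_isPullback sqX)
    have e1 : h' ≫ ψ = rX ≫ h := K600.Basic.hom_ext sq
      (by rw [Functor.map_comp, Category.assoc, hψ, h3', Functor.map_comp, Category.assoc, Category.assoc, h3])
      (by rw [Category.assoc, sqE.w, ← Category.assoc, h4', Category.assoc, h4, sqX.w])
    refine FlatRing.conductor hpA hpB ?_ ?_ ?_ ?_ a c hc
    · exact (HasRingHomProperty.iff_of_isAffine (P := @Flat)).1 hr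
    · rw [← Scheme.Hom.comp_appTop, ← Over.comp_left, h4]
    · rw [← Scheme.Hom.comp_appTop, ← Over.comp_left, h4']
    · rw [← Scheme.Hom.comp_appTop, ← Scheme.Hom.comp_appTop, ← Over.comp_left, ← Over.comp_left, e1]
  have h1 : (1 : Γ(R.left, ⊤)) ∈ FlatRing.cond eR.left.appTop.hom h.left.appTop.hom a := by
    rw [key]; trivial
  rw [FlatRing.mem_cond, map_one, map_one, one_mul] at h1
  exact h1

end ring

end K636.Im
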