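import Mathlib.AlgebraicGeometry.ZariskisMainTheorem

/-!
# An open subscheme of a scheme integral over the base, locally of finite type over the base, is locally
quasi-finite
-/

set_option autoImplicit false
universe u

open CategoryTheory CategoryTheory.Limits AlgebraicGeometry Opposite

namespace K636.IntLqf

theorem lqf_of_open_integral {W N V : Scheme.{u}} (j : W ⟶ N) [IsOpenImmersion j] (n : N ⟶ V) [IsIntegralHom n]
    [LocallyOfFiniteType (j ≫ n)] : LocallyQuasiFinite (j ≫ n) := by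
  rw [HasRingHomProperty.iff_exists_appLE (P := @LocallyQuasiFinite)
    (RingHom.QuasiFinite.stableUnderComposition.stableUnderCompositionWithLocalizationAway
      RingHom.QuasiFinite.holdsForLocalizationAway).1]
  intro x
  obtain ⟨_, ⟨U, hU, rfl⟩, hxU, -⟩ := V.isBasis_affineOpens.exists_subset_of_mem_open
      (Set.mem_univ ((j ≫ n) x)) isOpen_univ
  have hN : IsAffineOpen (n ⁻¹ᵁ U) := hU.preimage n
  obtain ⟨r, hr, hxr⟩ := hN.exists_basicOpen_le (V := j.opensRange ⊓ n ⁻¹ᵁ U) ⟨j x, ⟨⟨x, rfl⟩, by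
    simpa using hxU⟩⟩ (by simpa using hxU)
  have hr' : N.basicOpen r ≤ j.opensRange := hr.trans inf_le_left
  have hA : IsAffineOpen (j ⁻¹ᵁ N.basicOpen r) := (hN.basicOpen r).preimage_of_isOpenImmersion j hr'
  have H : j ⁻¹ᵁ N.basicOpen r ≤ (j ≫ n) ⁻¹ᵁ U := by
    rw [Scheme.Hom.comp_preimage]
    exact j.preimage_mono (N.basicOpen_le _)
  refine ⟨⟨U, hU⟩, ⟨_, hA⟩, hxr, H, ?_⟩
  have H' : n.appLE U (N.basicOpen r) (N.basicOpen_le _) ≫ j.app _ = (j ≫ n).appLE U _ H := by
    simp only [Scheme.Hom.app_eq_appLE]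
    exact Scheme.Hom.appLE_comp_appLE _ _ _ _ _ _ _
  have hiso : IsIso (j.app (N.basicOpen r)) := j.isIso_app _ hr'
  have h1 : ((j ≫ n).appLE U _ H).hom.FiniteType := Scheme.Hom.finiteType_appLE _ hU hA H
  rw [← H', CommRingCat.hom_comp, RingHom.finiteType_respectsIso.cancel_right_isIso] at h1
  rw [← H', CommRingCat.hom_comp, RingHom.QuasiFinite.respectsIso.cancel_right_isIso]
  exact .of_isIntegral_of_finiteType (IsIntegralHom.isIntegral_app n _ hU)
    ⟨r, hN.isLocalization_basicOpen _⟩ h1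

end K636.IntLqf
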