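import Groth.Agent.AlgSp.K642.PbFun
import Mathlib.CategoryTheory.Filtered.Final
import Mathlib.CategoryTheory.Limits.Final

/-!
# Pulling back a cofiltered limit along a morphism to one of its terms
-/

set_option autoImplicit false
universe v u v' u'

open CategoryTheory CategoryTheory.Limits

namespace K636.LimPb

open K642.PbFun

variable {C : Type u} [Category.{v} C] [HasPullbacks C] {I : Type u'} [Category.{v'} I]
  {D : I ⥤ C} (i : I) {M : C} (m : M ⟶ D.obj i)

/-- The system `D j ×_{D i} M` over `j ⟶ i`. -/
noncomputable def E : Over i ⥤ C :=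
  pbF (D := Over.forget i ⋙ D) (Z := D.obj i) (fun j => D.map j.hom) (fun j k g => by
    change D.map g.left ≫ D.map k.hom = D.map j.hom
    rw [← D.map_comp, Over.w g]) m

noncomputable def fst (j : Over i) : (E i m).obj j ⟶ D.obj j.left := pullback.fst (D.map j.hom) m

noncomputable def snd (j : Over i) : (E i m).obj j ⟶ M := pullback.snd (D.map j.hom) m

theorem isPullback (j : Over i) : IsPullback (fst i m j) (snd i m j) (D.map j.hom) m :=
  IsPullback.of_hasPullback _ _

@[reassoc]
theorem map_fst {j k : Over i} (g : j ⟶ k) : (E i m).map g ≫ fst i m k = fst i m j ≫ D.map g.left :=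
  pullback.lift_fst _ _ _

@[reassoc]
theorem map_snd {j k : Over i} (g : j ⟶ k) : (E i m).map g ≫ snd i m k = snd i m j :=
  pullback.lift_snd _ _ _

theorem isPullback_map {j k : Over i} (g : j ⟶ k) :
    IsPullback (fst i m j) ((E i m).map g) (D.map g.left) (fst i m k) := by
  refine (IsPullback.of_right ?_ (map_fst i m g).symm.symm (isPullback i m k).flip).flip
  rw [map_snd, ← D.map_comp, Over.w g]
  exact (isPullback i m j).flip

variable {c : Cone D} {N : C} {a : N ⟶ c.pt} {b : N ⟶ M} (sq : IsPullback a b (c.π.app i) m)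

noncomputable def proj (j : Over i) : N ⟶ (E i m).obj j :=
  (isPullback i m j).lift (a ≫ c.π.app j.left) b (by rw [Category.assoc, c.w, sq.w])

@[reassoc]
theorem proj_fst (j : Over i) : proj i m sq j ≫ fst i m j = a ≫ c.π.app j.left := IsPullback.lift_fst _ _ _ _

@[reassoc]
theorem proj_snd (j : Over i) : proj i m sq j ≫ snd i m j = b := IsPullback.lift_snd _ _ _ _

theorem isPullback_proj (j : Over i) : IsPullback a (proj i m sq j) (c.π.app j.left) (fst i m j) := by
  refine (IsPullback.of_right ?_ (proj_fst i m sq j) (isPullback i m j).flip).flip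
  rw [proj_snd, c.w]
  exact sq.flip

/-- The cone with point `N`. -/
noncomputable def cone : Cone (E i m) where
  pt := N
  π :=
    { app := proj i m sq
      naturality := fun j k g => by
        change 𝟙 N ≫ proj i m sq k = proj i m sq j ≫ (E i m).map g
        rw [Category.id_comp]
        refine (isPullback i m k).hom_ext ?_ ?_
        · rw [proj_fst, Category.assoc, map_fst, proj_fst_assoc, c.w]
        · rw [proj_snd, Category.assoc, map_snd, proj_snd] }

theorem cone_pt : (cone i m sq).pt = N := rfl

theorem cone_π_app (j : Over i) : (cone i m sq).π.app j = proj i m sq j := rfl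

/-- The pulled back cone is a limit. -/
noncomputable def isLimit [IsCofiltered I] (hc : IsLimit c) : IsLimit (cone i m sq) := by
  have hc' : IsLimit (c.whisker (Over.forget i)) := (Functor.Initial.isLimitWhiskerEquiv (Over.forget i) c).symm hc
  have key : ∀ t : Cone (E i m), ∃ l : t.pt ⟶ N, (∀ j, l ≫ proj i m sq j = t.π.app j) := by
    intro t
    let t' : Cone (Over.forget i ⋙ D) :=
      { pt := t.pt
        π :=
          { app := fun j => t.π.app j ≫ fst i m j
            naturality := fun j k g => by
              change 𝟙 t.pt ≫ t.π.app k ≫ fst i m k = (t.π.app j ≫ fst i m j) ≫ D.map g.left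
              rw [Category.id_comp, Category.assoc, ← map_fst, ← Category.assoc, t.w] } }
    have h1 : ∀ j, hc'.lift t' ≫ c.π.app j.left = t.π.app j ≫ fst i m j := fun j => hc'.fac t' j
    have h2 : ∀ j, t.π.app j ≫ snd i m j = t.π.app (Over.mk (𝟙 i)) ≫ snd i m (Over.mk (𝟙 i)) := fun j => by
      rw [← t.w (Over.homMk j.hom : j ⟶ Over.mk (𝟙 i)), Category.assoc, map_snd]
    have h3 : hc'.lift t' ≫ c.π.app i = (t.π.app (Over.mk (𝟙 i)) ≫ snd i m (Over.mk (𝟙 i))) ≫ m := by
      have := h1 (Over.mk (𝟙 i))
      change _ ≫ c.π.app i = _ at this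
      rw [this, Category.assoc, ← (isPullback i m (Over.mk (𝟙 i))).w]
      change _ = _ ≫ _ ≫ D.map (𝟙 i)
      rw [D.map_id, Category.comp_id]
    refine ⟨sq.lift _ _ h3, fun j => (isPullback i m j).hom_ext ?_ ?_⟩
    · rw [Category.assoc, proj_fst, ← Category.assoc, sq.lift_fst, h1]
    · rw [Category.assoc, proj_snd, sq.lift_snd]
      exact (h2 j).symm
  refine IsLimit.mk (fun t => (key t).choose) (fun t j => (key t).choose_spec j) fun t l hl => ?_
  have huniq : ∀ (x y : t.pt ⟶ N), (∀ j, x ≫ proj i m sq j = y ≫ proj i m sq j) → x = y := by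
    intro x y h
    refine sq.hom_ext (hc'.hom_ext fun j => ?_) ?_
    · change (x ≫ a) ≫ c.π.app j.left = (y ≫ a) ≫ c.π.app j.left
      rw [Category.assoc, Category.assoc, ← proj_fst i m sq j, ← Category.assoc, ← Category.assoc, h]
    · have h1 := proj_snd i m sq (Over.mk (𝟙 i))
      calc x ≫ b = x ≫ proj i m sq (Over.mk (𝟙 i)) ≫ snd i m _ := by rw [h1]
        _ = y ≫ proj i m sq (Over.mk (𝟙 i)) ≫ snd i m _ := by
          rw [← Category.assoc, h, Category.assoc]
        _ = y ≫ b := by rw [h1]
  exact huniq l _ fun j => (hl j).trans ((key t).choose_spec j).symm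

end K636.LimPb
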