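import Groth.Agent.AlgSp.K636.NormSplit
import Groth.Agent.AlgSp.K636.QfLocus
import Groth.Agent.AlgSp.K636.IntLqf
import Groth.Agent.AlgSp.K621.Base
import Groth.Agent.AlgSp.K597.LocP
import Groth.Agent.AlgSp.K597.EtLoc
import Groth.Agent.AlgSp.K610.OpenImm
import Groth.Agent.AlgSp.K595.DiagRel
import Groth.Agent.S10677
import Groth.Agent.S9922
import Groth.Agent.AlgSp.K610.EtaleMor
import Groth.Agent.S10297

/-!
# The relative normalization near a quasi-finite point
-/

set_option autoImplicit false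
universe u

open CategoryTheory CategoryTheory.Limits AlgebraicGeometry Opposite

namespace K636.NormLocal

open AlgSp K636.Decomp K636.Where K636.NormSplit K636.QfLocus

variable {S : Scheme.{u}}

theorem isFiniteMor_of_isPullback {F G F' G' : Sp S} {f : F ⟶ G} {g : G' ⟶ G} {fst : F' ⟶ F} {f' : F' ⟶ G'}
    (sq : IsPullback fst f' f g) (hf : IsFiniteMor f) : IsFiniteMor f' := by
  intro Z hZ z
  obtain ⟨W, i, a, sq', hW, hi⟩ := hf hZ (z ≫ g)
  refine ⟨W, i, sq.lift a ((yon S).map i ≫ z) (by rw [sq'.w, Category.assoc]), ?_, hW, hi⟩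
  refine IsPullback.of_right (t := sq) ?_ (sq.lift_snd _ _ _)
  rw [sq.lift_fst]
  exact sq'

/-- A separated morphism is quasi-separated. -/
theorem isQuasiSeparatedMor_of_sep {F G : Sp S} {f : F ⟶ G} (h : IsSeparatedMor f) : IsQuasiSeparatedMor f :=
  K609.Points.repWith_mono (fun _ h => by have := h; infer_instance) h

/-- Étale locally on `Y'` around the image of a quasi-finite point the map `X ⟶ Y'` is an isomorphism. -/
theorem exists_local {X Y Y' : Space S} (f : X ⟶ Y) (ν : Y' ⟶ Y) (f' : X ⟶ Y')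
    (hf1 : AlgSp.IsFiniteTypeMor f.hom) (hf2 : AlgSp.IsSeparatedMor f.hom)
    (hn : AlgSp.IsRelNormalization f.hom ν.hom f'.hom) (x : Points X.obj) (hx : x ∈ qfSet f) :
    ∃ (V₁ A : Space S) (q : V₁ ⟶ Y') (α : A ⟶ X) (s : A ⟶ V₁), IsEtaleMor q.hom ∧ IsIso s.hom ∧
      IsPullback α.hom s.hom f'.hom q.hom ∧ Points.map f'.hom x ∈ Set.range (Points.map q.hom) := by
  obtain ⟨U, a, u₀, ha, hu₀, H⟩ := Groth.Agent.S10677.result f x hf1.1 hf2 hx
  obtain ⟨P, prX, prU, sqP⟩ := exists_isPullback f a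
  obtain ⟨V, jV, hjV, hjV', hfin, v, hv, hv'⟩ := H P prX prU sqP
  -- an affine chart of `U`
  obtain ⟨T₁, c₁, t₁, hc₁, ht₁⟩ := K621.Base.exists_chart U.property u₀
  obtain ⟨O, hO, -, hT⟩ := K621.Base.exists_affine_openChart t₁ ⊤ trivial
  let T : Over S := K621.Base.openChart T₁ O
  let TT : Space S := ⟨(yon S).obj T, IsAlgSpace.yon_obj _⟩
  let c : TT ⟶ U := ObjectProperty.homMk ((yon S).map (K621.Base.openChartι T₁ O) ≫ c₁)
  have hc : RepWith @Etale c.hom := K621.Base.repWith_openChart hc₁ O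
  have hc' : IsEtaleMor c.hom := fun Z φ hφ => (RepWith @Etale).comp_mem _ _ hφ hc
  let t : Points TT.obj := Points.ofScheme T (show ↥T.left from ⟨t₁, hO⟩)
  have ht : Points.map c.hom t = u₀ := by
    have h1 := K621.Base.ofPt_openChart c₁ O ⟨t₁, hO⟩
    rw [Points.ofPt_eq_map_ofScheme] at h1
    exact h1.trans ht₁
  -- base change to `T`
  obtain ⟨PT, b, g, sqT⟩ := exists_isPullback prU c
  obtain ⟨VT, bV, jT, sqV⟩ := exists_isPullback jV b
  have hjT : RepWith @IsOpenImmersion jT.hom := MorphismProperty.of_isPullback (P := RepWith _) sqV hjV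
  have hjT' : RepWith @IsClosedImmersion jT.hom := MorphismProperty.of_isPullback (P := RepWith _) sqV hjV'
  have hfinT : IsFiniteMor (jT ≫ g).hom := isFiniteMor_of_isPullback (sqV.paste_vert sqT) hfin
  have sqX : IsPullback (b ≫ prX).hom g.hom f.hom (c ≫ a).hom := (sqT.flip.paste_vert sqP.flip).flip
  -- the point
  obtain ⟨vT, hvT, hvT'⟩ := K609.Points.exists_of_isPullback (sqV.paste_vert sqT) v t (by
    rw [ht]; exact hv')
  -- the normalization over `T`
  obtain ⟨N, bN, νT, sqN⟩ := exists_isPullback ν (c ≫ a)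
  have hN : IsAlgSpace N.obj := N.property
  let fT : PT ⟶ N := ObjectProperty.homMk (sqN.lift ((b ≫ prX).hom ≫ f'.hom) g.hom (by
    rw [Category.assoc, hn.1]; exact sqX.w))
  have hfT1 : fT.hom ≫ bN.hom = (b ≫ prX).hom ≫ f'.hom := sqN.lift_fst _ _ _
  have hfT2 : fT.hom ≫ νT.hom = g.hom := sqN.lift_snd _ _ _
  have hca : IsEtaleMor (c ≫ a).hom := fun Z φ hφ => by
    change RepWith @Etale (φ ≫ c.hom ≫ a.hom)
    rw [← Category.assoc]
    exact ha _ (hc' φ hφ)
  have hnT : IsRelNormalization g.hom νT.hom fT.hom :=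
    Groth.Agent.S10297.result f hf1.2 (isQuasiSeparatedMor_of_sep hf2) ν f' hn (c ≫ a) hca (b ≫ prX) g sqX bN νT sqN
      fT (by ext1; exact hfT2) (by ext1; exact hfT1)
  -- splitting
  have hcl : IsClosed (Set.range (Points.map jT.hom)) := by
    have h1 : RepWith @UniversallyClosed jT.hom :=
      K609.Points.repWith_mono (fun _ h => by have := h; infer_instance) hjT'
    exact (K636.Basic.of_univSp ((Groth.Agent.S9922.result jT h1.1).1 h1) : IsClosedMap _).isClosed_range
  obtain ⟨W, jW, hdec⟩ := exists_compl jT hjT hcl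
  obtain ⟨D, d₁, d₂, δ, hD, hd, hδ, e₁, e₂⟩ := exists_D (T := T) (jT ≫ g).hom hfinT
  obtain ⟨V₁, k, s, hV₁, hk, hs, sqk⟩ := norm_split hnT PT.property TT.property hN hdec hD hd hδ e₁ e₂
  -- `P_T = X ×_{Y'} N`
  have sqPN : IsPullback (b ≫ prX).hom fT.hom f'.hom bN.hom := by
    refine IsPullback.of_bot (t := sqN) ?_ hfT1.symm
    rw [hfT2, hn.1]
    exact sqX
  have hbN : IsEtaleMor bN.hom := K610.EtaleMor.isEtaleMor_baseChange TT.property N.property Y'.property sqN hca
  refine ⟨⟨V₁, hV₁⟩, VT, ObjectProperty.homMk (k ≫ bN.hom), jT ≫ b ≫ prX, ObjectProperty.homMk s, ?_, hs, ?_, ?_⟩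
  · intro Z φ hφ
    change RepWith @Etale (φ ≫ k ≫ bN.hom)
    rw [← Category.assoc]
    exact hbN _ (isEtaleMor_of_repWith_open hk φ hφ)
  · exact (sqk.flip.paste_vert sqPN.flip).flip
  · refine ⟨Points.map s vT, ?_⟩
    change Points.map (k ≫ bN.hom) _ = _
    rw [← Points.map_comp, ← Category.assoc, ← sqk.w, Category.assoc, hfT1, ← hv, ← hvT]
    rw [← Points.map_comp, ← Points.map_comp]
    congr 1
    change jT.hom ≫ (b.hom ≫ prX.hom) ≫ f'.hom = (bV.hom ≫ jV.hom ≫ prX.hom) ≫ f'.hom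
    simp only [← Category.assoc, sqV.w]

end K636.NormLocal
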