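import Groth.Agent.AlgSp.K636.NormLocal
import Groth.Agent.AlgSp.K629.Basic
import Groth.Agent.S10267
import Groth.Agent.AlgSp.K596.QC2

/-!
# The open part of the relative normalization
-/

set_option autoImplicit false
universe u

open CategoryTheory CategoryTheory.Limits AlgebraicGeometry Opposite

namespace K636.NormOpen

open AlgSp K636.Decomp K636.Where K636.NormSplit K636.QfLocus K636.NormLocal

variable {S : Scheme.{u}}

/-- An open subspace of an integral space over `Y` which is locally of finite type over `Y` is locally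
quasi-finite over `Y`. -/
theorem repWith_lqf {U' Y' Y : Space S} (j : U' ⟶ Y') (hj : RepWith @IsOpenImmersion j.hom) (ν : Y' ⟶ Y)
    (hν : IsIntegralMor ν.hom) (hl : LocP @LocallyOfFiniteType (j ≫ ν).hom) :
    RepWith (@LocallyQuasiFinite ⊓ @LocallyOfFiniteType) (j ≫ ν).hom := by
  have hνr := (Groth.Agent.S10267.result ν).1.1 hν
  have hr : Representable (j ≫ ν).hom := MorphismProperty.comp_mem _ _ _ hj.1 hνr.1
  have hl' : RepWith @LocallyOfFiniteType (j ≫ ν).hom := K597.repWith_of_locP K597.etLoc_lft Y.property.hasAtlas hr hl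
  have hst : (@LocallyQuasiFinite ⊓ @LocallyOfFiniteType : MorphismProperty Scheme.{u}).IsStableUnderBaseChange :=
    K597.stableBC_inf _ _
  refine K629.Basic.repWith_of_exists fun T g => ?_
  obtain ⟨N₀, n, a, sqN⟩ := hνr.1 g
  have hn : IsIntegralHom n.left := hνr.2 g a n sqN
  obtain ⟨W, w, b, sqW⟩ := hj.1 a
  have hw : IsOpenImmersion w.left := hj.2 a b w sqW
  have sq : IsPullback b ((yon S).map (w ≫ n)) (j ≫ ν).hom g := by
    rw [Functor.map_comp]
    exact (sqW.flip.paste_horiz sqN.flip).flip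
  have h1 : LocallyOfFiniteType (w.left ≫ n.left) := hl'.2 g b (w ≫ n) sq
  have h2 : LocallyQuasiFinite (w.left ≫ n.left) := K636.IntLqf.lqf_of_open_integral w.left n.left
  exact ⟨W, b, w ≫ n, sq, h2, h1⟩

theorem exists_open {X Y Y' : Space S} (f : X ⟶ Y) (ν : Y' ⟶ Y) (f' : X ⟶ Y')
    (hf1 : AlgSp.IsFiniteTypeMor f.hom) (hf2 : AlgSp.IsSeparatedMor f.hom)
    (hn : AlgSp.IsRelNormalization f.hom ν.hom f'.hom) :
    ∃ (U' : AlgSp.Space S) (j : U' ⟶ Y'), AlgSp.RepWith @IsOpenImmersion j.hom ∧
      ∀ (P : AlgSp.Space S) (fst : P ⟶ X) (snd : P ⟶ U'), IsPullback fst.hom snd.hom f'.hom j.hom →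
        IsIso snd.hom ∧ Set.range (AlgSp.Points.map fst.hom) = qfSet f := by
  choose V A q α s hq hs sq hx using fun x : {x // x ∈ qfSet f} => exists_local f ν f' hf1 hf2 hn x.1 x.2
  let O : Set (Points Y'.obj) := ⋃ x, Set.range (Points.map (q x).hom)
  have hO : IsOpen O := isOpen_iUnion fun x => by
    have := (K596.QC2.isUnivOpenMor_of_isEtaleMor (V x).property (hq x))
    exact (K636.Basic.of_univSp this : IsOpenMap _).isOpen_range
  obtain ⟨U', j, hj, hr⟩ := Groth.Agent.S10195.result Y' O hO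
  have hjm := mono_of_repWith_open hj
  -- lifts to `U'`
  have hlift : ∀ x, ∃ q' : V x ⟶ U', q' ≫ j = q x := fun x => by
    rw [Groth.Agent.S10194.result j hj, hr]
    exact Set.subset_iUnion (fun x => Set.range (Points.map (q x).hom)) x
  choose q' hq' using hlift
  have hqe : ∀ x, (q' x).hom ≫ j.hom = (q x).hom := fun x => congrArg (·.hom) (hq' x)
  have hjls : K642.Glue.JLS (J := AlgSp.J S) (fun x => (V x).obj) (fun x => (q' x).hom) := by
    refine K642.EtCov.jls_of_isEtaleMor _ (fun x => (V x).property) (fun x => ?_) fun u => ?_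
    · intro Z φ hφ
      refine K610.OpenImm.repWith_of_comp_mono (j := j.hom) ?_
      rw [Category.assoc, hqe]
      exact hq x φ hφ
    · have hu : Points.map j.hom u ∈ O := by rw [← hr]; exact ⟨u, rfl⟩
      obtain ⟨_, ⟨x, rfl⟩, y, hy⟩ := hu
      refine ⟨x, y, ?_⟩
      have hinj := (K610.OpenImm.isOpenEmbedding_points Y'.property hj).injective
      apply hinj
      rw [← Points.map_comp, hqe]
      exact hy
  refine ⟨U', j, hj, fun P fst snd sqP => ?_⟩
  have hiso : IsIso snd.hom := by
    have key : ∀ x, ∃ a : (A x).obj ⟶ P.obj, IsPullback a (s x).hom snd.hom (q' x).hom := fun x => by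
      have h1 : (α x).hom ≫ f'.hom = ((s x).hom ≫ (q' x).hom) ≫ j.hom := by
        rw [Category.assoc, hqe]; exact (sq x).w
      refine ⟨sqP.lift _ _ h1, IsPullback.of_right ?_ (sqP.lift_snd _ _ _) sqP⟩
      rw [sqP.lift_fst, hqe]
      exact sq x
    choose a ha using key
    have := hs
    exact isIso_of_jls hjls snd.hom a (fun x => (s x).hom) ha
  refine ⟨hiso, Set.Subset.antisymm ?_ ?_⟩
  · rintro _ ⟨p, rfl⟩
    have hfst : RepWith @IsOpenImmersion fst.hom := MorphismProperty.of_isPullback (P := RepWith _) sqP.flip hj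
    have hfst' : RepWith @Etale fst.hom := K610.OpenImm.repWith_etale_of_open hfst
    have hsnd : RepWith @Etale (inv snd.hom) := K636.Decomp.repWith_of_isIso _ _
    have hsnd' : RepWith @Etale snd.hom := K636.Decomp.repWith_of_isIso _ _
    have h1 : LocP @LocallyOfFiniteType (fst ≫ f).hom := K597.locP_precomp hfst' hf1.1
    have h2 : (fst ≫ f).hom = snd.hom ≫ (j ≫ ν).hom := by
      change fst.hom ≫ f.hom = snd.hom ≫ j.hom ≫ ν.hom
      rw [← Category.assoc, ← sqP.w, Category.assoc, hn.1]
    have h3 : LocP @LocallyOfFiniteType (j ≫ ν).hom := by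
      have := K597.locP_precomp hsnd h1
      rwa [h2, IsIso.inv_hom_id_assoc] at this
    have h4 := repWith_lqf j hj ν hn.2.1 h3
    have h5 : LocP (@LocallyQuasiFinite ⊓ @LocallyOfFiniteType) (fst ≫ f).hom := by
      rw [h2]
      exact K597.locP_precomp hsnd' (K597.locP_of_repWith K597.etLoc_lqf.precomp h4)
    -- a chart diagram through `p`
    obtain ⟨U, a, u, ha, hu⟩ := K621.Base.exists_chart P.property p
    obtain ⟨T, b, hb, hbs⟩ := Y.property.hasAtlas
    obtain ⟨R, r, c, sqR, hc⟩ := K597.exists_sq2 hb (a ≫ (fst ≫ f).hom)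
    have hcs : Surjective c.left := K597.repWith_prop hbs sqR
    obtain ⟨z, hz⟩ := hcs.surj u
    have hR : RepWith @Etale ((yon S).map c ≫ a) := K621.Base.repWith_etale_comp (K621.Base.repWith_etale_map hc) ha
    have h6 := h5 ((yon S).map c ≫ a) b r hR hb (by rw [Category.assoc]; exact sqR.w.symm)
    refine ⟨R, T, ((yon S).map c ≫ a) ≫ fst.hom, b, r, z, (RepWith @Etale).comp_mem _ _ hR hfst', hb, ?_, ?_,
      ⊤, trivial, ?_, ?_⟩
    · rw [Category.assoc, Category.assoc]
      exact sqR.w.symm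
    · rw [← Points.map_ofPt, K621.Base.ofPt_comp, hz, hu]
    · have := h6.1
      infer_instance
    · have := h6.2
      infer_instance
  · intro x hx'
    obtain ⟨p, hp, -⟩ := K609.Points.exists_of_isPullback sqP x (Points.map (q' ⟨x, hx'⟩).hom (hx ⟨x, hx'⟩).choose) (by
      rw [← Points.map_comp, hqe]
      exact (hx ⟨x, hx'⟩).choose_spec.symm)
    exact ⟨p, hp⟩

end K636.NormOpen
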