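import Groth.Agent.AlgSp.K609.Points
import Groth.Prelude.Def_AlgSp4
import Groth.Agent.S9875
import Groth.Agent.S10194
import Groth.Agent.S10195

/-!
# Loci in the base: the general topological lemma

`BC f q Q g`: for `f : X ⟶ Y`, `q : Y ⟶ Z` and `g : Z' ⟶ Z`, every base change of `f` along `g` has `Q`.
`IsLocus R O`: `O ⊆ |Z|` is open and `g : Z' ⟶ Z` lands in `O` iff `R Z' g`.
-/

set_option autoImplicit false
universe u

open CategoryTheory CategoryTheory.Limits AlgebraicGeometry Opposite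

namespace K636.Where

open AlgSp

variable {S : Scheme.{u}}

/-- Fibre products of algebraic spaces exist (as pullback squares of sheaves with algebraic corner). -/
theorem exists_isPullback {X Y Z : Space S} (f : X ⟶ Z) (g : Y ⟶ Z) :
    ∃ (P : Space S) (fst : P ⟶ X) (snd : P ⟶ Y), IsPullback fst.hom snd.hom f.hom g.hom := by
  have := (Groth.Agent.S9875.result S).1
  have := (Groth.Agent.S9875.result S).2
  exact ⟨pullback f g, pullback.fst f g, pullback.snd f g,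
    (IsPullback.of_hasPullback f g).map (ObjectProperty.ι (IsAlgSpace (S := S)))⟩

/-- A pullback square of sheaves over algebraic spaces has an algebraic corner. -/
theorem isAlgSpace_of_isPullback {X Y Z : Space S} (f : X ⟶ Z) (g : Y ⟶ Z) {P : Sp S} {fst : P ⟶ X.obj}
    {snd : P ⟶ Y.obj} (sq : IsPullback fst snd f.hom g.hom) : IsAlgSpace P := by
  obtain ⟨P', fst', snd', sq'⟩ := exists_isPullback f g
  exact P'.property.of_iso (sq'.isoIsPullback _ _ sq)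

/-- All base changes of `f` along `g` have the property `Q`. -/
def BC {X Y Z : Space S} (f : X ⟶ Y) (q : Y ⟶ Z) (Q : MorphismProperty (Sp S)) (Z' : Space S) (g : Z' ⟶ Z) : Prop :=
  ∀ (Y' : Space S) (gY : Y' ⟶ Y) (q' : Y' ⟶ Z'), IsPullback gY.hom q'.hom q.hom g.hom →
    ∀ (X' : Space S) (gX : X' ⟶ X) (f' : X' ⟶ Y'), IsPullback gX.hom f'.hom f.hom gY.hom → Q f'.hom

/-- `O` is an open subset of `|Z|` such that `g` lands in `O` exactly when `R g`. -/
def IsLocus {Z : Space S} (R : ∀ (Z' : Space S), (Z' ⟶ Z) → Prop) (O : Set (Points Z.obj)) : Prop :=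
  IsOpen O ∧ ∀ (Z' : Space S) (g : Z' ⟶ Z), Set.range (Points.map g.hom) ⊆ O ↔ R Z' g

theorem IsLocus.exists_open {Z : Space S} {R : ∀ (Z' : Space S), (Z' ⟶ Z) → Prop} {O : Set (Points Z.obj)}
    (h : IsLocus R O) : ∃ (W : Space S) (w : W ⟶ Z), RepWith @IsOpenImmersion w.hom ∧
      ∀ (Z' : Space S) (g : Z' ⟶ Z), (∃ k : Z' ⟶ W, k ≫ w = g) ↔ R Z' g := by
  obtain ⟨W, w, hw, hr⟩ := Groth.Agent.S10195.result Z O h.1
  refine ⟨W, w, hw, fun Z' g => ?_⟩
  rw [Groth.Agent.S10194.result w hw g, hr]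
  exact h.2 Z' g

/-- Common generalisation: the complement of the image of a set which is relatively closed over an open set. -/
theorem isOpen_sdiff_image {A B : Type*} [TopologicalSpace A] [TopologicalSpace B] {t : A → B} (ht : IsClosedMap t)
    {O : Set B} (hO : IsOpen O) {C : Set A} (hC : IsOpen (t ⁻¹' O \ C)) :
    IsOpen (O \ t '' C) := by
  have h1 : O \ t '' C = O ∩ (t '' (t ⁻¹' O \ C)ᶜ)ᶜ := by
    ext b
    simp only [Set.mem_sdiff, Set.mem_image, Set.mem_inter_iff, Set.mem_compl_iff,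
      Set.mem_preimage, not_and, not_not, not_exists]
    constructor
    · rintro ⟨hb, h⟩
      exact ⟨hb, fun a ha e => h a (ha (by rw [e]; exact hb)) e⟩
    · rintro ⟨hb, h⟩
      exact ⟨hb, fun a ha e => h a (fun _ => ha) e⟩
  rw [h1]
  exact hO.inter (ht _ (isClosed_compl_iff.2 hC)).isOpen_compl

/-- Points of the base change `X' = X ×_Z Z'`. -/
theorem exists_point {X Y Z : Space S} {f : X ⟶ Y} {q : Y ⟶ Z} {Z' Y' X' : Space S} {g : Z' ⟶ Z} {gY : Y' ⟶ Y}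
    {q' : Y' ⟶ Z'} (sq : IsPullback gY.hom q'.hom q.hom g.hom) {gX : X' ⟶ X} {f' : X' ⟶ Y'}
    (sq' : IsPullback gX.hom f'.hom f.hom gY.hom) (x : Points X.obj) (z' : Points Z'.obj)
    (e : Points.map q.hom (Points.map f.hom x) = Points.map g.hom z') :
    ∃ x' : Points X'.obj, Points.map gX.hom x' = x ∧ Points.map q'.hom (Points.map f'.hom x') = z' := by
  obtain ⟨y', hy1, hy2⟩ := K609.Points.exists_of_isPullback sq _ _ e
  obtain ⟨x', hx1, hx2⟩ := K609.Points.exists_of_isPullback sq' _ _ hy1.symm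
  exact ⟨x', hx1, by rw [hx2, hy2]⟩

/-- For `g` and `t : T ⟶ Z`: every point of `T ×_Z Z'` lies outside `C`. -/
def Avoids {T Z : Space S} (t : T ⟶ Z) (C : Set (Points T.obj)) (Z' : Space S) (g : Z' ⟶ Z) : Prop :=
  ∀ (T' : Space S) (gT : T' ⟶ T) (t' : T' ⟶ Z'), IsPullback gT.hom t'.hom t.hom g.hom →
    ∀ x, Points.map gT.hom x ∉ C

theorem avoids_iff {T Z : Space S} (t : T ⟶ Z) (C : Set (Points T.obj)) (Z' : Space S) (g : Z' ⟶ Z) :
    Avoids t C Z' g ↔ ∀ z', Points.map g.hom z' ∉ Points.map t.hom '' C := by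
  constructor
  · rintro h z' ⟨x, hx, hx'⟩
    obtain ⟨T', gT, t', sq⟩ := exists_isPullback t g
    obtain ⟨x', hx1, hx2⟩ := K609.Points.exists_of_isPullback sq _ _ hx'
    exact h T' gT t' sq x' (by rwa [hx1])
  · intro h T' gT t' sq x hx
    refine h (Points.map t'.hom x) ⟨_, hx, ?_⟩
    rw [← Points.map_comp, ← Points.map_comp, sq.w]

theorem avoids_iff_of_isPullback {T Z : Space S} (t : T ⟶ Z) (C : Set (Points T.obj)) {Z' T' : Space S} {g : Z' ⟶ Z}
    {gT : T' ⟶ T} {t' : T' ⟶ Z'} (sq : IsPullback gT.hom t'.hom t.hom g.hom) :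
    Avoids t C Z' g ↔ ∀ x, Points.map gT.hom x ∉ C := by
  refine ⟨fun h => h T' gT t' sq, fun h => ?_⟩
  rw [avoids_iff]
  rintro z' ⟨x, hx, hx'⟩
  obtain ⟨x', hx1, hx2⟩ := K609.Points.exists_of_isPullback sq _ _ hx'
  exact h x' (by rwa [hx1])

/-- The basic locus lemma: `t : T ⟶ Z` closed, `C ⊂ |T|` relatively closed over `O₁`; then
`O₁ \ t(C)` is the locus of `R₁ ∧ "T' lands outside C"`. -/
theorem isLocus_of_closed {T Z : Space S} (t : T ⟶ Z) (ht : IsClosedMor t.hom) {O : Set (Points Z.obj)}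
    {R₁ R : ∀ (Z' : Space S), (Z' ⟶ Z) → Prop} (h₁ : IsLocus R₁ O) {C : Set (Points T.obj)}
    (hC : IsOpen (Points.map t.hom ⁻¹' O \ C))
    (hR : ∀ (Z' : Space S) (g : Z' ⟶ Z), R Z' g → R₁ Z' g)
    (hR' : ∀ (Z' : Space S) (g : Z' ⟶ Z), R₁ Z' g → (R Z' g ↔ Avoids t C Z' g)) :
    IsLocus R (O \ Points.map t.hom '' C) := by
  refine ⟨isOpen_sdiff_image ht h₁.1 hC, fun Z' g => ?_⟩
  constructor
  · intro h
    have h1 : R₁ Z' g := (h₁.2 Z' g).1 (h.trans Set.sdiff_subset)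
    rw [hR' Z' g h1, avoids_iff]
    exact fun z' => (h ⟨z', rfl⟩).2
  · intro h
    have h1 : R₁ Z' g := hR Z' g h
    rw [hR' Z' g h1, avoids_iff] at h
    rintro _ ⟨z', rfl⟩
    exact ⟨(h₁.2 Z' g).2 h1 ⟨z', rfl⟩, h z'⟩

/-- The whole space is the locus of the true property. -/
theorem isLocus_univ (Z : Space S) : IsLocus (Z := Z) (fun _ _ => True) Set.univ :=
  ⟨isOpen_univ, fun _ _ => by simp⟩

theorem IsLocus.inter {Z : Space S} {R₁ R₂ : ∀ (Z' : Space S), (Z' ⟶ Z) → Prop} {O₁ O₂ : Set (Points Z.obj)}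
    (h₁ : IsLocus R₁ O₁) (h₂ : IsLocus R₂ O₂) : IsLocus (fun Z' g => R₁ Z' g ∧ R₂ Z' g) (O₁ ∩ O₂) :=
  ⟨h₁.1.inter h₂.1, fun Z' g => by rw [Set.subset_inter_iff, h₁.2, h₂.2]⟩

theorem IsLocus.congr {Z : Space S} {R₁ R₂ : ∀ (Z' : Space S), (Z' ⟶ Z) → Prop} {O : Set (Points Z.obj)}
    (h : IsLocus R₁ O) (h' : ∀ (Z' : Space S) (g : Z' ⟶ Z), R₁ Z' g ↔ R₂ Z' g) : IsLocus R₂ O :=
  ⟨h.1, fun Z' g => by rw [h.2, h']⟩

/-- Construct the base change of `f` from a base change of `p = f ≫ q` and one of `q`. -/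
theorem exists_base_change {X Y Z : Space S} {f : X ⟶ Y} {q : Y ⟶ Z} {Z' X' Y' : Space S} {g : Z' ⟶ Z}
    {gX : X' ⟶ X} {p' : X' ⟶ Z'} (sq : IsPullback gX.hom p'.hom (f ≫ q).hom g.hom) {gY : Y' ⟶ Y} {q' : Y' ⟶ Z'}
    (sqY : IsPullback gY.hom q'.hom q.hom g.hom) :
    ∃ f' : X' ⟶ Y', f' ≫ q' = p' ∧ IsPullback gX.hom f'.hom f.hom gY.hom := by
  let f' : X' ⟶ Y' := ObjectProperty.homMk (sqY.lift (gX.hom ≫ f.hom) p'.hom (by
    rw [Category.assoc]; exact sq.w))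
  have h1 : f'.hom ≫ gY.hom = gX.hom ≫ f.hom := sqY.lift_fst _ _ _
  have h2 : f'.hom ≫ q'.hom = p'.hom := sqY.lift_snd _ _ _
  refine ⟨f', by ext1; exact h2, IsPullback.of_bot ?_ h1.symm sqY⟩
  rw [h2]
  exact sq

/-- The locus of a property of `f'` detected by an open subset `U` of `|X|`, for `p : X ⟶ Z` closed. -/
theorem isLocus_of_open {X Y Z : Space S} (f : X ⟶ Y) (p : X ⟶ Z) (q : Y ⟶ Z) (hc : f ≫ q = p)
    (hp : IsClosedMor p.hom) {U : Set (Points X.obj)} (hU : IsOpen U) {Q : MorphismProperty (Sp S)}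
    (hQ : ∀ (Z' : Space S) (g : Z' ⟶ Z) (Y' : Space S) (gY : Y' ⟶ Y) (q' : Y' ⟶ Z'),
      IsPullback gY.hom q'.hom q.hom g.hom → ∀ (X' : Space S) (gX : X' ⟶ X) (f' : X' ⟶ Y'),
        IsPullback gX.hom f'.hom f.hom gY.hom → (Q f'.hom ↔ Set.range (Points.map gX.hom) ⊆ U)) :
    IsLocus (fun Z' g => BC f q Q Z' g) (Set.univ \ Points.map p.hom '' Uᶜ) := by
  refine isLocus_of_closed p hp (isLocus_univ Z) ?_ (fun _ _ _ => trivial) (fun Z' g _ => ?_)
  · simpa [Set.sdiff_eq] using hU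
  · subst hc
    constructor
    · intro h X' gX p' sq x'
      obtain ⟨Y', gY, q', sqY⟩ := exists_isPullback q g
      obtain ⟨f', -, sqX⟩ := exists_base_change sq sqY
      have := (hQ Z' g Y' gY q' sqY X' gX f' sqX).1 (h Y' gY q' sqY X' gX f' sqX)
      exact fun hx => hx (this ⟨x', rfl⟩)
    · intro h Y' gY q' sqY X' gX f' sqX
      rw [hQ Z' g Y' gY q' sqY X' gX f' sqX]
      rintro _ ⟨x', rfl⟩
      by_contra hx
      exact h X' gX (f' ≫ q') (sqX.paste_vert sqY) x' hx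

end K636.Where
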