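import Groth.Agent.AlgSp.K636.Decomp
import Groth.Agent.AlgSp.K636.Where
import Groth.Agent.AlgSp.K610.Factor
import Groth.Prelude.Def_AlgSpMor5

/-!
# An open and closed subspace finite over the base splits off from the relative normalization
-/

set_option autoImplicit false
universe u

open CategoryTheory CategoryTheory.Limits AlgebraicGeometry Opposite

namespace K636.NormSplit

open AlgSp K636.Decomp

variable {S : Scheme.{u}}

theorem isAlgSpace_pullback {X Y Z P : Sp S} (hX : IsAlgSpace X) (hY : IsAlgSpace Y) (hZ : IsAlgSpace Z)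
    {f : X ⟶ Z} {g : Y ⟶ Z} {fst : P ⟶ X} {snd : P ⟶ Y} (sq : IsPullback fst snd f g) : IsAlgSpace P :=
  K636.Where.isAlgSpace_of_isPullback (X := ⟨X, hX⟩) (Y := ⟨Y, hY⟩) (Z := ⟨Z, hZ⟩)
    (ObjectProperty.homMk f) (ObjectProperty.homMk g) sq

theorem norm_split {P T N V W D : Sp S} {g : P ⟶ T} {ν : N ⟶ T} {f' : P ⟶ N} (hn : IsRelNormalization g ν f')
    (hP : IsAlgSpace P) (hT : IsAlgSpace T) (hN : IsAlgSpace N) {jV : V ⟶ P} {jW : W ⟶ P} (hVW : IsDecomp jV jW)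
    (hD : IsAlgSpace D) {d₁ : V ⟶ D} {d₂ : T ⟶ D} (hd : IsDecomp d₁ d₂) {δ : D ⟶ T} (hδ : IsIntegralMor δ)
    (e₁ : d₁ ≫ δ = jV ≫ g) (e₂ : d₂ ≫ δ = 𝟙 T) :
    ∃ (V₁ : Sp S) (k : V₁ ⟶ N) (s : V ⟶ V₁), IsAlgSpace V₁ ∧ RepWith @IsOpenImmersion k ∧ IsIso s ∧
      IsPullback jV s f' k := by
  obtain ⟨hn1, hn2, hn3⟩ := hn
  obtain ⟨φ, hφ₁, hφ₂⟩ := hVW.exists_desc d₁ (jW ≫ g ≫ d₂)
  have hφ : φ ≫ δ = g := hVW.hom_ext (by rw [← Category.assoc, hφ₁, e₁])
    (by rw [← Category.assoc, hφ₂, Category.assoc, Category.assoc, e₂, Category.comp_id])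
  obtain ⟨h, ⟨hh1, hh2⟩, -⟩ := hn3 hD δ φ hδ hφ
  -- the decomposition of `N`
  have sq₁ := IsPullback.of_hasPullback h d₁
  have sq₂ := IsPullback.of_hasPullback h d₂
  have hV₁ : IsAlgSpace (pullback h d₁) := isAlgSpace_pullback hN hVW.algV hD sq₁
  have hW₁ : IsAlgSpace (pullback h d₂) := isAlgSpace_pullback hN hT hD sq₂
  have hN' : IsDecomp (pullback.fst h d₁) (pullback.fst h d₂) := hd.baseChange h sq₁.flip sq₂.flip hV₁ hW₁
  have hk : Mono (pullback.fst h d₁) := mono_of_repWith_open hN'.openV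
  -- the section
  let s : V ⟶ pullback h d₁ := pullback.lift (jV ≫ f') (𝟙 V) (by
    rw [Category.assoc, hh1, hφ₁, Category.id_comp])
  have hs1 : s ≫ pullback.fst h d₁ = jV ≫ f' := pullback.lift_fst _ _ _
  have hs2 : s ≫ pullback.snd h d₁ = 𝟙 V := pullback.lift_snd _ _ _
  obtain ⟨e, he1, he2⟩ := hN'.exists_desc (pullback.snd h d₁ ≫ s ≫ pullback.fst h d₁) (pullback.fst h d₂)
  let t : W ⟶ pullback h d₂ := pullback.lift (jW ≫ f') (jW ≫ g) (by
    rw [Category.assoc, hh1, hφ₂, Category.assoc])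
  have ht : t ≫ pullback.fst h d₂ = jW ≫ f' := pullback.lift_fst _ _ _
  have hf'e : f' ≫ e = f' := by
    refine hVW.hom_ext ?_ ?_
    · rw [← Category.assoc, ← hs1, Category.assoc, he1, ← Category.assoc s, hs2, Category.id_comp]
    · rw [← Category.assoc, ← ht, Category.assoc, he2]
  have heν : e ≫ ν = ν := by
    refine hN'.hom_ext ?_ ?_
    · rw [← Category.assoc, he1, hs1, Category.assoc, Category.assoc, hn1, ← e₁, ← Category.assoc,
        ← pullback.condition, Category.assoc, hh2]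
    · rw [← Category.assoc, he2]
  have he : e = 𝟙 N := by
    obtain ⟨_, -, hu⟩ := hn3 hN ν f' hn2 hn1
    rw [hu e ⟨hf'e, heν⟩, hu (𝟙 N) ⟨Category.comp_id _, Category.id_comp _⟩]
  have hrs : pullback.snd h d₁ ≫ s = 𝟙 _ := by
    rw [← cancel_mono (pullback.fst h d₁), Category.assoc, ← he1, he, Category.comp_id, Category.id_comp]
  have hsiso : IsIso s := ⟨pullback.snd h d₁, hs2, hrs⟩
  -- the preimage of `V` under `φ` is `V`
  have sq₃ := IsPullback.of_hasPullback φ d₁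
  have sq₄ := IsPullback.of_hasPullback φ d₂
  have hV₃ : IsAlgSpace (pullback φ d₁) := isAlgSpace_pullback hP hVW.algV hD sq₃
  have hV₄ : IsAlgSpace (pullback φ d₂) := isAlgSpace_pullback hP hT hD sq₄
  have hP' : IsDecomp (pullback.fst φ d₁) (pullback.fst φ d₂) := hd.baseChange φ sq₃.flip sq₄.flip hV₃ hV₄
  let i : V ⟶ pullback φ d₁ := pullback.lift jV (𝟙 V) (by rw [hφ₁, Category.id_comp])
  let i' : W ⟶ pullback φ d₂ := pullback.lift jW (jW ≫ g) (by rw [hφ₂, Category.assoc])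
  have hi1 : i ≫ pullback.fst φ d₁ = jV := pullback.lift_fst _ _ _
  have hi2 : i ≫ pullback.snd φ d₁ = 𝟙 V := pullback.lift_snd _ _ _
  have hi'1 : i' ≫ pullback.fst φ d₂ = jW := pullback.lift_fst _ _ _
  have hr := hVW.range_eq hP' (by
    rintro _ ⟨x, rfl⟩
    exact ⟨Points.map i x, by rw [← Points.map_comp, hi1]⟩) (by
    rintro _ ⟨x, rfl⟩
    exact ⟨Points.map i' x, by rw [← Points.map_comp, hi'1]⟩)
  obtain ⟨w, hw⟩ := (K610.Factor.factors_open_iff hVW.openV (pullback.fst φ d₁)).2 hr.le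
  have hmV := mono_of_repWith_open hVW.openV
  have hmP := mono_of_repWith_open hP'.openV
  have hiw : i ≫ w = 𝟙 V := by rw [← cancel_mono jV, Category.assoc, hw, hi1, Category.id_comp]
  have hwi : w ≫ i = 𝟙 _ := by
    rw [← cancel_mono (pullback.fst φ d₁), Category.assoc, hi1, hw, Category.id_comp]
  have hiiso : IsIso i := ⟨w, hiw, hwi⟩
  have sq₅ : IsPullback jV (𝟙 V) φ d₁ := IsPullback.of_iso sq₃ (asIso i).symm (Iso.refl _) (Iso.refl _) (Iso.refl _)
    (by simp [← hi1]) (by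
      have : inv i = pullback.snd φ d₁ := by rw [IsIso.inv_eq_of_hom_inv_id hi2]
      simp [this]) (by simp) (by simp)
  refine ⟨_, pullback.fst h d₁, s, hV₁, hN'.openV, hsiso, ?_⟩
  refine (IsPullback.of_right (t := sq₁.flip) (h₁₁ := s) (v₁₁ := jV) (h₂₁ := f') ?_ hs1).flip
  rw [hs2, hh1]
  exact sq₅.flip

theorem isIntegralMor_yon_map {A B : Over S} (i : A ⟶ B) [IsIntegralHom i.left] :
    IsIntegralMor ((yon S).map i) := by
  intro Z hZ g
  obtain ⟨g, rfl⟩ := (yon S).map_surjective g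
  have sq := IsPullback.of_hasPullback i g
  have h1 : IsIntegralHom (pullback.snd i g).left :=
    MorphismProperty.of_isPullback (P := @IsIntegralHom) (sq.map (Over.forget S)) ‹_›
  exact ⟨pullback i g, pullback.snd i g, (yon S).map (pullback.fst i g), sq.map (yon S),
    isAffine_of_isAffineHom (pullback.snd i g).left, h1⟩

theorem exists_D {V : Sp S} {T : Over S} [IsAffine T.left] (g : V ⟶ (yon S).obj T) (hg : IsFiniteMor g) :
    ∃ (D : Sp S) (d₁ : V ⟶ D) (d₂ : (yon S).obj T ⟶ D) (δ : D ⟶ (yon S).obj T), IsAlgSpace D ∧ IsDecomp d₁ d₂ ∧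
      IsIntegralMor δ ∧ d₁ ≫ δ = g ∧ d₂ ≫ δ = 𝟙 _ := by
  obtain ⟨W, i, fst, sq, hW, hi⟩ := hg ‹_› (𝟙 ((yon S).obj T))
  have hfst : IsIso fst := sq.isIso_fst_of_isIso
  have hw : (yon S).map i = fst ≫ g := by rw [sq.w, Category.comp_id]
  let δ₀ : cop W T ⟶ T := Over.homMk (coprod.desc i.left (𝟙 _)) (by
    change coprod.desc i.left (𝟙 _) ≫ T.hom = coprod.desc W.hom T.hom
    ext1
    · simp
    · simp)
  have h1 : IsIntegralHom δ₀.left := inferInstanceAs (IsIntegralHom (coprod.desc i.left (𝟙 _)))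
  refine ⟨(yon S).obj (cop W T), inv fst ≫ (yon S).map (copl W T), (yon S).map (copr W T), (yon S).map δ₀,
    IsAlgSpace.yon_obj _, (isDecomp_cop W T).of_iso_left _, isIntegralMor_yon_map δ₀, ?_, ?_⟩
  · rw [Category.assoc, ← Functor.map_comp, show copl W T ≫ δ₀ = i from by
      ext1; exact coprod.inl_desc _ _, hw, IsIso.inv_hom_id_assoc]
  · rw [← Functor.map_comp, show copr W T ≫ δ₀ = 𝟙 T from by
      ext1; exact coprod.inr_desc _ _, CategoryTheory.Functor.map_id]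

end K636.NormSplit
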