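import Groth.Agent.AlgSp.K636.WhereUnivInj
import Groth.Agent.S10278
import Groth.Agent.S10614

/-!
# The locus where a morphism is a closed immersion
-/

set_option autoImplicit false
universe u

open CategoryTheory CategoryTheory.Limits AlgebraicGeometry Opposite

namespace K636.WhereClosed

open AlgSp K636.Where K636.Basic

variable {S : Scheme.{u}}

theorem isLocus {X Y Z : Space S} (f : X ⟶ Y) (p : X ⟶ Z) (q : Y ⟶ Z) (hc : f ≫ q = p)
    (hp1 : LocP @LocallyOfFiniteType p.hom) (hp2 : IsUnivClosedMor p.hom) (hq : IsSeparatedMor q.hom) :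
    ∃ O, IsLocus (fun Z' g => BC f q (RepWith @IsClosedImmersion) Z' g) O := by
  have hf : IsUnivClosedMor f.hom := ((Groth.Agent.S10278.result f p q hc hq).1 hp2).1
  obtain ⟨XX, pr0, pr1, hXX⟩ := exists_isPullback f f
  have h1 : IsClosedMor pr1.hom := of_univSp (univSp_of_isPullback hXX hf)
  obtain ⟨O, hO⟩ := K636.WhereUnivInj.isLocus f p q hc XX pr0 pr1 hXX hp1 (of_univSp hp2)
    (isClosedMor_comp h1 (of_univSp hp2))
  refine ⟨O, hO.congr fun Z' g => ?_⟩
  refine forall_congr' fun Y' => forall_congr' fun gY => forall_congr' fun q' => forall_congr' fun sqY =>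
    forall_congr' fun X' => forall_congr' fun gX => forall_congr' fun f' => forall_congr' fun sqX => ?_
  rw [(Groth.Agent.S10614.result f').2.1]
  exact ⟨fun h => ⟨univSp_of_isPullback sqX hf, h⟩, fun h => h.2⟩

end K636.WhereClosed
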