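import Groth.Agent.AlgSp.K636.Where
import Groth.Agent.AlgSp.K636.Basic
import Groth.Agent.S10609

/-!
# The locus where a morphism is flat
-/

set_option autoImplicit false
universe u

open CategoryTheory CategoryTheory.Limits AlgebraicGeometry Opposite

namespace K636.WhereFlat

open AlgSp K636.Where

variable {S : Scheme.{u}}

theorem locP_flat_iff {F G : Sp S} (f : F ⟶ G) : LocP @Flat f ↔ ∀ x, IsFlatAtMor f x := by
  constructor
  · intro h x U V a b g u ha hb hc _
    have : Flat g.left := h a b g ha hb hc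
    exact Flat.stalkMap g.left u
  · intro h U V a b g ha hb hc
    rw [Flat.iff_flat_stalkMap]
    exact fun u => h (Points.ofPt a u) a b g u ha hb hc rfl

theorem isLocus {X Y Z : Space S} (f : X ⟶ Y) (p : X ⟶ Z) (q : Y ⟶ Z) (hc : f ≫ q = p)
    (hp1 : LocP @LocallyOfFinitePresentation p.hom) (hp2 : LocP @Flat p.hom)
    (hp3 : IsClosedMor p.hom) (hq : LocP @LocallyOfFiniteType q.hom) :
    ∃ O, IsLocus (fun Z' g => BC f q (LocP @Flat) Z' g) O := by
  subst hc
  obtain ⟨h1, h2⟩ := Groth.Agent.S10609.result f q hp1 hp2 hq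
  refine ⟨_, isLocus_of_open f (f ≫ q) q rfl hp3 h1 fun Z' g Y' gY q' sqY X' gX f' sqX => ?_⟩
  rw [locP_flat_iff, Set.range_subset_iff]
  have := h2 X' Y' Z' g f' q' gX gY sqY sqX
  refine forall_congr' fun x' => ?_
  exact Set.ext_iff.1 this x'

end K636.WhereFlat
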