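import Groth.Agent.AlgSp.K636.WhereFlat
import Groth.Agent.S9959
import Groth.Agent.S9962
import Groth.Agent.S9984

/-!
# The locus where a morphism is flat and surjective
-/

set_option autoImplicit false
universe u

open CategoryTheory CategoryTheory.Limits AlgebraicGeometry Opposite

namespace K636.WhereFlatSurj

open AlgSp K636.Where K636.Basic

variable {S : Scheme.{u}}

/-- Over the locus where `f` is flat (and locally of finite presentation) its image is open. -/
theorem isOpen_image {X Y Z : Space S} (f : X ⟶ Y) (q : Y ⟶ Z) (hf : LocP @LocallyOfFinitePresentation f.hom)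
    {O : Set (Points Z.obj)} (h₁ : IsLocus (fun Z' g => BC f q (LocP @Flat) Z' g) O) :
    IsOpen (Points.map q.hom ⁻¹' O ∩ Set.range (Points.map f.hom)) := by
  obtain ⟨W, w, hw, hr⟩ := Groth.Agent.S10195.result Z O h₁.1
  obtain ⟨Y₁, gY, q₁, sqY⟩ := exists_isPullback q w
  obtain ⟨X₁, gX, f₁, sqX⟩ := exists_isPullback f gY
  have hfl : LocP @Flat f₁.hom := (h₁.2 W w).1 (by rw [hr]) Y₁ gY q₁ sqY X₁ gX f₁ sqX
  have hlf : LocP @LocallyOfFinitePresentation f₁.hom :=
    Groth.Agent.S9984.result _ (Or.inr (Or.inl rfl)) f gY gX f₁ sqX hf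
  have hop : IsOpenMap (Points.map f₁.hom) :=
    of_univSp (Q := IsOpenMor) (Groth.Agent.S9962.result f₁ hfl hlf)
  have hgY : RepWith @IsOpenImmersion gY.hom := MorphismProperty.of_isPullback sqY.flip hw
  have hgY' := isOpenMap_of_openImmersion hgY
  convert hgY' _ hop.isOpen_range using 1
  ext y
  constructor
  · rintro ⟨hy, x, rfl⟩
    change Points.map q.hom _ ∈ O at hy
    rw [← hr] at hy
    obtain ⟨z₁, hz₁⟩ := hy
    obtain ⟨x₁, hx₁, -⟩ := exists_point sqY sqX x z₁ hz₁.symm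
    refine ⟨_, ⟨x₁, rfl⟩, ?_⟩
    rw [← Points.map_comp, ← sqX.w, Points.map_comp, hx₁]
  · rintro ⟨_, ⟨x₁, rfl⟩, rfl⟩
    refine ⟨?_, ?_⟩
    · change Points.map q.hom (Points.map gY.hom _) ∈ O
      rw [← Points.map_comp, sqY.w, Points.map_comp, ← hr]
      exact ⟨_, rfl⟩
    · rw [← Points.map_comp, ← sqX.w, Points.map_comp]
      exact ⟨_, rfl⟩

theorem isLocus {X Y Z : Space S} (f : X ⟶ Y) (p : X ⟶ Z) (q : Y ⟶ Z) (hc : f ≫ q = p)
    (hp1 : LocP @LocallyOfFinitePresentation p.hom) (hp2 : LocP @Flat p.hom)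
    (hp3 : IsClosedMor p.hom) (hq1 : LocP @LocallyOfFiniteType q.hom) (hq2 : IsClosedMor q.hom) :
    ∃ O, IsLocus (fun Z' g => BC f q (fun _ _ φ => IsSurjectiveMor φ ∧ LocP @Flat φ) Z' g) O := by
  obtain ⟨O, h₁⟩ := K636.WhereFlat.isLocus f p q hc hp1 hp2 hp3 hq1
  have hf : LocP @LocallyOfFinitePresentation f.hom := by
    subst hc
    exact Groth.Agent.S9959.result f q hp1 hq1
  refine ⟨_, isLocus_of_closed q hq2 h₁ (C := (Set.range (Points.map f.hom))ᶜ) ?_ ?_ ?_⟩
  · convert isOpen_image f q hf h₁ using 1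
    rw [Set.sdiff_eq, compl_compl]
  · intro Z' g h Y' gY q' sqY X' gX f' sqX
    exact (h Y' gY q' sqY X' gX f' sqX).2
  · intro Z' g hfl
    constructor
    · intro h
      obtain ⟨Y', gY, q', sqY⟩ := exists_isPullback q g
      obtain ⟨X', gX, f', sqX⟩ := exists_isPullback f gY
      rw [avoids_iff_of_isPullback q _ sqY]
      intro y'
      rw [Set.mem_compl_iff, not_not]
      obtain ⟨x', rfl⟩ := (h Y' gY q' sqY X' gX f' sqX).1 y'
      rw [← Points.map_comp, ← sqX.w, Points.map_comp]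
      exact ⟨_, rfl⟩
    · intro h Y' gY q' sqY X' gX f' sqX
      refine ⟨?_, hfl Y' gY q' sqY X' gX f' sqX⟩
      rw [avoids_iff_of_isPullback q _ sqY] at h
      intro y'
      have hy := h y'
      rw [Set.mem_compl_iff, not_not] at hy
      obtain ⟨x, hx⟩ := hy
      obtain ⟨x', -, hx'⟩ := K609.Points.exists_of_isPullback sqX x y' hx
      exact ⟨x', hx'⟩

end K636.WhereFlatSurj
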