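import Groth.Agent.AlgSp.K636.WhereFlatSurj
import Groth.Agent.AlgSp.K636.WhereClosed
import Groth.Agent.AlgSp.K613.Basic
import Groth.Agent.S9948
import Mathlib.AlgebraicGeometry.Morphisms.FlatMono

/-!
# The locus where a morphism is an isomorphism
-/

set_option autoImplicit false
universe u

open CategoryTheory CategoryTheory.Limits AlgebraicGeometry Opposite

namespace K636.WhereIso

open AlgSp K636.Where K636.Basic

variable {S : Scheme.{u}}

/-- Isomorphisms are representable with any property stable under base change satisfied by identities. -/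
theorem repWith_of_isIso (P : MorphismProperty Scheme.{u}) [P.IsStableUnderBaseChange] [P.ContainsIdentities]
    {F G : Sp S} (f : F ⟶ G) [IsIso f] : RepWith P f := by
  refine ⟨Functor.relativelyRepresentable.of_isIso _ f, fun U V g fst snd sq => ?_⟩
  have : IsIso ((yon S).map snd) := sq.isIso_snd_of_isIso
  have : IsIso snd := isIso_of_fully_faithful (yon S) snd
  have : IsIso snd.left := inferInstanceAs (IsIso ((Over.forget S).map snd))
  have : P.RespectsIso := MorphismProperty.IsStableUnderBaseChange.respectsIso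
  exact (P.arrow_mk_iso_iff (Arrow.isoMk (asIso snd.left) (Iso.refl _) (by simp))).2 (P.id_mem _)

/-- A representable morphism all of whose base changes to schemes are isomorphisms is an isomorphism. -/
theorem isIso_of_repWith {F G : Sp S} {f : F ⟶ G} (hf : RepWith (MorphismProperty.isomorphisms Scheme.{u}) f) :
    IsIso f := by
  refine K613.Basic.isIso_of_bijective fun T y => ?_
  obtain ⟨V, snd, fst, sq⟩ := hf.1 y
  have h1 : IsIso snd.left := hf.2 y fst snd sq
  have h2 : IsIso snd := by
    have : IsIso ((Over.forget S).map snd) := h1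
    exact isIso_of_reflects_iso snd (Over.forget S)
  have h3 : IsIso ((yon S).map snd) := inferInstance
  refine ⟨inv ((yon S).map snd) ≫ fst, ?_, fun x hx => ?_⟩
  · simp only [Category.assoc, sq.w, IsIso.inv_hom_id_assoc]
  · have e : x ≫ f = 𝟙 _ ≫ y := by rw [Category.id_comp]; exact hx
    rw [← sq.lift_fst x (𝟙 _) e, ← cancel_epi ((yon S).map snd), IsIso.hom_inv_id_assoc, ← Category.assoc]
    have : (yon S).map snd ≫ sq.lift x (𝟙 _) e = 𝟙 _ := by
      rw [← cancel_mono ((yon S).map snd), Category.assoc, sq.lift_snd, Category.comp_id, Category.id_comp]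
    rw [this, Category.id_comp]

theorem isIso_iff {X Y : Space S} (f : X ⟶ Y) :
    IsIso f.hom ↔ RepWith @IsClosedImmersion f.hom ∧ IsSurjectiveMor f.hom ∧ LocP @Flat f.hom := by
  constructor
  · intro h
    have h1 : RepWith @Flat f.hom := repWith_of_isIso _ _
    exact ⟨repWith_of_isIso _ _, (map_bijective_of_isIso f.hom).2,
      (Groth.Agent.S9948.result _ (Or.inr (Or.inr (Or.inl rfl))) f h1.1).2 h1⟩
  · rintro ⟨h1, h2, h3⟩
    have h3' := (Groth.Agent.S9948.result _ (Or.inr (Or.inr (Or.inl rfl))) f h1.1).1 h3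
    have h2' := (K609.Points.repWith_surjective_iff h1.1).2 h2
    refine isIso_of_repWith ⟨h1.1, fun U V g fst snd sq => ?_⟩
    have i1 : IsClosedImmersion snd.left := h1.2 g fst snd sq
    have i2 : Surjective snd.left := h2'.2 g fst snd sq
    have i3 : Flat snd.left := h3'.2 g fst snd sq
    exact Flat.isIso_of_surjective_of_mono snd.left

theorem isLocus {X Y Z : Space S} (f : X ⟶ Y) (p : X ⟶ Z) (q : Y ⟶ Z) (hc : f ≫ q = p)
    (hp1 : LocP @LocallyOfFinitePresentation p.hom) (hp2 : LocP @Flat p.hom)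
    (hp3 : IsUnivClosedMor p.hom) (hq1 : LocP @LocallyOfFiniteType q.hom)
    (hq2 : IsClosedMor q.hom) (hq3 : IsSeparatedMor q.hom) :
    ∃ O, IsLocus (fun Z' g => BC f q (fun _ _ φ => IsIso φ) Z' g) O := by
  have hp4 : LocP @LocallyOfFiniteType p.hom := fun U V a b h ha hb hh => by
    have i : LocallyOfFinitePresentation h.left := hp1 a b h ha hb hh
    infer_instance
  obtain ⟨O₁, h₁⟩ := K636.WhereClosed.isLocus f p q hc hp4 hp3 hq3
  obtain ⟨O₂, h₂⟩ := K636.WhereFlatSurj.isLocus f p q hc hp1 hp2 (of_univSp hp3) hq1 hq2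
  refine ⟨_, (h₁.inter h₂).congr fun Z' g => ?_⟩
  constructor
  · rintro ⟨a, b⟩ Y' gY q' sqY X' gX f' sqX
    exact (isIso_iff f').2 ⟨a Y' gY q' sqY X' gX f' sqX, b Y' gY q' sqY X' gX f' sqX⟩
  · intro h
    exact ⟨fun Y' gY q' sqY X' gX f' sqX => ((isIso_iff f').1 (h Y' gY q' sqY X' gX f' sqX)).1,
      fun Y' gY q' sqY X' gX f' sqX => ((isIso_iff f').1 (h Y' gY q' sqY X' gX f' sqX)).2⟩

end K636.WhereIso
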