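import Groth.Agent.AlgSp.K636.Where
import Groth.Agent.AlgSp.K636.Basic
import Groth.Agent.S10668

/-!
# The locus where a morphism is a local complete intersection
-/

set_option autoImplicit false
universe u

open CategoryTheory CategoryTheory.Limits AlgebraicGeometry Opposite

namespace K636.WhereLci

open AlgSp K636.Where K636.Basic

variable {S : Scheme.{u}}

theorem isOpen_locPNear (P : MorphismProperty Scheme.{u}) {F G : Sp S} (f : F ⟶ G) :
    IsOpen {x | LocPNear P f x} := by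
  rw [isOpen_iff_mem_nhds]
  rintro x ⟨W, j, hj, hx, hW⟩
  refine Filter.mem_of_superset ((isOpenMap_of_openImmersion hj).isOpen_range.mem_nhds hx) ?_
  intro y hy
  exact ⟨W, j, hj, hy, hW⟩

theorem isRegularImmersion_iso_comp (κ : RegImm.Kind) {Z' Z X : Scheme.{u}} (e : Z' ⟶ Z) [IsIso e] (i : Z ⟶ X)
    (hi : RegImm.IsRegularImmersion κ i) : RegImm.IsRegularImmersion κ (e ≫ i) := by
  have := hi.1
  refine ⟨inferInstance, fun z => ?_⟩
  obtain ⟨U, hU, hc, rs, hrs, hk⟩ := hi.2 (e z)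
  refine ⟨U, by simpa using hU, ?_, rs, hrs, ?_⟩
  · rw [morphismRestrict_comp]
    exact MorphismProperty.comp_mem @IsClosedImmersion _ _
      (inferInstanceAs (IsClosedImmersion (e ∣_ (i ⁻¹ᵁ U.1)))) hc
  · rw [← hk]
    have hinj : Function.Injective (e.app (i ⁻¹ᵁ U.1)).hom :=
      (ConcreteCategory.bijective_of_isIso (e.app (i ⁻¹ᵁ U.1))).1
    ext x
    have h1 : ((e ≫ i).app U.1).hom x = (e.app (i ⁻¹ᵁ U.1)).hom ((i.app U.1).hom x) := by
      rw [Scheme.Hom.comp_app]
      rfl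
    constructor
    · intro h
      refine hinj ?_
      rw [← h1, map_zero]
      exact h
    · intro h
      change ((e ≫ i).app U.1).hom x = 0
      have h2 : (i.app U.1).hom x = 0 := h
      rw [h1, h2, map_zero]
      rfl

/-- Koszul at a point can be checked after restriction to an open neighbourhood. -/
theorem isKoszulAt_of_comp {U₁ U V : Scheme.{u}} (i : U₁ ⟶ U) [IsOpenImmersion i] (h : U ⟶ V) (u : U₁)
    (hu : Synt.IsKoszulAt (i ≫ h) u) : Synt.IsKoszulAt h (i u) := by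
  obtain ⟨A, P, k, π, huA, hft, hk, hπ, e⟩ := hu
  let B : U.Opens := i ''ᵁ A
  let ε : (B : Scheme.{u}) ≅ (A : Scheme.{u}) := (i.isoImage A).symm
  have hε : ε.inv ≫ B.ι = A.ι ≫ i := by
    simp [ε, B]
  have hε' : B.ι = ε.hom ≫ A.ι ≫ i := by rw [← hε, Iso.hom_inv_id_assoc]
  have h1 : B.ι ≫ h = ε.hom ≫ A.ι ≫ i ≫ h := by rw [hε', Category.assoc, Category.assoc]
  refine ⟨B, P, ε.hom ≫ k, π, ⟨u, huA, rfl⟩, ?_, ?_, hπ, ?_⟩
  · rw [h1]
    have := hft
    infer_instance
  · exact isRegularImmersion_iso_comp _ ε.hom k hk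
  · rw [Category.assoc, e, h1]

theorem isLCIMor_iff {X Y : Space S} (f : X ⟶ Y) : IsLCIMor f.hom ↔ ∀ x, LocPNear lci f.hom x := by
  constructor
  · intro h x
    refine ⟨X.obj, 𝟙 _, MorphismProperty.id_mem _ _, ⟨x, Points.map_id x⟩, ?_⟩
    rw [Category.id_comp]
    exact h
  · intro h U V a b g ha hb hc u
    obtain ⟨W, j, hj, ⟨w, hw⟩, hW⟩ := h (Points.ofPt a u)
    obtain ⟨U₁, i, a₁, sq⟩ := hj.1 a
    have hi : IsOpenImmersion i.left := hj.2 a a₁ i sq
    have ha₁ : RepWith @Etale a₁ := MorphismProperty.of_isPullback sq.flip ha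
    obtain ⟨x', hx1, hx2⟩ := K609.Points.exists_of_isPullback sq w (Points.ofScheme U u) (by
      rw [hw, ← Points.ofPt_eq_map_ofScheme])
    obtain ⟨u₁, rfl⟩ := K609.Points.ofScheme_surjective U₁ x'
    rw [K609.Points.map_yon_map_ofScheme] at hx2
    have hu₁ : i.left u₁ = u := K609.Points.ofScheme_injective _ hx2
    have := hW a₁ b (i ≫ g) ha₁ hb (by
      rw [← Category.assoc, sq.w, Category.assoc, hc, Functor.map_comp, Category.assoc]) u₁
    rw [← hu₁]
    exact isKoszulAt_of_comp i.left g.left u₁ this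

theorem isLocus {X Y Z : Space S} (f : X ⟶ Y) (p : X ⟶ Z) (q : Y ⟶ Z) (hc : f ≫ q = p)
    (hp1 : LocP @Flat p.hom) (hp2 : LocP @LocallyOfFinitePresentation p.hom)
    (hp3 : IsClosedMor p.hom) (hq1 : LocP @Flat q.hom) (hq2 : LocP @LocallyOfFinitePresentation q.hom) :
    ∃ O, IsLocus (fun Z' g => BC f q IsLCIMor Z' g) O := by
  refine ⟨_, isLocus_of_open f p q hc hp3 (isOpen_locPNear lci f.hom) fun Z' g Y' gY q' sqY X' gX f' sqX => ?_⟩
  rw [isLCIMor_iff, Set.range_subset_iff]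
  have := Groth.Agent.S10668.result f p q hc hp1 hp2 hq1 hq2 g gY q' sqY gX f' sqX
  refine forall_congr' fun x' => ?_
  exact Set.ext_iff.1 this x'

end K636.WhereLci
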