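import Groth.Agent.AlgSp.K636.WhereUnram
import Groth.Agent.AlgSp.K636.Basic
import Groth.Agent.AlgSp.K636.DiagSq
import Groth.Agent.S10262
import Groth.Agent.S9938

/-!
# The locus where a morphism is unramified and universally injective
-/

set_option autoImplicit false
universe u

open CategoryTheory CategoryTheory.Limits AlgebraicGeometry Opposite

namespace K636.WhereUnivInj

open AlgSp K636.Where K636.Basic

variable {S : Scheme.{u}}

/-- universal injectivity through any diagonal -/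
theorem univInjective_iff {X Y XX : Space S} {f : X ⟶ Y} {pr0 pr1 : XX ⟶ X}
    (h : IsPullback pr0.hom pr1.hom f.hom f.hom) {d : X ⟶ XX} (h0 : d ≫ pr0 = 𝟙 X) (h1 : d ≫ pr1 = 𝟙 X) :
    IsUnivInjectiveMor f.hom ↔ Function.Surjective (Points.map d.hom) :=
  (Groth.Agent.S9938.result f).2.trans (surjective_diag_iff h h0 h1)

theorem isLocus {X Y Z : Space S} (f : X ⟶ Y) (p : X ⟶ Z) (q : Y ⟶ Z) (hc : f ≫ q = p)
    (XX : Space S) (pr0 pr1 : XX ⟶ X) (hXX : IsPullback pr0.hom pr1.hom f.hom f.hom)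
    (hp1 : LocP @LocallyOfFiniteType p.hom) (hp2 : IsClosedMor p.hom) (hp3 : IsClosedMor (pr1 ≫ p).hom) :
    ∃ O, IsLocus (fun Z' g => BC f q (fun _ _ φ => LocP (@LocallyOfFiniteType ⊓ @FormallyUnramified) φ ∧
      IsUnivInjectiveMor φ) Z' g) O := by
  subst hc
  obtain ⟨d, hd0, hd1⟩ := exists_diag hXX
  have h₁ := K636.WhereUnram.isLocus f (f ≫ q) q rfl hp1 hp2
  set O := (Set.univ \ Points.map (f ≫ q).hom '' (WhereUnram.unramSet f)ᶜ) with hO
  refine ⟨_, isLocus_of_closed (pr1 ≫ f ≫ q) hp3 h₁ (C := (Set.range (Points.map d.hom))ᶜ) ?_ ?_ ?_⟩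
  · -- over the unramified locus the diagonal is open
    obtain ⟨W, w, hw, hr⟩ := Groth.Agent.S10195.result Z O h₁.1
    obtain ⟨Y₁, gY, q₁, sqY⟩ := exists_isPullback q w
    obtain ⟨X₁, gX, f₁, sqX⟩ := exists_isPullback f gY
    obtain ⟨P₁, a₁, b₁, hP₁⟩ := exists_isPullback f₁ f₁
    obtain ⟨d₁, hd₁0, hd₁1⟩ := exists_diag hP₁
    have hf₁ : LocP (@LocallyOfFiniteType ⊓ @FormallyUnramified) f₁.hom :=
      (h₁.2 W w).1 (by rw [hr]) Y₁ gY q₁ sqY X₁ gX f₁ sqX
    have hd₁ : RepWith @IsOpenImmersion d₁.hom :=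
      (repWith_diag_iff _ hP₁ hd₁0 hd₁1).1 ((Groth.Agent.S10262.result f₁).1 hf₁)
    obtain ⟨gP, hgP0, hgP1⟩ := DiagSq.exists_map sqX hXX hP₁
    have sqP := DiagSq.isPullback_base sqY sqX hXX hP₁ hgP0 hgP1
    have hgP : RepWith @IsOpenImmersion gP := MorphismProperty.of_isPullback sqP.flip hw
    have sqd : IsPullback gX.hom d₁.hom d.hom gP :=
      DiagSq.isPullback_diag sqX hXX hP₁ hgP0 hgP1 (congrArg (fun φ => φ.hom) hd0)
        (congrArg (fun φ => φ.hom) hd1) (congrArg (fun φ => φ.hom) hd₁0) (congrArg (fun φ => φ.hom) hd₁1)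
    have hopen : IsOpen (Set.range (Points.map (d₁.hom ≫ gP))) := by
      rw [show Points.map (d₁.hom ≫ gP) = Points.map gP ∘ Points.map d₁.hom from
        funext fun x => Points.map_comp _ _ _, Set.range_comp]
      exact isOpenMap_of_openImmersion hgP _ (isOpenMap_of_openImmersion hd₁).isOpen_range
    convert hopen using 1
    ext ξ
    simp only [Set.mem_sdiff, Set.mem_preimage, Set.mem_compl_iff, not_not]
    constructor
    · rintro ⟨hξ, x, rfl⟩
      rw [← hr] at hξ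
      obtain ⟨z₁, hz₁⟩ := hξ
      have hx : Points.map (f ≫ q).hom x = Points.map w.hom z₁ := by
        rw [hz₁, ← Points.map_comp]
        congr 1
        change (f ≫ q).hom = (d ≫ pr1 ≫ f ≫ q).hom
        rw [← Category.assoc d, hd1, Category.id_comp]
      obtain ⟨x₁, hx₁, -⟩ := exists_point sqY sqX x z₁ (by rw [← hx, ← Points.map_comp]; rfl)
      refine ⟨x₁, ?_⟩
      rw [← sqd.w, Points.map_comp, hx₁]
    · rintro ⟨x₁, rfl⟩
      rw [← sqd.w]
      refine ⟨?_, ?_⟩
      · rw [← hr, ← Points.map_comp]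
        refine ⟨Points.map (f₁ ≫ q₁).hom x₁, ?_⟩
        rw [← Points.map_comp]
        congr 1
        change (f₁.hom ≫ q₁.hom) ≫ w.hom = (gX.hom ≫ d.hom) ≫ (pr1.hom ≫ (f.hom ≫ q.hom))
        have e1 : d.hom ≫ pr1.hom = 𝟙 _ := congrArg (fun φ => φ.hom) hd1
        rw [Category.assoc, ← sqY.w, ← Category.assoc, ← sqX.w, Category.assoc gX.hom d.hom,
          ← Category.assoc d.hom, e1, Category.id_comp, Category.assoc]
      · exact ⟨_, (Points.map_comp _ _ _).symm⟩
  · intro Z' g h Y' gY q' sqY X' gX f' sqX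
    exact (h Y' gY q' sqY X' gX f' sqX).1
  · intro Z' g hunr
    constructor
    · intro h
      obtain ⟨Y', gY, q', sqY⟩ := exists_isPullback q g
      obtain ⟨X', gX, f', sqX⟩ := exists_isPullback f gY
      obtain ⟨P', a', b', hP'⟩ := exists_isPullback f' f'
      obtain ⟨d', hd'0, hd'1⟩ := exists_diag hP'
      obtain ⟨gP, hgP0, hgP1⟩ := DiagSq.exists_map sqX hXX hP'
      have sqP := DiagSq.isPullback_base sqY sqX hXX hP' hgP0 hgP1
      have sqd : IsPullback gX.hom d'.hom d.hom gP :=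
        DiagSq.isPullback_diag sqX hXX hP' hgP0 hgP1 (congrArg (fun φ => φ.hom) hd0)
          (congrArg (fun φ => φ.hom) hd1) (congrArg (fun φ => φ.hom) hd'0) (congrArg (fun φ => φ.hom) hd'1)
      rw [avoids_iff_of_isPullback (pr1 ≫ f ≫ q) _ (T' := P') (gT := ObjectProperty.homMk gP)
        (t' := b' ≫ f' ≫ q') sqP]
      intro ξ
      rw [Set.mem_compl_iff, not_not]
      obtain ⟨x', rfl⟩ := (univInjective_iff hP' hd'0 hd'1).1 (h Y' gY q' sqY X' gX f' sqX).2 ξ
      change Points.map gP _ ∈ _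
      rw [← Points.map_comp, ← sqd.w, Points.map_comp]
      exact ⟨_, rfl⟩
    · intro h Y' gY q' sqY X' gX f' sqX
      refine ⟨hunr Y' gY q' sqY X' gX f' sqX, ?_⟩
      obtain ⟨P', a', b', hP'⟩ := exists_isPullback f' f'
      obtain ⟨d', hd'0, hd'1⟩ := exists_diag hP'
      obtain ⟨gP, hgP0, hgP1⟩ := DiagSq.exists_map sqX hXX hP'
      have sqP := DiagSq.isPullback_base sqY sqX hXX hP' hgP0 hgP1
      have sqd : IsPullback gX.hom d'.hom d.hom gP :=
        DiagSq.isPullback_diag sqX hXX hP' hgP0 hgP1 (congrArg (fun φ => φ.hom) hd0)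
          (congrArg (fun φ => φ.hom) hd1) (congrArg (fun φ => φ.hom) hd'0) (congrArg (fun φ => φ.hom) hd'1)
      rw [avoids_iff_of_isPullback (pr1 ≫ f ≫ q) _ (T' := P') (gT := ObjectProperty.homMk gP)
        (t' := b' ≫ f' ≫ q') sqP] at h
      rw [univInjective_iff hP' hd'0 hd'1]
      intro ξ
      have hξ := h ξ
      rw [Set.mem_compl_iff, not_not] at hξ
      obtain ⟨x, hx⟩ := hξ
      obtain ⟨x', -, hx'⟩ := K609.Points.exists_of_isPullback sqd x ξ hx
      exact ⟨x', hx'⟩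

end K636.WhereUnivInj
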