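import Groth.Agent.AlgSp.K636.Where
import Groth.Agent.S10312
import Groth.Agent.AlgSp.K636.Near

/-!
# The unramified locus in the base
-/

set_option autoImplicit false
universe u

open CategoryTheory CategoryTheory.Limits AlgebraicGeometry Opposite

namespace K636.WhereUnram

open AlgSp K636.Where

variable {S : Scheme.{u}}

/-- The unramified locus of `f` in `|X|`. -/
def unramSet {X Y : Space S} (f : X ⟶ Y) : Set (Points X.obj) :=
  {x : AlgSp.Points X.obj | AlgSp.HasAtMor (fun U _ h u => ∃ W : U.Opens, u ∈ W ∧ LocallyOfFiniteType (W.ι ≫ h) ∧ FormallyUnramified (W.ι ≫ h)) f.hom x}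

theorem locP_iff {X Y : Space S} (f : X ⟶ Y) :
    LocP (@LocallyOfFiniteType ⊓ @FormallyUnramified) f.hom ↔ unramSet f = Set.univ := by
  rw [K636.Near.locP_iff K597.etLoc_unram X.property Y.property.hasAtlas f.hom, Set.eq_univ_iff_forall]
  rfl

/-- The locus where `f` is unramified. -/
theorem isLocus {X Y Z : Space S} (f : X ⟶ Y) (p : X ⟶ Z) (q : Y ⟶ Z) (hc : f ≫ q = p)
    (hp1 : LocP @LocallyOfFiniteType p.hom) (hp2 : IsClosedMor p.hom) :
    IsLocus (fun Z' g => BC f q (LocP (@LocallyOfFiniteType ⊓ @FormallyUnramified)) Z' g)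
      (Set.univ \ Points.map p.hom '' (unramSet f)ᶜ) := by
  have hopen : IsOpen (unramSet f) := by
    obtain ⟨Y', gY, q', sqY⟩ := exists_isPullback q (𝟙 Z)
    obtain ⟨X', gX, f', sqX⟩ := exists_isPullback f gY
    exact (Groth.Agent.S10312.result f p q hc hp1 (𝟙 Z) gY q' sqY gX f' sqX).1
  refine isLocus_of_open f p q hc hp2 hopen fun Z' g Y' gY q' sqY X' gX f' sqX => ?_
  rw [locP_iff]
  have := (Groth.Agent.S10312.result f p q hc hp1 g gY q' sqY gX f' sqX).2
  change unramSet f' = Points.map gX.hom ⁻¹' (unramSet f) at this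
  rw [this, Set.eq_univ_iff_forall, Set.range_subset_iff]
  rfl

end K636.WhereUnram
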