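import Groth.Agent.AlgSp.K636.NormOpen
import Groth.Agent.AlgSp.K636.QcqsOver
import Groth.Agent.S10295
import Groth.Agent.S10033
import Groth.Agent.S10010
import Groth.Agent.S9935
import Groth.Agent.S9905

/-!
# Zariski's Main Theorem for algebraic spaces
-/

set_option autoImplicit false
universe u

open CategoryTheory CategoryTheory.Limits AlgebraicGeometry Opposite

namespace K636.Zmt

open AlgSp K636.Decomp K636.Where K636.QfLocus K636.NormLocal K636.QcqsOver

variable {S : Scheme.{u}}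

/-- For `f` quasi-finite and separated the map to the relative normalization is an open immersion. -/
theorem openImmersion_norm {X Y Y' : Space S} (f : X ⟶ Y) (ν : Y' ⟶ Y) (f' : X ⟶ Y')
    (hf1 : AlgSp.LocP (@LocallyQuasiFinite ⊓ @LocallyOfFiniteType) f.hom) (hf2 : AlgSp.IsQuasiCompactMor f.hom)
    (hf3 : AlgSp.IsSeparatedMor f.hom)
    (hn : AlgSp.IsRelNormalization f.hom ν.hom f'.hom) : RepWith @IsOpenImmersion f'.hom := by
  have hl : LocP @LocallyOfFiniteType f.hom := K597.locP_mono (fun _ _ _ h => h.2) hf1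
  obtain ⟨U', j, hj, H⟩ := K636.NormOpen.exists_open f ν f' ⟨hl, hf2⟩ hf3 hn
  obtain ⟨P, fst, snd, sq⟩ := exists_isPullback f' j
  obtain ⟨h1, h2⟩ := H P fst snd sq
  have h3 : qfSet f = Set.univ := (K636.QfLocus.locP_iff f).1 hf1
  have hfst : RepWith @IsOpenImmersion fst.hom := MorphismProperty.of_isPullback (P := RepWith _) sq.flip hj
  obtain ⟨g, hg⟩ := (Groth.Agent.S10194.result fst hfst (𝟙 X)).2 (by rw [h2, h3]; exact Set.subset_univ _)
  have hm := mono_of_repWith_open hfst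
  have hg' : g.hom ≫ fst.hom = 𝟙 _ := congrArg (·.hom) hg
  have hgi : IsIso g.hom := ⟨fst.hom, hg', by
    rw [← cancel_mono fst.hom, Category.assoc, hg', Category.comp_id, Category.id_comp]⟩
  have e : f'.hom = g.hom ≫ snd.hom ≫ j.hom := by
    rw [← sq.w, ← Category.assoc, hg', Category.id_comp]
  rw [e]
  exact (RepWith @IsOpenImmersion).comp_mem _ _ (repWith_of_isIso _ _)
    ((RepWith @IsOpenImmersion).comp_mem _ _ (repWith_of_isIso _ _) hj)

theorem isSeparatedMor_of_finite {X Y : Space S} {π : X ⟶ Y} (hπ : IsFiniteMor π.hom) : IsSeparatedMor π.hom := by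
  have h := (Groth.Agent.S10267.result π).2.1 hπ
  exact (Groth.Agent.S9905.result π h.1).1.2 (K609.Points.repWith_mono (fun _ h => by have := h; infer_instance) h)

theorem isQuasiSeparatedSp_of_finite {X Y : Space S} {π : X ⟶ Y} (hπ : IsFiniteMor π.hom)
    (hY : IsQuasiSeparatedSp Y.obj) : IsQuasiSeparatedSp X.obj :=
  isQuasiSeparatedSp_of_mor (isQuasiSeparatedMor_of_sep (isSeparatedMor_of_finite hπ)) hY

/-- Zariski's Main Theorem. -/
theorem exists_factor [QuasiSeparatedSpace ↥S] {X Y : Space S} (f : X ⟶ Y)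
    (hf1 : AlgSp.LocP (@LocallyQuasiFinite ⊓ @LocallyOfFiniteType) f.hom) (hf2 : AlgSp.IsQuasiCompactMor f.hom)
    (hf3 : AlgSp.IsSeparatedMor f.hom) (hY1 : AlgSp.IsQuasiCompactSp Y.obj) (hY2 : AlgSp.IsQuasiSeparatedSp Y.obj) :
    ∃ (T : AlgSp.Space S) (j : X ⟶ T) (π : T ⟶ Y), j ≫ π = f ∧
      AlgSp.RepWith @IsOpenImmersion j.hom ∧ AlgSp.IsQuasiCompactMor j.hom ∧ AlgSp.IsFiniteMor π.hom := by
  have hl : LocP @LocallyOfFiniteType f.hom := K597.locP_mono (fun _ _ _ h => h.2) hf1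
  obtain ⟨Y', ν, f', hn⟩ := Groth.Agent.S10295.result f hf2 (isQuasiSeparatedMor_of_sep hf3)
  have hf' := openImmersion_norm f ν f' hf1 hf2 hf3 hn
  obtain ⟨I, _, _, _, D, t, c, hc, e, hD, hDa, hfin, hcomp⟩ :=
    Groth.Agent.S10033.result S ν hn.2.1 hY1 hY2
  have : IsFiltered I := inferInstance
  have : IsCofiltered Iᵒᵖ := isCofiltered_op_of_isFiltered I
  have hX1 : IsQuasiCompactSp X.obj := isQuasiCompactSp_of_mor hf2 Y.property hY1
  have hDs : ∀ i, IsQuasiSeparatedSp (D.obj i) := fun i =>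
    isQuasiSeparatedSp_of_finite (X := ⟨D.obj i, hD i⟩) (π := ObjectProperty.homMk (t.app i)) (hfin i).1 hY2
  let i₁ : Iᵒᵖ := op (Classical.arbitrary I)
  have hcompf : ∀ i, (f'.hom ≫ e.inv) ≫ c.π.app i ≫ t.app i = f.hom := fun i => by
    rw [Category.assoc, hcomp, hn.1]
  have hy : RepWith @IsImmersion (f'.hom ≫ e.inv) :=
    K610.OpenImm.repWith_isImmersion_of_open ((RepWith @IsOpenImmersion).comp_mem _ _ hf' (repWith_of_isIso _ _))
  obtain ⟨i₀, hi₀⟩ := Groth.Agent.S10010.result S Y D hD t hDa c hc hDs X hX1 (f'.hom ≫ e.inv) hy i₁ (by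
    rw [hcompf]; exact hl)
  let Z : Space S := ⟨D.obj i₀, hD i₀⟩
  let z : X ⟶ Z := ObjectProperty.homMk ((f'.hom ≫ e.inv) ≫ c.π.app i₀)
  have hz : RepWith @IsImmersion z.hom := hi₀ i₀ (𝟙 _)
  obtain ⟨T, j, k, hjk, hj, hk⟩ := Groth.Agent.S9935.result z hz
    (K596.QC2.isQuasiCompactMor_of_qc_of_qs X.property Z.property z.hom hX1 (hDs i₀))
  refine ⟨T, j, k ≫ ObjectProperty.homMk (t.app i₀), ?_, hj, ?_, isFiniteMor_closed_comp hk (hfin i₀).1⟩
  · rw [← Category.assoc, hjk]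
    ext1
    exact (Category.assoc _ _ _).trans (hcompf i₀)
  · refine K596.QC2.isQuasiCompactMor_of_qc_of_qs X.property T.property j.hom hX1 ?_
    refine isQuasiSeparatedSp_of_mor (f := k.hom) ?_ (hDs i₀)
    have h1 : IsSeparatedMor k.hom := (Groth.Agent.S9905.result k hk.1).1.2
      (K609.Points.repWith_mono (fun _ h => by have := h; infer_instance) hk)
    exact isQuasiSeparatedMor_of_sep h1

end K636.Zmt
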