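import Groth.Agent.AlgSp.K636.Zmt
import Groth.Agent.AlgSp.K636.LimPb
import Groth.Agent.AlgSp.K610.Sub
import Groth.Agent.AlgSp.K597.Affine
import Groth.Agent.S10034
import Groth.Agent.S10086
import Groth.Agent.S10011

/-!
# Zariski's Main Theorem for algebraic spaces, finitely presented case
-/

set_option autoImplicit false
universe u

open CategoryTheory CategoryTheory.Limits AlgebraicGeometry Opposite

namespace K636.ZmtLfp

open AlgSp K636.Decomp K636.Where K636.QfLocus K636.NormLocal K636.QcqsOver K636.Zmt K636.NormSplit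

variable {S : Scheme.{u}}

/-- Zariski's Main Theorem, finitely presented case. -/
theorem exists_factor_lfp [QuasiSeparatedSpace ↥S] {X Y : Space S} (f : X ⟶ Y)
    (hf1 : AlgSp.LocP (@LocallyQuasiFinite ⊓ @LocallyOfFiniteType) f.hom) (hf2 : AlgSp.IsQuasiCompactMor f.hom)
    (hf3 : AlgSp.IsSeparatedMor f.hom) (hf4 : AlgSp.LocP @LocallyOfFinitePresentation f.hom)
    (hY1 : AlgSp.IsQuasiCompactSp Y.obj) (hY2 : AlgSp.IsQuasiSeparatedSp Y.obj) :
    ∃ (T : AlgSp.Space S) (j : X ⟶ T) (π : T ⟶ Y), j ≫ π = f ∧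
      AlgSp.RepWith @IsOpenImmersion j.hom ∧ AlgSp.IsQuasiCompactMor j.hom ∧ AlgSp.IsFiniteMor π.hom ∧
        AlgSp.IsFinitePresentationMor π.hom := by
  obtain ⟨T, j, π, hjπ, hj, hjq, hπ⟩ := exists_factor f hf1 hf2 hf3 hY1 hY2
  obtain ⟨I, _, _, _, D, t, c, hc, e, hD, hDc, hfin, hcomp⟩ := Groth.Agent.S10034.result S π hπ hY1 hY2
  have : IsFiltered I := inferInstance
  have : IsCofiltered Iᵒᵖ := isCofiltered_op_of_isFiltered I
  have hX1 : IsQuasiCompactSp X.obj := isQuasiCompactSp_of_mor hf2 Y.property hY1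
  have hDs : ∀ i, IsQuasiSeparatedSp (D.obj i) := fun i =>
    isQuasiSeparatedSp_of_finite (X := ⟨D.obj i, hD i⟩) (π := ObjectProperty.homMk (t.app i)) (hfin i).1 hY2
  have hDq : ∀ i, IsQuasiCompactSp (D.obj i) := fun i =>
    isQuasiCompactSp_of_mor (hfin i).2.2.1 Y.property hY1
  have hDa : ∀ (i j : Iᵒᵖ) (φ : i ⟶ j), AlgSp.IsAffineMor (D.map φ) := fun i j φ =>
    K597.Affine.isAffineMor_iff.2 (K609.Points.repWith_mono (fun _ h => by have := h; infer_instance) (hDc i j φ))
  have hcompf : ∀ i, (j.hom ≫ e.inv) ≫ c.π.app i ≫ t.app i = f.hom := fun i => by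
    rw [Category.assoc, hcomp, ← hjπ]
    rfl
  have hje : RepWith @IsOpenImmersion (j.hom ≫ e.inv) :=
    (RepWith @IsOpenImmersion).comp_mem _ _ hj (repWith_of_isIso _ _)
  obtain ⟨i, Ui, ji, q, hji, hUi, sq⟩ := Groth.Agent.S10086.result S D hD hDa hDq hDs c hc X.obj (j.hom ≫ e.inv) hje hX1
  have hUia : IsAlgSpace Ui := by
    have := mono_of_repWith_open hji
    exact K610.Sub.isAlgSpace_of_mono hji.1 (hD i)
  have hfst : ∀ k : Over i, RepWith @IsOpenImmersion (LimPb.fst i ji k) := fun k =>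
    MorphismProperty.of_isPullback (P := RepWith _) (LimPb.isPullback i ji k).flip hji
  have hE : ∀ k, IsAlgSpace ((LimPb.E i ji).obj k) := fun k =>
    isAlgSpace_pullback (hD _) hUia (hD _) (LimPb.isPullback i ji k)
  let tE : LimPb.E i ji ⟶ (Functor.const (Over i)).obj Y.obj :=
    { app := fun k => LimPb.fst i ji k ≫ t.app k.left
      naturality := fun k l g => by
        change (LimPb.E i ji).map g ≫ LimPb.fst i ji l ≫ t.app l.left = (LimPb.fst i ji k ≫ t.app k.left) ≫ 𝟙 _
        rw [LimPb.map_fst_assoc, Category.comp_id]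
        congr 1
        have := t.naturality g.left
        exact this.trans (Category.comp_id _) }
  have hEc : ∀ (k l : Over i) (φ : k ⟶ l), RepWith @IsClosedImmersion ((LimPb.E i ji).map φ) := fun k l φ =>
    MorphismProperty.of_isPullback (P := RepWith _) (LimPb.isPullback_map i ji φ) (hDc _ _ _)
  have hEq : ∀ k, IsQuasiCompactSp ((LimPb.E i ji).obj k) := fun k => by
    have h1 : RepWith @IsClosedImmersion (LimPb.snd i ji k) :=
      MorphismProperty.of_isPullback (P := RepWith _) (LimPb.isPullback i ji k) (hDc _ _ _)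
    exact K596.QC.isQuasiCompactSp_of_repWith hUi
      (K609.Points.repWith_mono (fun _ h => by have := h; infer_instance) h1)
  have hft : ∀ k, LocP @LocallyOfFiniteType (tE.app k) := fun k => by
    refine K597.locP_precomp (K610.OpenImm.repWith_etale_of_open (hfst k)) ?_
    exact K597.locP_mono (fun _ _ f h => by have := h; infer_instance) (hfin k.left).2.1
  obtain ⟨k₀, hk₀⟩ := Groth.Agent.S10011.result S Y (LimPb.E i ji) hE tE hEc (LimPb.cone i ji sq)
    (LimPb.isLimit i ji sq hc) hEq hft (Over.mk (𝟙 i)) (by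
      change LocP _ (LimPb.proj i ji sq (Over.mk (𝟙 i)) ≫ LimPb.fst i ji (Over.mk (𝟙 i)) ≫ t.app i)
      rw [LimPb.proj_fst_assoc]
      exact (hcompf i).symm ▸ hf4)
  have hiso : IsIso (LimPb.proj i ji sq k₀) := hk₀ k₀ (𝟙 _)
  have h1 : RepWith @IsOpenImmersion ((j.hom ≫ e.inv) ≫ c.π.app k₀.left) := by
    rw [← LimPb.proj_fst i ji sq k₀]
    exact (RepWith @IsOpenImmersion).comp_mem _ _ (repWith_of_isIso _ _) (hfst k₀)
  let Z : Space S := ⟨D.obj k₀.left, hD _⟩
  let z : X ⟶ Z := ObjectProperty.homMk ((j.hom ≫ e.inv) ≫ c.π.app k₀.left)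
  refine ⟨Z, z, ObjectProperty.homMk (t.app k₀.left), ?_, h1,
    K596.QC2.isQuasiCompactMor_of_qc_of_qs X.property Z.property z.hom hX1 (hDs _), (hfin _).1, (hfin _).2⟩
  ext1
  exact (Category.assoc _ _ _).trans (hcompf _)

end K636.ZmtLfp
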